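import Cfsg.Agent.H756.PU.AsmGen
import Cfsg.Agent.H38.P4.Main_mg_m3
import Cfsg.Agent.H294.PU.Gen_m3
import Cfsg.Agent.Lib.FinFast
import Cfsg.Agent.H781.Realized
import Cfsg.Agent.H767.PU.Card_m3
import Cfsg.Agent.H659.PU.Over_m3
import Cfsg.Agent.H815.P4.Base_mg
import Cfsg.Agent.H815.P4.Real_mg
import Cfsg.Agent.H805.PU.Main_m3
import Cfsg.Agent.H802.FusEss
import Mathlib
import Cfsg.Agent.H956.Co1P.Dat
import Cfsg.Agent.SporadicA.LeechMin
import Cfsg.Agent.Lib.ListFast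
import Cfsg.Agent.FastGrp
import Cfsg.Agent.Prune
set_option linter.all false

section
prune_inst 0x7f00000000000000000000000000000000000000000000000000000000000000000000000000000000000000000000000000000000000000000000000000000000000000000000000000000000000000003fffffffffffffffffffffffffffbeffbdffffffff

section
prune_inst 0xfcfcf9aeb8bddfdfff7e7ffed9dffc39d05fffffdffb4bffe0e1ff0fdf030a19c12bad9de050fd1ef6629430b87853f9ffceffee6bdc7ffffd5ff41ffbee0ff5f7b588511488340fbc0ff703f07f8e7f000000000000000000000000000000004200000000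

-- part: H776/P4/Asm_mg
section
prune_inst 0x30306114340002000000001060003c62fa0000020048000000a00d020481064248000020ba8004100002884420380060011000000200000000000400011c008000a01204a048a000000088000004000000000000000000000000000000000000000000000
set_option linter.all false
open scoped Cfsg.Agent.FastGrp

-- part: H776/P4/Asm
section
/-!
# S5210: the assembly, common part and the case `q > 3`
-/

set_option autoImplicit false

namespace Cfsg.Agent.H776.P4

open Cfsg Cfsg.FusionSystem Cfsg.Agent.H802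
open Cfsg.Agent.H756.PU (HypK Ess Inv Com NormAut TIAut AF)
open Cfsg.Agent.H756

universe u v

/-- the generic pieces (engine) -/
structure Eng : Prop where
  ess : PU.StEss.{u}
  ovr : PU.StOver.{u}
  con : PU.StCon.{u}
  same : PU.StSame.{u}
  compl : PU.StCompl.{u}
  tw : StTwist2.{u}
  noOver : StNoOver.{u}

/-- the pieces for all `q` -/
structure Pcs : Prop extends Eng.{u} where
  grp : StGrp.{u}
  e1 : StE1.{u}
  e2 : StE2.{u}
  e3 : StE3.{u}
  e4 : StE4.{u}
  ti : StTI.{u}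
  par : StPar.{u}
  pos : StPos.{u}
  v : StV.{u}
  real : StReal.{u}

section

variable {K : Type u} [Field K] [StarRing K] {p n : ℕ}

theorem finite_PG (H : Pcs.{u}) (hK : HypK K p n) : Finite (PG K) := by
  apply Nat.finite_of_card_ne_zero
  rw [(H.grp hK).1]
  exact pow_ne_zero _ (pow_ne_zero _ hK.pp.ne_zero)

theorem ti_Q (H : Pcs.{u}) (hK : HypK K p n) {F : FusionSystem (⊤ : Subgroup (PG K))} (hF : F.IsSaturated p) :
    TIAut (⊤ : Subgroup (PG K)) (F.autGroup (PQ K)) := by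
  have : Fact p.Prime := ⟨hK.pp⟩
  have hfin : Finite (PG K) := finite_PG H hK
  have hS : IsPGroup p (⊤ : Subgroup (PG K)) := (H.grp hK).2.1
  have hn := PU.top_le_normalizer_of_char ((H.ti hK).2 _ (Or.inr rfl)).2.2
  exact (H.ti hK).1 _ (autInducedBy_le_autGroup F le_top) (PU.syl_of_normal hS hF hn)

theorem ti_V (H : Pcs.{u}) (hK : HypK K p n) {F : FusionSystem (⊤ : Subgroup (PG K))} (hF : F.IsSaturated p)
    (hess : ∀ E, F.IsEssential p E → PV K ≤ E → E = PV K) :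
    TIAut (⊤ : Subgroup (PG K)) (F.autGroup (PV K)) := by
  have : Fact p.Prime := ⟨hK.pp⟩
  have hfin : Finite (PG K) := finite_PG H hK
  have hS : IsPGroup p (⊤ : Subgroup (PG K)) := (H.grp hK).2.1
  obtain ⟨h1, -, h3⟩ := (H.ti hK).2 _ (Or.inl rfl)
  exact H.noOver F (PV K) hS hF le_top (PU.top_le_normalizer_of_char h3) h1 hess (PU.inv_top_of_char h3)

/-- essential subgroups not containing `V` -/
theorem ess_not_V (H : Pcs.{u}) (hK : HypK K p n) {F : FusionSystem (⊤ : Subgroup (PG K))}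
    (hF : F.IsSaturated p) {E : Subgroup (PG K)} (hE : F.IsEssential p E) : PV K ≤ E ∨ E = PQ K := by
  have : Fact p.Prime := ⟨hK.pp⟩
  have hfin : Finite (PG K) := finite_PG H hK
  have hS : IsPGroup p (⊤ : Subgroup (PG K)) := (H.grp hK).2.1
  have he : Ess (⊤ : Subgroup (PG K)) E p (F.autGroup E) := H.ess F E hS hF hE
  by_cases hV : PV K ≤ E
  · exact Or.inl hV
  · right
    have hY := H.e1 hK he
    obtain ⟨hQ, hI⟩ := H.e3 hK he hY (H.e2 hK he hY hV)
    obtain ⟨hC, -, hchar⟩ := (H.ti hK).2 _ (Or.inr rfl)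
    exact H.ovr F (PQ K) E hS hF hE hQ (PU.top_le_normalizer_of_char hchar) hC (ti_Q H hK hF) hI

theorem ess_cases (H : Pcs.{u}) (hK : HypK K p n) (hq : 2 < p ^ n) {F : FusionSystem (⊤ : Subgroup (PG K))}
    (hF : F.IsSaturated p) {E : Subgroup (PG K)} (hE : F.IsEssential p E) : E = PV K ∨ E = PQ K := by
  have : Fact p.Prime := ⟨hK.pp⟩
  have hfin : Finite (PG K) := finite_PG H hK
  have hS : IsPGroup p (⊤ : Subgroup (PG K)) := (H.grp hK).2.1
  rcases ess_not_V H hK hF hE with h | h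
  · exact Or.inl (H.e4 hK hq (H.ess F E hS hF hE) h)
  · exact Or.inr h

/-- the normal form: `Aut_F(S) = Inn(S) D`, `D ≤ TP`, both parabolics non-normal, `Aut_F(V) = LamV D` -/
structure NF (p : ℕ) (F : FusionSystem (⊤ : Subgroup (PG K))) (D : Subgroup (MulAut (PG K))) : Prop where
  sat : F.IsSaturated p
  ess : ∀ E, F.IsEssential p E → E = PV K ∨ E = PQ K
  AF_eq : AF F = (MulAut.conj : PG K →* MulAut (PG K)).range ⊔ D
  parV : ParP p (PV K) (F.autGroup (PV K)) D
  parQ : ParP p (PQ K) (F.autGroup (PQ K)) D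
  tor : HasTorP D (fun t => t ^ 2) (fun t => (t * star t)⁻¹)
  eqV : EqLD (F.autGroup (PV K)) (LamV K) D

theorem par_of (H : Pcs.{u}) (hK : HypK K p n) {F : FusionSystem (⊤ : Subgroup (PG K))} (hF : F.IsSaturated p)
    (hess : ∀ E, F.IsEssential p E → E = PV K ∨ E = PQ K) {D : Subgroup (MulAut (PG K))} (hD : D ≤ TP K)
    (hDc : (Nat.card D).Coprime p) (hAF : AF F = (MulAut.conj : PG K →* MulAut (PG K)).range ⊔ D)
    {Q : Subgroup (PG K)} (hQ : Q = PV K ∨ Q = PQ K)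
    (hn : ¬ ∀ γ ∈ F.autGroup Q, NormAut (⊤ : Subgroup (PG K)) γ) : ParP p Q (F.autGroup Q) D := by
  have : Fact p.Prime := ⟨hK.pp⟩
  refine H.par hK F D Q hF hQ hD hDc hAF ?_ hn
  rcases hQ with rfl | rfl
  · refine ti_V H hK hF fun E hE hV => ?_
    rcases hess E hE with h | h
    · exact h
    · exfalso
      subst h
      have h1 : ({ r := 0, a := 0, b := 0, c := 1, ha := by simp, hc := by simp } : PG K) ∈ PV K := rfl
      have h2 : (1 : K) = 0 := hV h1
      exact one_ne_zero h2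
  · exact ti_Q H hK hF

/-- a system whose essential subgroups are among `V`, `Q` is realizable if one of the automizers is normal -/
theorem real_of_norm (H : Pcs.{u}) (hK : HypK K p n) {F : FusionSystem (⊤ : Subgroup (PG K))} (hF : F.IsSaturated p)
    (hess : ∀ E, F.IsEssential p E → E = PV K ∨ E = PQ K)
    {Q : Subgroup (PG K)} (hQ : Q = PV K ∨ Q = PQ K)
    (hn : ∀ γ ∈ F.autGroup Q, NormAut (⊤ : Subgroup (PG K)) γ) : F.IsRealizable p := by
  have : Fact p.Prime := ⟨hK.pp⟩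
  have hfin : Finite (PG K) := finite_PG H hK
  have hS : IsPGroup p (⊤ : Subgroup (PG K)) := (H.grp hK).2.1
  have hnE : ¬ F.IsEssential p Q := fun hE => PU.not_norm_of_ess (H.ess F Q hS hF hE) hn
  obtain ⟨Q', hQ', hu⟩ : ∃ Q', (Q' = PV K ∨ Q' = PQ K) ∧ ∀ E, F.IsEssential p E → E = Q' := by
    rcases hQ with h | h
    · refine ⟨PQ K, Or.inr rfl, fun E hE => ?_⟩
      rcases hess E hE with h1 | h1
      · rw [h1, ← h] at hE; exact absurd hE hnE
      · exact h1
    · refine ⟨PV K, Or.inl rfl, fun E hE => ?_⟩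
      rcases hess E hE with h1 | h1
      · exact h1
      · rw [h1, ← h] at hE; exact absurd hE hnE
  obtain ⟨hC, -, hchar⟩ := (H.ti hK).2 Q' hQ'
  exact H.con F Q' hS hF le_top (PU.top_le_normalizer_of_char hchar) hC hu (PU.inv_top_of_char hchar)

theorem card_map_conj {G : Type*} [Group G] (A : Subgroup G) (g : G) :
    Nat.card (A.map (MulAut.conj g).toMonoidHom) = Nat.card A :=
  (Nat.card_congr (A.equivMapOfInjective _ (MulAut.conj g).injective).toEquiv).symm

/-- the restriction of an automorphism of `PG K` to a characteristic subgroup -/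
theorem exists_res {Q : Subgroup (PG K)} (θ : MulAut (PG K)) (h : Q.map θ.toMonoidHom = Q) :
    ∃ t : MulAut Q, IsRP θ t := by
  refine ⟨(θ.subgroupMap Q).trans (MulEquiv.subgroupCongr h), fun e => ?_⟩
  rfl

theorem normAut_conj_iff {Q : Subgroup (PG K)} {θ : MulAut (PG K)} {t : MulAut Q} (ht : IsRP θ t) (γ : MulAut Q) :
    NormAut (⊤ : Subgroup (PG K)) (t * γ * t⁻¹) ↔ NormAut (⊤ : Subgroup (PG K)) γ := by
  have key : ∀ (θ' : MulAut (PG K)) (t' : MulAut Q), IsRP θ' t' → ∀ x ∈ autInducedBy (⊤ : Subgroup (PG K)) Q,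
      t' * x * t'⁻¹ ∈ autInducedBy (⊤ : Subgroup (PG K)) Q := by
    intro θ' t' h x hx
    obtain ⟨g, -, hg⟩ := (mem_autInducedBy_iff _ _ _).1 hx
    refine (mem_autInducedBy_iff _ _ _).2 ⟨θ' g, trivial, fun y => ?_⟩
    have h1 := hg (t'⁻¹ y)
    have h2 : ((y : Q) : PG K) = θ' ((t'⁻¹ y : Q) : PG K) := by
      rw [← h, MulAut.apply_inv_self]
    rw [MulAut.mul_apply, MulAut.mul_apply, h, h1, h2]
    simp only [map_mul, map_inv]
  have ht' : IsRP θ⁻¹ t⁻¹ := by
    intro e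
    apply θ.injective
    rw [MulAut.apply_inv_self, ← ht, MulAut.apply_inv_self]
  constructor
  · intro h x hx
    have h1 := key _ _ ht' _ (h _ (key _ _ ht x hx))
    have h2 : t⁻¹ * (t * γ * t⁻¹ * (t * x * t⁻¹) * (t * γ * t⁻¹)⁻¹) * t⁻¹⁻¹ = γ * x * γ⁻¹ := by group
    rwa [h2] at h1
  · intro h x hx
    have h1 := key _ _ ht _ (h _ (key _ _ ht' x hx))
    have h2 : t * (γ * (t⁻¹ * x * t⁻¹⁻¹) * γ⁻¹) * t⁻¹ = t * γ * t⁻¹ * x * (t * γ * t⁻¹)⁻¹ := by group
    rwa [h2] at h1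

/-- the relation between a system and its twist, as far as needed -/
structure Tw (p : ℕ) (F F' : FusionSystem (⊤ : Subgroup (PG K))) (θ : MulAut (PG K)) : Prop where
  sat : F'.IsSaturated p
  real : F'.IsRealizable p ↔ F.IsRealizable p
  AF_eq : AF F' = (AF F).map (MulAut.conj θ).toMonoidHom
  ess : (∀ E, F.IsEssential p E → E = PV K ∨ E = PQ K) → ∀ E, F'.IsEssential p E → E = PV K ∨ E = PQ K
  aut : ∀ Q : Subgroup (PG K), (Q = PV K ∨ Q = PQ K) → ∀ t : MulAut Q, IsRP θ t →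
    F'.autGroup Q = (F.autGroup Q).map (MulAut.conj t).toMonoidHom
  norm : ∀ Q : Subgroup (PG K), (Q = PV K ∨ Q = PQ K) → ((∀ γ ∈ F'.autGroup Q, NormAut (⊤ : Subgroup (PG K)) γ) ↔
    ∀ γ ∈ F.autGroup Q, NormAut (⊤ : Subgroup (PG K)) γ)
  card : ∀ Q : Subgroup (PG K), (Q = PV K ∨ Q = PQ K) → Nat.card (F'.autGroup Q) = Nat.card (F.autGroup Q)

theorem exists_tw (H : Pcs.{u}) (hK : HypK K p n) {F : FusionSystem (⊤ : Subgroup (PG K))} (hF : F.IsSaturated p)
    (θ : MulAut (PG K)) : ∃ F', Tw p F F' θ := by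
  have : Fact p.Prime := ⟨hK.pp⟩
  have hfin : Finite (PG K) := finite_PG H hK
  obtain ⟨F', h1, h2, h3, h4, h5⟩ := H.tw F θ hF
  have hc := fun Q hQ => ((H.ti hK).2 Q hQ).2.2
  refine ⟨F', h1, h2, h3, ?_, fun Q _ t ht => h5 Q t ht, ?_, ?_⟩
  · intro h E hE
    have e1 : (E.map θ⁻¹.toMonoidHom).map θ.toMonoidHom = E := by
      rw [Subgroup.map_map]
      convert Subgroup.map_id E
      refine MonoidHom.ext fun x => ?_
      show θ (θ⁻¹ x) = x
      exact MulAut.apply_inv_self _ _ _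
    have e2 : F.IsEssential p (E.map θ⁻¹.toMonoidHom) := by
      rw [h4, e1]
      exact hE
    rcases h _ e2 with h6 | h6
    · left
      rw [← e1, h6]
      exact hc _ (Or.inl rfl) θ
    · right
      rw [← e1, h6]
      exact hc _ (Or.inr rfl) θ
  · intro Q hQ
    obtain ⟨t, ht⟩ := exists_res θ (hc Q hQ θ)
    rw [h5 Q t ht]
    constructor
    · intro h γ hγ
      rw [← normAut_conj_iff ht]
      exact h _ ⟨γ, hγ, rfl⟩
    · rintro h _ ⟨γ, hγ, rfl⟩
      exact (normAut_conj_iff ht γ).2 (h γ hγ)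
  · intro Q hQ
    obtain ⟨t, ht⟩ := exists_res θ (hc Q hQ θ)
    rw [h5 Q t ht, card_map_conj]

/-- normal form for `D` given -/
theorem nf_of_D (H : Pcs.{u}) (hK : HypK K p n) {F : FusionSystem (⊤ : Subgroup (PG K))} (hF : F.IsSaturated p)
    (hess : ∀ E, F.IsEssential p E → E = PV K ∨ E = PQ K) {D : Subgroup (MulAut (PG K))} (hD : D ≤ TP K)
    (hDc : (Nat.card D).Coprime p) (hAF : AF F = (MulAut.conj : PG K →* MulAut (PG K)).range ⊔ D)
    (hnV : ¬ ∀ γ ∈ F.autGroup (PV K), NormAut (⊤ : Subgroup (PG K)) γ)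
    (hnQ : ¬ ∀ γ ∈ F.autGroup (PQ K), NormAut (⊤ : Subgroup (PG K)) γ) :
    ∃ (ψ : K → K) (θ : MulAut (PG K)) (F' : FusionSystem (⊤ : Subgroup (PG K))), IsTh ψ θ ∧ Tw p F F' θ ∧ NF p F' D := by
  obtain ⟨htor, ψ, θ, t, hθ, hcomm, hres, heq⟩ :=
    H.v hK _ D (par_of H hK hF hess hD hDc hAF (Or.inl rfl) hnV)
  obtain ⟨F', hT⟩ := exists_tw H hK hF θ
  have hAF' : AF F' = (MulAut.conj : PG K →* MulAut (PG K)).range ⊔ D := by
    rw [hT.AF_eq, hAF, Subgroup.map_sup, PU.map_conj_range]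
    congr 1
    ext x
    constructor
    · rintro ⟨d, hd, rfl⟩
      have : MulAut.conj θ d = d := by
        rw [MulAut.conj_apply, hcomm d hd, mul_inv_cancel_right]
      show MulAut.conj θ d ∈ D
      rw [this]; exact hd
    · intro hx
      refine ⟨x, hx, ?_⟩
      show MulAut.conj θ x = x
      rw [MulAut.conj_apply, hcomm x hx, mul_inv_cancel_right]
  have hess' := hT.ess hess
  refine ⟨ψ, θ, F', hθ, hT, hT.sat, hess', hAF', ?_, ?_, htor, ?_⟩
  · exact par_of H hK hT.sat hess' hD hDc hAF' (Or.inl rfl) (fun h => hnV ((hT.norm _ (Or.inl rfl)).1 h))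
  · exact par_of H hK hT.sat hess' hD hDc hAF' (Or.inr rfl) (fun h => hnQ ((hT.norm _ (Or.inr rfl)).1 h))
  · rw [hT.aut _ (Or.inl rfl) t hres]
    exact heq

/-- the normal form -/
theorem exists_NF (H : Pcs.{u}) (hK : HypK K p n) {F : FusionSystem (⊤ : Subgroup (PG K))} (hF : F.IsSaturated p)
    (hess : ∀ E, F.IsEssential p E → E = PV K ∨ E = PQ K)
    (hnV : ¬ ∀ γ ∈ F.autGroup (PV K), NormAut (⊤ : Subgroup (PG K)) γ)
    (hnQ : ¬ ∀ γ ∈ F.autGroup (PQ K), NormAut (⊤ : Subgroup (PG K)) γ) :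
    ∃ (θ : MulAut (PG K)) (F' : FusionSystem (⊤ : Subgroup (PG K))) (D : Subgroup (MulAut (PG K))),
      Tw p F F' θ ∧ NF p F' D := by
  have : Fact p.Prime := ⟨hK.pp⟩
  have hfin : Finite (PG K) := finite_PG H hK
  have hS : IsPGroup p (⊤ : Subgroup (PG K)) := (H.grp hK).2.1
  obtain ⟨D0, hD0, hD0e⟩ := H.compl F hS hF
  obtain ⟨θ, hθ⟩ := H.pos hK D0 hD0
  obtain ⟨F1, h1⟩ := exists_tw H hK hF θ
  have hAF1 : AF F1 = (MulAut.conj : PG K →* MulAut (PG K)).range ⊔ D0.map (MulAut.conj θ).toMonoidHom := by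
    rw [h1.AF_eq, ← hD0e, Subgroup.map_sup, PU.map_conj_range]
  obtain ⟨ψ, θ2, F2, hψ, h2, hNF⟩ := nf_of_D H hK h1.sat (h1.ess hess) (D := D0.map (MulAut.conj θ).toMonoidHom)
    (by rintro _ ⟨d, hd, rfl⟩; exact hθ d hd) (by rw [card_map_conj]; exact hD0) hAF1
    (fun h => hnV ((h1.norm _ (Or.inl rfl)).1 h)) (fun h => hnQ ((h1.norm _ (Or.inr rfl)).1 h))
  refine ⟨θ2 * θ, F2, _, ⟨h2.sat, h2.real.trans h1.real, ?_, fun h => h2.ess (h1.ess h), ?_, ?_, ?_⟩, hNF⟩
  · rw [h2.AF_eq, h1.AF_eq, Subgroup.map_map, map_mul]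
    rfl
  · intro Q hQ t ht
    obtain ⟨t1, ht1⟩ := exists_res θ (((H.ti hK).2 Q hQ).2.2 θ)
    have ht2 : IsRP θ2 (t * t1⁻¹) := by
      intro e
      have e1 := ht (t1⁻¹ e)
      rw [MulAut.mul_apply, e1, MulAut.mul_apply, ← ht1, MulAut.apply_inv_self]
    rw [h2.aut Q hQ _ ht2, h1.aut Q hQ _ ht1, Subgroup.map_map]
    congr 1
    refine MonoidHom.ext fun x => ?_
    show t * t1⁻¹ * (t1 * x * t1⁻¹) * (t * t1⁻¹)⁻¹ = t * x * t⁻¹
    group
  · intro Q hQ
    exact (h2.norm Q hQ).trans (h1.norm Q hQ)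
  · intro Q hQ
    exact (h2.card Q hQ).trans (h1.card Q hQ)

/-- two systems in normal form with the same `D` and the same `Aut(Q)` are equal -/
theorem NF.eq_of (H : Pcs.{u}) (hK : HypK K p n) {F F' : FusionSystem (⊤ : Subgroup (PG K))}
    {D : Subgroup (MulAut (PG K))} (h : NF p F D) (h' : NF p F' D)
    (hQ : F.autGroup (PQ K) = F'.autGroup (PQ K)) : F = F' := by
  have : Fact p.Prime := ⟨hK.pp⟩
  have hfin : Finite (PG K) := finite_PG H hK
  have hS : IsPGroup p (⊤ : Subgroup (PG K)) := (H.grp hK).2.1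
  exact fusionSystem_ext (H.same F F' (PV K) (PQ K) hS h.sat h'.sat le_top le_top h.ess h'.ess
    (PU.autGroup_top_eq_of_AF (h.AF_eq.trans h'.AF_eq.symm))
    (Subgroup.ext fun γ => (h.eqV γ).trans (h'.eqV γ).symm) hQ)

theorem EqLD.eq {Q : Subgroup (PG K)} {Γ Γ' Lam : Subgroup (MulAut Q)} {D : Subgroup (MulAut (PG K))}
    (h : EqLD Γ Lam D) (h' : EqLD Γ' Lam D) : Γ = Γ' :=
  Subgroup.ext fun γ => (h γ).trans (h' γ).symm

/-- the realizable system in normal form for a given `D` -/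
theorem exists_real (H : Pcs.{u}) (hK : HypK K p n) {F : FusionSystem (⊤ : Subgroup (PG K))}
    {D : Subgroup (MulAut (PG K))} (h : NF p F D) (hT : HasTorK D) :
    ∃ F0 : FusionSystem (⊤ : Subgroup (PG K)), NF p F0 D ∧ F0.IsRealizable p ∧
      (∀ γ ∈ F0.autGroup (PQ K), ∃ l ∈ LamQ K, ∃ d ∈ D, ∃ δ : MulAut (PQ K), IsRP d δ ∧ γ = l * δ) := by
  have : Fact p.Prime := ⟨hK.pp⟩
  obtain ⟨F1, h1, h2, h3, h4, h5, h6, h7⟩ := H.real hK D h.parV.D_le h.parV.D_cop h.tor hT
  obtain ⟨ψ, θ, F0, hθ, hTw, hNF⟩ := nf_of_D H hK h1 h7 h.parV.D_le h.parV.D_cop h3 h4 h5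
  refine ⟨F0, hNF, hTw.real.2 h2, ?_⟩
  have hψ0 : ψ 0 = 0 := by
    have := hθ.add 0 0 (by simp) (by simp)
    simpa using this
  have hr : IsRP θ (1 : MulAut (PQ K)) := by
    intro e
    have hc : (e : PG K).c = 0 := e.2
    apply PG.ext
    · exact (hθ.r _).symm
    · show _ = (θ (e : PG K)).a
      rw [hθ.a, hc, hψ0, add_zero]
      rfl
    · exact (hθ.b _).symm
    · exact (hθ.c _).symm
  have h8 := hTw.aut _ (Or.inr rfl) 1 hr
  intro γ hγ
  rw [h8] at hγ
  obtain ⟨γ', hγ', rfl⟩ := hγ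
  have : (MulAut.conj (1 : MulAut (PQ K))).toMonoidHom γ' = γ' := by simp
  rw [this]
  exact h6 γ' hγ'

/-- `q > 3` -/
theorem real_gt (H : Pcs.{u}) (hQ : StQ.{u}) (hK : HypK K p n) (hq : 3 < p ^ n)
    {F : FusionSystem (⊤ : Subgroup (PG K))} (hF : F.IsSaturated p) : F.IsRealizable p := by
  have hess : ∀ E, F.IsEssential p E → E = PV K ∨ E = PQ K := fun E hE => ess_cases H hK (by omega) hF hE
  by_cases hnV : ∀ γ ∈ F.autGroup (PV K), NormAut (⊤ : Subgroup (PG K)) γ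
  · exact real_of_norm H hK hF hess (Or.inl rfl) hnV
  by_cases hnQ : ∀ γ ∈ F.autGroup (PQ K), NormAut (⊤ : Subgroup (PG K)) γ
  · exact real_of_norm H hK hF hess (Or.inr rfl) hnQ
  obtain ⟨θ, F', D, hTw, hNF⟩ := exists_NF H hK hF hess hnV hnQ
  obtain ⟨hT, hE⟩ := hQ hK hq _ D hNF.parQ hNF.tor
  obtain ⟨F0, h0, hR, -⟩ := exists_real H hK hNF hT
  obtain ⟨-, hE0⟩ := hQ hK hq _ D h0.parQ h0.tor
  have := hNF.eq_of H hK h0 (hE.eq hE0)
  rw [← hTw.real, this]
  exact hR

end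

end Cfsg.Agent.H776.P4
end

-- part: H71/P4/ThreeD
section
/-!
# S5210 (3D): the configurations of points in the plane of order three
-/

set_option autoImplicit false

namespace Cfsg.Agent.H71.P4

open Cfsg Cfsg.FusionSystem
open Cfsg.Agent.H756.PU (HypK Ess Inv Com NormAut TIAut AF)
open Cfsg.Agent.H776.P4

universe u

/-! ### The combinatorics of `AG(2, 3)` -/

/-- the configurations in coordinates -/
def cfgB (T : Fin 6) (x : ZMod 3 × ZMod 3) : Bool :=
  match T with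
  | 0 => x.1 = 0 ∧ x.2 = 0
  | 1 => x.2 = 0
  | 2 => x.1 = 0
  | 3 => x.1 = x.2 ∧ x.1 ≠ 0
  | 4 => x.1 = -x.2 ∧ x.1 ≠ 0
  | 5 => x.1 = 0 ∨ x.2 = 0

/-- the elements of the dihedral group in coordinates: `x ↦ ι ^ k * x` or `x ↦ ι ^ k * star x` -/
def mapB (k : Fin 4) (e : Bool) (x : ZMod 3 × ZMod 3) : ZMod 3 × ZMod 3 :=
  let y : ZMod 3 × ZMod 3 := if e then (x.1, -x.2) else x
  match k with
  | 0 => y
  | 1 => (-y.2, y.1)
  | 2 => (-y.1, -y.2)
  | 3 => (y.2, -y.1)

/-- nine booleans as a function -/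
def tab (b00 b01 b02 b10 b11 b12 b20 b21 b22 : Bool) (x : ZMod 3 × ZMod 3) : Bool :=
  match x.1, x.2 with
  | (0 : Fin 3), (0 : Fin 3) => b00
  | (0 : Fin 3), (1 : Fin 3) => b01
  | (0 : Fin 3), (2 : Fin 3) => b02
  | (1 : Fin 3), (0 : Fin 3) => b10
  | (1 : Fin 3), (1 : Fin 3) => b11
  | (1 : Fin 3), (2 : Fin 3) => b12
  | (2 : Fin 3), (0 : Fin 3) => b20
  | (2 : Fin 3), (1 : Fin 3) => b21
  | (2 : Fin 3), (2 : Fin 3) => b22

/-- closed in the square directions -/
def clo (p : ZMod 3 × ZMod 3 → Bool) : Prop :=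
  (∀ a b : ZMod 3, p (a, b) → p (a + 1, b) → p (a - 1, b)) ∧
  (∀ a b : ZMod 3, p (a, b) → p (a, b + 1) → p (a, b - 1)) ∧
  (∀ a b : ZMod 3, ¬ (p (a, b) ∧ p (a + 1, b + 1) ∧ p (a - 1, b - 1))) ∧
  (∀ a b : ZMod 3, ¬ (p (a, b) ∧ p (a + 1, b - 1) ∧ p (a - 1, b + 1)))

instance (p : ZMod 3 × ZMod 3 → Bool) : Decidable (clo p) := by unfold clo; infer_instance

/-- the conclusion -/
def cnc (p : ZMod 3 × ZMod 3 → Bool) : Prop :=
  ∃ (a b : ZMod 3) (T : Fin 6), (∀ x y : ZMod 3, p (x, y) = cfgB T (x - a, y - b)) ∧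
    ∀ (k : Fin 4) (e : Bool), (∀ x y : ZMod 3, p (x, y) → p (mapB k e (x, y))) → mapB k e (a, b) = (a, b)

instance (p : ZMod 3 × ZMod 3 → Bool) : Decidable (cnc p) := by unfold cnc; infer_instance

private noncomputable def _root_.Cfsg.Agent.LsF.fd3ea4c_0 : {f // @Cfsg.Agent.H71.P4.tab = f} := ⟨_, by first | (delta Cfsg.Agent.H71.P4.tab; (try delta Cfsg.Agent.H71.P4.tab.match_1); (try delta Fin.casesOn Nat.casesOn Nat.le.casesOn); exact rfl) | exact rfl⟩
private noncomputable def _root_.Cfsg.Agent.LsF.fd3ea4c_1 : {f // @Cfsg.Agent.H71.P4.cfgB = f} := ⟨_, by first | (delta Cfsg.Agent.H71.P4.cfgB; rewrite [Cfsg.Agent.LsF.zneg_pat, Cfsg.Agent.LsF.zdecEq_eq, Cfsg.Agent.LsF.dAnd_eq, Cfsg.Agent.LsF.dOr_eq, Cfsg.Agent.LsF.dNot_eq, Cfsg.Agent.LsF.decide_eq]; (try delta Cfsg.Agent.H71.P4.cfgB.match_1); (try delta Fin.casesOn Nat.casesOn Nat.le.casesOn); exact rfl) | exact rfl⟩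
private noncomputable def _root_.Cfsg.Agent.LsF.fd3ea4c_2 : {f // @Cfsg.Agent.H71.P4.mapB = f} := ⟨_, by first | (delta Cfsg.Agent.H71.P4.mapB; rewrite [Cfsg.Agent.LsF.zneg_pat, Cfsg.Agent.LsF.dBoolEq_eq, Cfsg.Agent.LsF.ite_eq]; (try delta Cfsg.Agent.H71.P4.mapB.match_1); (try delta Fin.casesOn Nat.casesOn Nat.le.casesOn); exact rfl) | exact rfl⟩
theorem comb_tab : ∀ b00 b01 b02 b10 b11 b12 b20 b21 b22 : Bool,
    (b00 || b01 || b02 || b10 || b11 || b12 || b20 || b21 || b22) →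
    clo (tab b00 b01 b02 b10 b11 b12 b20 b21 b22) → cnc (tab b00 b01 b02 b10 b11 b12 b20 b21 b22) := by
  (refine of_decide_eq_true ?_; (try (delta Cfsg.Agent.H71.P4.clo Cfsg.Agent.H71.P4.cnc Cfsg.Agent.H71.P4.instDecidableClo Cfsg.Agent.H71.P4.instDecidableCnc; rewrite [Cfsg.Agent.LsF.fd3ea4c_0.2, Cfsg.Agent.LsF.fd3ea4c_1.2, Cfsg.Agent.LsF.fd3ea4c_2.2, Cfsg.Agent.LsF.zadd_pat, Cfsg.Agent.LsF.zsub_pat, Cfsg.Agent.LsF.zdecEq_eq, Cfsg.Agent.LsF.dProdEq_eq, Cfsg.Agent.LsF.zFintype_eq, Cfsg.Agent.LsF.dForall_eq, Cfsg.Agent.LsF.dExists_eq, Cfsg.Agent.LsF.or_eq, Cfsg.Agent.LsF.dAnd_eq, Cfsg.Agent.LsF.dNot_eq, Cfsg.Agent.LsF.dBoolEq_eq, Cfsg.Agent.LsF.dForallFin_eq, Cfsg.Agent.LsF.dExistsFin_eq, Cfsg.Agent.LsF.dAllP_eq, Cfsg.Agent.LsF.decide_eq])); decide +kernel)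

theorem comb (p : ZMod 3 × ZMod 3 → Bool) (hne : ∃ x, p x) (h : clo p) : cnc p := by
  have hp : p = tab (p (0, 0)) (p (0, 1)) (p (0, 2)) (p (1, 0)) (p (1, 1)) (p (1, 2)) (p (2, 0)) (p (2, 1)) (p (2, 2)) := by
    funext x
    obtain ⟨a, b⟩ := x
    have ha : a = 0 ∨ a = 1 ∨ a = 2 := by revert a; decide
    have hb : b = 0 ∨ b = 1 ∨ b = 2 := by revert b; decide
    rcases ha with rfl | rfl | rfl <;> rcases hb with rfl | rfl | rfl <;> rfl
  rw [hp]
  apply comb_tab
  · obtain ⟨⟨a, b⟩, hx⟩ := hne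
    have hc : ∀ c : ZMod 3, c = 0 ∨ c = 1 ∨ c = 2 := by decide
    have ha := hc a
    have hb := hc b
    rcases ha with rfl | rfl | rfl <;> rcases hb with rfl | rfl | rfl <;> simp [hx]
  · rw [← hp]; exact h

/-! ### The field with nine elements -/

section
variable {K : Type u} [Field K] [StarRing K]

theorem three_of {p n : ℕ} (hK : HypK K p n) (hq : p ^ n = 3) : p = 3 := by
  have h1 : p ∣ 3 := by
    rw [← hq]
    exact dvd_pow_self p (by have := hK.hn; omega)
  exact (Nat.prime_dvd_prime_iff_eq hK.pp Nat.prime_three).1 h1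

/-- the facts used about the field -/
structure Nine (K : Type u) [Field K] [StarRing K] (ι : K) : Prop where
  char : CharP K 3
  card : Nat.card K = 9
  st : ∀ x : K, star x = x ^ 3
  ii : ι * ι = -1

theorem nine_of {p n : ℕ} (hK : HypK K p n) (hq : p ^ n = 3) {ι : K} (hι : ι * ι = -1) : Nine K ι := by
  have h3 := three_of hK hq
  refine ⟨?_, ?_, ?_, hι⟩
  · have := hK.char; rwa [h3] at this
  · rw [hK.card, hq]; norm_num
  · intro x; rw [hK.star_eq, hq]

variable {ι : K}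

namespace Nine

variable (h : Nine K ι)
include h

theorem three : (3 : K) = 0 := by
  have := h.char
  exact_mod_cast CharP.cast_eq_zero K 3

theorem st_ι : star ι = -ι := by
  rw [h.st]
  linear_combination ι * h.ii

theorem st_st (x : K) : (x ^ 3) ^ 3 = x := by
  rw [← h.st, ← h.st, star_star]

theorem pow_eight {x : K} (hx : x ≠ 0) : x ^ 8 = 1 := by
  have h1 := h.st_st x
  apply mul_left_cancel₀ hx
  linear_combination h1

theorem ι_ne : ι ≠ 0 := by
  rintro rfl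
  have := h.ii
  simp at this

/-- the coordinates -/
noncomputable def co (x : ZMod 3 × ZMod 3) : K :=
  haveI := h.char
  ZMod.castHom (dvd_refl 3) K x.1 + ZMod.castHom (dvd_refl 3) K x.2 * ι

theorem co_add (x y : ZMod 3 × ZMod 3) : h.co (x + y) = h.co x + h.co y := by
  simp only [co, Prod.fst_add, Prod.snd_add, map_add]; ring

theorem co_neg (x : ZMod 3 × ZMod 3) : h.co (-x) = - h.co x := by
  simp only [co, Prod.fst_neg, Prod.snd_neg, map_neg]; ring

theorem co_sub (x y : ZMod 3 × ZMod 3) : h.co (x - y) = h.co x - h.co y := by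
  rw [sub_eq_add_neg, co_add, co_neg, sub_eq_add_neg]

theorem co_00 : h.co (0, 0) = 0 := by simp [co]
theorem co_10 : h.co (1, 0) = 1 := by simp only [co, map_one, map_zero]; ring
theorem co_01 : h.co (0, 1) = ι := by simp only [co, map_one, map_zero]; ring

theorem co_inj : Function.Injective h.co := by
  have := h.char
  have hz : ∀ x : ZMod 3 × ZMod 3, h.co x = 0 → x = 0 := by
    rintro ⟨a, b⟩ hx
    simp only [co] at hx
    have hc : ∀ a : ZMod 3, star (ZMod.castHom (dvd_refl 3) K a) = ZMod.castHom (dvd_refl 3) K a := by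
      intro a
      rw [h.st, ← map_pow]
      congr 1
      revert a; decide
    have h2 : star (ZMod.castHom (dvd_refl 3) K a + ZMod.castHom (dvd_refl 3) K b * ι) = 0 := by
      rw [hx]; simp
    rw [star_add, star_mul', hc, hc, h.st_ι] at h2
    have h3 : (2 : K) * (ZMod.castHom (dvd_refl 3) K b * ι) = 0 := by linear_combination hx - h2
    have h2ne : (2 : K) ≠ 0 := by
      intro h2'
      have h3' := h.three
      have : (1 : K) = 0 := by linear_combination h3' - h2'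
      exact one_ne_zero this
    have h4 : ZMod.castHom (dvd_refl 3) K b = 0 := by
      rcases mul_eq_zero.1 h3 with h5 | h5
      · exact absurd h5 h2ne
      · rcases mul_eq_zero.1 h5 with h6 | h6
        · exact h6
        · exact absurd h6 h.ι_ne
    have h5 : ZMod.castHom (dvd_refl 3) K a = 0 := by
      rw [h4] at hx; linear_combination hx
    have hi : Function.Injective (ZMod.castHom (dvd_refl 3) K) := RingHom.injective _
    have h6 : b = 0 := hi (by rw [h4, map_zero])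
    have h7 : a = 0 := hi (by rw [h5, map_zero])
    rw [h6, h7]; rfl
  intro x y hxy
  have h1 := hz (x - y) (by rw [h.co_sub, hxy, sub_self])
  exact sub_eq_zero.1 h1

theorem co_bij : Function.Bijective h.co := by
  have hf : Finite K := Nat.finite_of_card_ne_zero (by rw [h.card]; norm_num)
  refine (Nat.bijective_iff_injective_and_card _).2 ⟨h.co_inj, ?_⟩
  rw [h.card, Nat.card_prod, Nat.card_zmod]

theorem castHom_eq (f : ZMod 3 →+* K) (a : ZMod 3) :
    haveI := h.char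
    ZMod.castHom (dvd_refl 3) K a = f a := by
  have := h.char
  rw [RingHom.ext_zmod (ZMod.castHom (dvd_refl 3) K) f]

/-- an automorphism of the field -/
theorem aut (τ : K ≃+* K) : (∀ x, τ x = x) ∨ ∀ x, τ x = star x := by
  have := h.char
  have hc : ∀ (σ : K →+* K) (a : ZMod 3), σ (ZMod.castHom (dvd_refl 3) K a) = ZMod.castHom (dvd_refl 3) K a := by
    intro σ a
    exact (h.castHom_eq (σ.comp (ZMod.castHom (dvd_refl 3) K)) a).symm
  have h1 : (τ ι - ι) * (τ ι + ι) = 0 := by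
    have : τ ι * τ ι = -1 := by rw [← map_mul, h.ii, map_neg, map_one]
    linear_combination this - h.ii
  rcases mul_eq_zero.1 h1 with h2 | h2
  · left
    intro x
    obtain ⟨⟨a, b⟩, rfl⟩ := h.co_bij.2 x
    simp only [co, map_add, map_mul]
    rw [show τ (ZMod.castHom (dvd_refl 3) K a) = _ from hc τ.toRingHom a,
      show τ (ZMod.castHom (dvd_refl 3) K b) = _ from hc τ.toRingHom b, sub_eq_zero.1 h2]
  · right
    intro x
    obtain ⟨⟨a, b⟩, rfl⟩ := h.co_bij.2 x
    have hs : ∀ a, star (ZMod.castHom (dvd_refl 3) K a) = ZMod.castHom (dvd_refl 3) K a := fun a =>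
      hc (starRingEnd K) a
    simp only [co, map_add, map_mul, star_add, star_mul']
    rw [show τ (ZMod.castHom (dvd_refl 3) K a) = _ from hc τ.toRingHom a,
      show τ (ZMod.castHom (dvd_refl 3) K b) = _ from hc τ.toRingHom b, hs, hs, h.st_ι, eq_neg_of_add_eq_zero_left h2]

theorem st_co (a b : ZMod 3) : star (h.co (a, b)) = h.co (a, -b) := by
  have := h.char
  have hs : ∀ a, star (ZMod.castHom (dvd_refl 3) K a) = ZMod.castHom (dvd_refl 3) K a := fun a =>
    (h.castHom_eq ((starRingEnd K).comp (ZMod.castHom (dvd_refl 3) K)) a).symm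
  simp only [co, star_add, star_mul', hs, h.st_ι, map_neg]
  ring

/-- the action of the elements of `TP` in coordinates -/
theorem act_co {s l : K} (τ : K ≃+* K) (hs : s ≠ 0) (hl : l ≠ 0) (hl' : star l = l) :
    ∃ (k : Fin 4) (e : Bool), ∀ x, actK s l τ (h.co x) = h.co (mapB k e x) := by
  have hss : star s ≠ 0 := by simpa only [_root_.ne_eq, _root_.star_eq_zero] using hs
  have hw : (l * s * (star s)⁻¹) * s ^ 2 = l := by
    rw [h.st, show l * s * (s ^ 3)⁻¹ * s ^ 2 = l * (s ^ 3 * (s ^ 3)⁻¹) by ring, mul_inv_cancel₀ (pow_ne_zero 3 hs), mul_one]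
  have hl2 : l ^ 2 = 1 := by
    rw [h.st] at hl'
    apply mul_left_cancel₀ hl
    linear_combination hl'
  have hw4 : (l * s * (star s)⁻¹) ^ 4 = 1 := by
    have h8 := h.pow_eight hs
    have h1 : ((l * s * (star s)⁻¹) * s ^ 2) ^ 4 = (l ^ 2) ^ 2 := by rw [hw]; ring
    rw [mul_pow, ← pow_mul, h8, mul_one, hl2, one_pow] at h1
    exact h1
  have hτ : ∃ e : Bool, ∀ x, τ (h.co x) = h.co (if e then (x.1, -x.2) else x) := by
    rcases h.aut τ with h1 | h1
    · exact ⟨false, fun x => by rw [h1]; rfl⟩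
    · exact ⟨true, fun x => by rw [h1]; exact h.st_co x.1 x.2⟩
  obtain ⟨e, he⟩ := hτ
  have hfac : (l * s * (star s)⁻¹ - 1) * ((l * s * (star s)⁻¹ + 1) * ((l * s * (star s)⁻¹ - ι) *
      (l * s * (star s)⁻¹ + ι))) = 0 := by
    linear_combination hw4 - ((l * s * (star s)⁻¹) ^ 2 - 1) * h.ii
  rcases mul_eq_zero.1 hfac with h1 | h1
  · refine ⟨0, e, fun x => ?_⟩
    rw [actK, sub_eq_zero.1 h1, one_mul, he]
    rfl
  rcases mul_eq_zero.1 h1 with h1 | h1
  · refine ⟨2, e, fun x => ?_⟩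
    rw [actK, eq_neg_of_add_eq_zero_left h1, he]
    show _ = h.co (-(if e then (x.1, -x.2) else x))
    rw [h.co_neg]; ring
  rcases mul_eq_zero.1 h1 with h1 | h1
  · refine ⟨1, e, fun x => ?_⟩
    rw [actK, sub_eq_zero.1 h1, he]
    generalize hy : (if e then (x.1, -x.2) else x) = y
    show _ = h.co (-(if e then (x.1, -x.2) else x).2, (if e then (x.1, -x.2) else x).1)
    rw [hy]
    simp only [co, map_neg]
    have := h.char
    linear_combination (ZMod.castHom (dvd_refl 3) K y.2) * h.ii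
  · refine ⟨3, e, fun x => ?_⟩
    rw [actK, eq_neg_of_add_eq_zero_left h1, he]
    generalize hy : (if e then (x.1, -x.2) else x) = y
    show _ = h.co ((if e then (x.1, -x.2) else x).2, -(if e then (x.1, -x.2) else x).1)
    rw [hy]
    simp only [co, map_neg]
    have := h.char
    linear_combination -(ZMod.castHom (dvd_refl 3) K y.2) * h.ii

theorem co_eq {x y : ZMod 3 × ZMod 3} {z : K} (hz : h.co y = z) : h.co x = z ↔ x = y := by
  rw [← hz]; exact h.co_inj.eq_iff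

theorem mem_cfg (T : Fin 6) (x : ZMod 3 × ZMod 3) : h.co x ∈ Cfg ι T ↔ cfgB T x = true := by
  have e0 := h.co_eq (x := x) h.co_00
  have e1 := h.co_eq (x := x) h.co_10
  have e3 := h.co_eq (x := x) h.co_01
  have e2 := h.co_eq (x := x) (y := (-1, 0)) (z := -1) (by rw [← h.co_10, ← h.co_neg]; rfl)
  have e4 := h.co_eq (x := x) (y := (0, -1)) (z := -ι) (by rw [← congrArg Neg.neg h.co_01, ← h.co_neg]; rfl)
  have f5 : h.co (1, 1) = 1 + ι := by rw [← congrArg₂ (· + ·) h.co_10 h.co_01, ← h.co_add]; rfl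
  have f7 : h.co (1, -1) = 1 - ι := by rw [← congrArg₂ (· - ·) h.co_10 h.co_01, ← h.co_sub]; rfl
  have e5 := h.co_eq (x := x) f5
  have e6 := h.co_eq (x := x) (y := (-1, -1)) (z := -(1 + ι)) (by rw [← f5, ← h.co_neg]; rfl)
  have e7 := h.co_eq (x := x) f7
  have e8 := h.co_eq (x := x) (y := (-1, 1)) (z := -(1 - ι)) (by rw [← f7, ← h.co_neg]; rfl)
  fin_cases T
  · show h.co x = 0 ↔ _
    rw [e0]
    clear e0 e1 e2 e3 e4 e5 e6 e7 e8
    revert x; decide
  · show (h.co x = 0 ∨ h.co x = 1 ∨ h.co x = -1) ↔ _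
    rw [e0, e1, e2]
    clear e0 e1 e2 e3 e4 e5 e6 e7 e8
    revert x; decide
  · show (h.co x = 0 ∨ h.co x = ι ∨ h.co x = -ι) ↔ _
    rw [e0, e3, e4]
    clear e0 e1 e2 e3 e4 e5 e6 e7 e8
    revert x; decide
  · show (h.co x = 1 + ι ∨ h.co x = -(1 + ι)) ↔ _
    rw [e5, e6]
    clear e0 e1 e2 e3 e4 e5 e6 e7 e8
    revert x; decide
  · show (h.co x = 1 - ι ∨ h.co x = -(1 - ι)) ↔ _
    rw [e7, e8]
    clear e0 e1 e2 e3 e4 e5 e6 e7 e8
    revert x; decide
  · show (h.co x = 0 ∨ h.co x = 1 ∨ h.co x = -1 ∨ h.co x = ι ∨ h.co x = -ι) ↔ _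
    rw [e0, e1, e2, e3, e4]
    clear e0 e1 e2 e3 e4 e5 e6 e7 e8
    revert x; decide

end Nine

theorem actK_add (s l : K) (τ : K ≃+* K) (x y : K) : actK s l τ (x + y) = actK s l τ x + actK s l τ y := by
  simp only [actK, map_add]; ring

end

/-- (3D) -/
theorem stThreeD (hG : StGrp.{u}) (hA : StThreeA.{u}) (hB : StThreeB.{u}) (hC : StThreeC.{u}) : StThreeD.{u} := by
  intro K _ _ p n hK hq ι hι Γ D hP hT
  have h := nine_of hK hq hι
  obtain ⟨hne, hinv, heq⟩ := hA hK hq Γ D hP hT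
  obtain ⟨hb1, hb2⟩ := hB hK hq Γ hP.indu
  have hb3 := hb2 hP.syl
  have hC' := hC hK hq Γ D hP hT
  have hii := h.ii
  have h3 := h.three
  classical
  have hcnc := comb (fun x => decide (h.co x ∈ Pt Γ)) (by
    obtain ⟨κ, hκ⟩ := hne
    obtain ⟨x, rfl⟩ := h.co_bij.2 κ
    exact ⟨x, by simpa using hκ⟩) (by
    have f5 : h.co (1, 1) = 1 + ι := by rw [← congrArg₂ (· + ·) h.co_10 h.co_01, ← h.co_add]; rfl
    have f7 : h.co (1, -1) = 1 - ι := by rw [← congrArg₂ (· - ·) h.co_10 h.co_01, ← h.co_sub]; rfl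
    have g1 : ∀ a b a' b' : ZMod 3, h.co (a + a', b + b') = h.co (a, b) + h.co (a', b') := fun a b a' b' => h.co_add (a, b) (a', b')
    have g2 : ∀ a b a' b' : ZMod 3, h.co (a - a', b - b') = h.co (a, b) - h.co (a', b') := fun a b a' b' => h.co_sub (a, b) (a', b')
    refine ⟨?_, ?_, ?_, ?_⟩
    · intro a b hp hq
      simp only [decide_eq_true_eq] at hp hq ⊢
      have k1 := g1 a b 1 0
      have k2 := g2 a b 1 0
      rw [add_zero, h.co_10] at k1
      rw [sub_zero, h.co_10] at k2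
      rw [k1] at hq
      rw [k2]
      exact hb1 _ hp 1 (one_pow 4) hq
    · intro a b hp hq
      simp only [decide_eq_true_eq] at hp hq ⊢
      have k1 := g1 a b 0 1
      have k2 := g2 a b 0 1
      rw [add_zero, h.co_01] at k1
      rw [sub_zero, h.co_01] at k2
      rw [k1] at hq
      rw [k2]
      exact hb1 _ hp ι (by linear_combination (ι ^ 2 - 1) * hii) hq
    · rintro a b ⟨hp, hq, hr⟩
      simp only [decide_eq_true_eq] at hp hq hr
      rw [g1, f5] at hq
      rw [g2, f5] at hr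
      refine hb3 _ hp (1 + ι) ?_ hq hr
      linear_combination (ι ^ 2 + 4 * ι + 5) * hii - h3
    · rintro a b ⟨hp, hq, hr⟩
      simp only [decide_eq_true_eq] at hp hq hr
      rw [show (a + 1, b - 1) = (a + 1, b + -1) by rw [sub_eq_add_neg], g1, f7] at hq
      rw [show (a - 1, b + 1) = (a - 1, b - -1) by rw [sub_neg_eq_add], g2, f7] at hr
      refine hb3 _ hp (1 - ι) ?_ hq hr
      linear_combination (ι ^ 2 - 4 * ι + 5) * hii - h3)
  obtain ⟨a, b, T, c1, c2⟩ := hcnc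
  simp only [decide_eq_true_eq] at c2
  have hfix : FixK D (h.co (a, b)) := by
    intro d hd s l τ hα
    obtain ⟨k, e, hke⟩ := h.act_co τ hα.ns hα.nl hα.sl
    rw [hke, c2 k e]
    intro x y hxy
    rw [← hke]
    exact hinv d hd s l τ hα _ hxy
  have hPt : Pt Γ = {x | ∃ y ∈ Cfg ι T, x = h.co (a, b) + y} := by
    ext z
    obtain ⟨⟨x, y⟩, rfl⟩ := h.co_bij.2 z
    have k1 := c1 x y
    have k2 : h.co (x, y) ∈ Pt Γ ↔ cfgB T (x - a, y - b) = true := by
      rw [← k1, decide_eq_true_eq]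
    rw [k2, ← h.mem_cfg]
    have k3 : h.co (x - a, y - b) = h.co (x, y) - h.co (a, b) := h.co_sub (x, y) (a, b)
    rw [k3]
    constructor
    · intro hh
      exact ⟨_, hh, by ring⟩
    · rintro ⟨w, hw, hw'⟩
      rw [hw', add_sub_cancel_left]
      exact hw
  have hmem : ∀ y, y ∈ Cfg ι T → h.co (a, b) + y ∈ Pt Γ := by
    intro y hy
    rw [hPt]
    exact ⟨y, hy, rfl⟩
  refine ⟨h.co (a, b), T, hfix, hPt, ?_, ?_, heq, ?_⟩
  · intro d hd s l τ hα y hy
    have k1 := hinv d hd s l τ hα _ (hmem y hy)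
    rw [actK_add, hfix d hd s l τ hα, hPt] at k1
    obtain ⟨w, hw, hw'⟩ := k1
    rw [add_left_cancel hw']
    exact hw
  · intro α s l τ hα hcfg
    have w1 : (1 : K) * (star 1)⁻¹ = 1 := by rw [star_one, inv_one, one_mul]
    have w2 : ι * (star ι)⁻¹ = -1 := by
      rw [h.st_ι, inv_neg, mul_neg, mul_inv_cancel₀ h.ι_ne]
    have v3 : (1 + ι) ^ 4 = -1 := by linear_combination (ι ^ 2 + 4 * ι + 5) * hii - h3
    have v4 : (1 - ι) ^ 4 = -1 := by linear_combination (ι ^ 2 - 4 * ι + 5) * hii - h3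
    have n3 : (1 + ι) ≠ 0 := by
      intro h0; rw [h0] at v3; norm_num at v3
    have n4 : (1 - ι) ≠ 0 := by
      intro h0; rw [h0] at v4; norm_num at v4
    have w3 : (1 + ι) * (star (1 + ι))⁻¹ = ι := by
      rw [star_add, star_one, h.st_ι, ← sub_eq_add_neg, ← div_eq_mul_inv, div_eq_iff n4]
      linear_combination hii
    have w4 : (1 - ι) * (star (1 - ι))⁻¹ = -ι := by
      rw [star_sub, star_one, h.st_ι, sub_neg_eq_add, ← div_eq_mul_inv, div_eq_iff n3]
      linear_combination hii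
    have v2 : ι ^ 4 = 1 := by linear_combination (ι ^ 2 - 1) * hii
    fin_cases T
    · exact absurd hcfg id
    · have hcfg' : ∀ x, actK s l τ x = star x := hcfg
      have m0 := hmem 0 (Or.inl rfl)
      have m1 := hmem 1 (Or.inr (Or.inl rfl))
      rw [add_zero] at m0
      exact hC' _ m0 1 one_ne_zero m1 α s l τ hα (Or.inl ⟨one_pow 4, fun x => by rw [hcfg', w1, one_mul]⟩)
    · have hcfg' : ∀ x, actK s l τ x = -star x := hcfg
      have m0 := hmem 0 (Or.inl rfl)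
      have m1 := hmem ι (Or.inr (Or.inl rfl))
      rw [add_zero] at m0
      exact hC' _ m0 ι h.ι_ne m1 α s l τ hα (Or.inl ⟨v2, fun x => by rw [hcfg', w2]; ring⟩)
    · have hcfg' : ∀ x, actK s l τ x = -ι * star x := hcfg
      have m0 := hmem (1 + ι) (Or.inl rfl)
      have m1 := hmem (-(1 + ι)) (Or.inr rfl)
      rw [show h.co (a, b) + -(1 + ι) = h.co (a, b) + (1 + ι) + (1 + ι) by linear_combination -(1 + ι) * h3] at m1
      exact hC' _ m0 (1 + ι) n3 m1 α s l τ hα (Or.inr ⟨v3, fun x => by rw [hcfg', w3]; ring⟩)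
    · have hcfg' : ∀ x, actK s l τ x = ι * star x := hcfg
      have m0 := hmem (1 - ι) (Or.inl rfl)
      have m1 := hmem (-(1 - ι)) (Or.inr rfl)
      rw [show h.co (a, b) + -(1 - ι) = h.co (a, b) + (1 - ι) + (1 - ι) by linear_combination -(1 - ι) * h3] at m1
      exact hC' _ m0 (1 - ι) n4 m1 α s l τ hα (Or.inr ⟨v4, fun x => by rw [hcfg', w4]; ring⟩)
    · have m0 := hmem 0 (Or.inl rfl)
      have m1 := hmem 1 (Or.inr (Or.inl rfl))
      have m2 := hmem ι (Or.inr (Or.inr (Or.inr (Or.inl rfl))))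
      rw [add_zero] at m0
      rcases (hcfg : (∀ x, actK s l τ x = star x) ∨ (∀ x, actK s l τ x = - star x) ∨
        (∀ x, actK s l τ x = ι * x)) with hcfg' | hcfg' | hcfg'
      · exact hC' _ m0 1 one_ne_zero m1 α s l τ hα (Or.inl ⟨one_pow 4, fun x => by rw [hcfg', w1, one_mul]⟩)
      · exact hC' _ m0 ι h.ι_ne m2 α s l τ hα (Or.inl ⟨v2, fun x => by rw [hcfg', w2]; ring⟩)
      · obtain ⟨β, hβ⟩ := (hG hK).2.2.1 1 1 starRingAut one_ne_zero one_ne_zero (star_one K)
        have hβD : β ∈ D := by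
          refine hC' _ m0 1 one_ne_zero m1 β 1 1 starRingAut hβ (Or.inl ⟨one_pow 4, fun x => ?_⟩)
          rw [w1, actK, starRingAut_apply, star_one, inv_one]
          ring
        have hαβ : IsTorP (α * β) s l (starRingAut.trans τ) := by
          refine ⟨hα.ns, hα.nl, hα.sl, fun x => ?_, fun g => ?_, fun g => ?_, fun g => ?_, fun g => ?_⟩
          · simp only [RingEquiv.trans_apply, starRingAut_apply]
            exact hα.tst _
          · rw [MulAut.mul_apply, hα.r, hβ.r, one_mul]; rfl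
          · rw [MulAut.mul_apply, hα.a, hβ.a, star_one, one_mul, one_mul, one_mul]; rfl
          · rw [MulAut.mul_apply, hα.b, hβ.b, one_mul, one_mul]; rfl
          · rw [MulAut.mul_apply, hα.c, hβ.c, one_mul]; rfl
        have m3 : h.co (a, b) + ι + (1 - ι) ∈ Pt Γ := by
          rw [show h.co (a, b) + ι + (1 - ι) = h.co (a, b) + 1 by ring]; exact m1
        have hαβD : α * β ∈ D := by
          refine hC' _ m2 (1 - ι) n4 m3 (α * β) s l _ hαβ (Or.inr ⟨v4, fun x => ?_⟩)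
          have k1 : actK s l (starRingAut.trans τ) x = actK s l τ (star x) := rfl
          rw [k1, hcfg', w4]; ring
        exact (Subgroup.mul_mem_cancel_right D hβD).1 hαβD
  · intro t ht hst α hα
    have ht2 : (t - 1) * (t + 1) = 0 := by
      rw [h.st] at hst
      apply mul_left_cancel₀ ht
      linear_combination hst
    rcases mul_eq_zero.1 ht2 with h1 | h1
    · have h2 : t = 1 := sub_eq_zero.1 h1
      subst h2
      refine hT 1 one_ne_zero α ?_
      have k1 : (1 : K) ^ 2 = 1 := one_pow 2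
      have k2 : ((1 : K) * star 1)⁻¹ = 1⁻¹ * 1⁻¹ := by rw [star_one, inv_one, mul_one, inv_one]
      show IsTorP α (1 ^ 2) ((1 * star 1)⁻¹) (RingEquiv.refl K)
      rw [k1, k2]
      exact hα
    · have h2 : t = -1 := eq_neg_of_add_eq_zero_left h1
      subst h2
      refine hT ι h.ι_ne α ?_
      have k1 : ι ^ 2 = -1 := by rw [pow_two, hii]
      have k2 : (ι * star ι)⁻¹ = (-1)⁻¹ * (-1)⁻¹ := by
        rw [h.st_ι, mul_neg, hii]
        norm_num
      show IsTorP α (ι ^ 2) ((ι * star ι)⁻¹) (RingEquiv.refl K)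
      rw [k1, k2]
      exact hα

end Cfsg.Agent.H71.P4
end

private theorem dce_19f941514aa2 : _root_.True := by
  try have : _root_.True := by simp only [_root_.Cfsg.Agent.H71.P4.Nine.co.eq_1]
  try have : _root_.True := by simp only [_root_.Cfsg.Agent.H71.P4.Nine.co.congr_simp]
  try have : _root_.True := by simp only [_root_.Cfsg.Agent.H776.P4.actK.eq_1]
  exact _root_.True.intro
end

-- part: H569/P4/V_mg
section
prune_inst 0x1020140000000000000000000000000000000000000000000000000000404240000000000020000000200000000000031000000000000000000400000400000080000020000000000000000000000000000000000000000000000000000000000000000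
set_option linter.all false
open scoped Cfsg.Agent.FastGrp

-- part: H569/P4/Basic
section
/-!
# S5210, (V): coordinates on `V`, the groups `U`, fixed points (helper569)
-/

set_option autoImplicit false
set_option linter.unusedSimpArgs false

namespace Cfsg.Agent.H569.P4

open Cfsg Cfsg.FusionSystem
open Cfsg.Agent.H756.PU (HypK Ess Inv Com NormAut TIAut AF)
open Cfsg.Agent.H776.P4

universe u

variable {K : Type u} [Field K] [StarRing K]

/-! ### Coordinates -/

def cA (v : PV K) : K := (v : PG K).a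
def cB (v : PV K) : K := (v : PG K).b
def cC (v : PV K) : K := (v : PG K).c

theorem vr (v : PV K) : (v : PG K).r = 0 := v.2

@[simp] theorem star_cA (v : PV K) : star (cA v) = cA v := (v : PG K).ha
@[simp] theorem star_cC (v : PV K) : star (cC v) = cC v := (v : PG K).hc

@[simp] theorem cA_mul (v w : PV K) : cA (v * w) = cA v + cA w := by
  show ((v : PG K) * w).a = _
  rw [PG.mul_a, vr]
  simp only [cA, _root_.MulZeroClass.zero_mul, _root_.add_zero, _root_.star_zero, _root_.MulZeroClass.mul_zero]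

@[simp] theorem cB_mul (v w : PV K) : cB (v * w) = cB v + cB w := by
  show ((v : PG K) * w).b = _
  rw [PG.mul_b, vr]
  simp [cB]

@[simp] theorem cC_mul (v w : PV K) : cC (v * w) = cC v + cC w := rfl

@[simp] theorem cA_one : cA (1 : PV K) = 0 := rfl
@[simp] theorem cB_one : cB (1 : PV K) = 0 := rfl
@[simp] theorem cC_one : cC (1 : PV K) = 0 := rfl

@[simp] theorem cA_inv (v : PV K) : cA v⁻¹ = - cA v := by
  have h : cA (v * v⁻¹) = 0 := by rw [mul_inv_cancel, cA_one]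
  rw [cA_mul] at h
  linear_combination h

@[simp] theorem cB_inv (v : PV K) : cB v⁻¹ = - cB v := by
  have h : cB (v * v⁻¹) = 0 := by rw [mul_inv_cancel, cB_one]
  rw [cB_mul] at h
  linear_combination h

@[simp] theorem cC_inv (v : PV K) : cC v⁻¹ = - cC v := by
  have h : cC (v * v⁻¹) = 0 := by rw [mul_inv_cancel, cC_one]
  rw [cC_mul] at h
  linear_combination h

theorem vext {v w : PV K} (ha : cA v = cA w) (hb : cB v = cB w) (hc : cC v = cC w) : v = w := by
  apply Subtype.ext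
  ext
  · rw [vr, vr]
  · exact ha
  · exact hb
  · exact hc

/-- the vector with given coordinates -/
def vec (a b c : K) (ha : star a = a) (hc : star c = c) : PV K := ⟨⟨0, a, b, c, ha, hc⟩, rfl⟩

@[simp] theorem cA_vec (a b c : K) (ha : star a = a) (hc : star c = c) : cA (vec a b c ha hc) = a := rfl
@[simp] theorem cB_vec (a b c : K) (ha : star a = a) (hc : star c = c) : cB (vec a b c ha hc) = b := rfl
@[simp] theorem cC_vec (a b c : K) (ha : star a = a) (hc : star c = c) : cC (vec a b c ha hc) = c := rfl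

def eA (a : K) (ha : star a = a) : PV K := vec a 0 0 ha (star_zero K)
def eB (b : K) : PV K := vec 0 b 0 (star_zero K) (star_zero K)
def eC (c : K) (hc : star c = c) : PV K := vec 0 0 c (star_zero K) hc

@[simp] theorem cA_eA (a : K) (ha : star a = a) : cA (eA a ha) = a := rfl
@[simp] theorem cB_eA (a : K) (ha : star a = a) : cB (eA a ha) = 0 := rfl
@[simp] theorem cC_eA (a : K) (ha : star a = a) : cC (eA a ha) = 0 := rfl
@[simp] theorem cA_eB (b : K) : cA (eB b) = 0 := rfl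
@[simp] theorem cB_eB (b : K) : cB (eB b) = b := rfl
@[simp] theorem cC_eB (b : K) : cC (eB b) = 0 := rfl
@[simp] theorem cA_eC (c : K) (hc : star c = c) : cA (eC c hc) = 0 := rfl
@[simp] theorem cB_eC (c : K) (hc : star c = c) : cB (eC c hc) = 0 := rfl
@[simp] theorem cC_eC (c : K) (hc : star c = c) : cC (eC c hc) = c := rfl

theorem v_eq (v : PV K) : v = eA (cA v) (star_cA v) * eB (cB v) * eC (cC v) (star_cC v) :=
  vext (by simp) (by simp) (by simp)

/-! ### The unipotent group `U` -/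

/-- `v ↦ u_r v u_r⁻¹` -/
structure IsU (r : K) (γ : MulAut (PV K)) : Prop where
  a : ∀ v, cA (γ v) = cA v + r * star (cB v) + star r * cB v + r * star r * cC v
  b : ∀ v, cB (γ v) = cB v + r * cC v
  c : ∀ v, cC (γ v) = cC v

theorem aext {γ γ' : MulAut (PV K)} (ha : ∀ v, cA (γ v) = cA (γ' v)) (hb : ∀ v, cB (γ v) = cB (γ' v))
    (hc : ∀ v, cC (γ v) = cC (γ' v)) : γ = γ' :=
  MulEquiv.ext fun v => vext (ha v) (hb v) (hc v)

theorem IsU.unique {r : K} {γ γ' : MulAut (PV K)} (h : IsU r γ) (h' : IsU r γ') : γ = γ' :=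
  aext (fun v => by rw [h.a, h'.a]) (fun v => by rw [h.b, h'.b]) (fun v => by rw [h.c, h'.c])

theorem conj_coord (g : PG K) (v : PV K) : (g * (v : PG K) * g⁻¹).r = 0 ∧
    (g * (v : PG K) * g⁻¹).a = cA v + g.r * star (cB v) + star g.r * cB v + g.r * star g.r * cC v ∧
    (g * (v : PG K) * g⁻¹).b = cB v + g.r * cC v ∧ (g * (v : PG K) * g⁻¹).c = cC v := by
  have h0 := vr v
  refine ⟨?_, ?_, ?_, ?_⟩
  · simp [h0]
  · simp only [PG.mul_a, PG.mul_r, PG.mul_b, PG.mul_c, PG.inv_r, PG.inv_a, PG.inv_b, PG.inv_c, h0, star_add, star_mul', star_neg, cA, cB, cC, g.ha, g.hc, v.1.hc, star_zero]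
    ring
  · simp only [PG.mul_b, PG.mul_c, PG.mul_r, PG.inv_b, PG.inv_r, PG.inv_c, h0, cB, cC]
    ring
  · simp [cC]

theorem isU_of_conj {g : PG K} {γ : MulAut (PV K)} (h : ∀ v : PV K, ((γ v : PV K) : PG K) = g * (v : PG K) * g⁻¹) :
    IsU g.r γ :=
  ⟨fun v => by
      show ((γ v : PV K) : PG K).a = _
      rw [h]; exact (conj_coord g v).2.1,
    fun v => by
      show ((γ v : PV K) : PG K).b = _
      rw [h]; exact (conj_coord g v).2.2.1,
    fun v => by
      show ((γ v : PV K) : PG K).c = _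
      rw [h]; exact (conj_coord g v).2.2.2⟩

theorem conj_of_isU {g : PG K} {γ : MulAut (PV K)} (h : IsU g.r γ) (v : PV K) :
    ((γ v : PV K) : PG K) = g * (v : PG K) * g⁻¹ := by
  have h1 := conj_coord g v
  ext
  · rw [vr, h1.1]
  · exact (h.a v).trans h1.2.1.symm
  · exact (h.b v).trans h1.2.2.1.symm
  · exact (h.c v).trans h1.2.2.2.symm

/-- the element `u_r` -/
def uu (r : K) : PG K := ⟨r, 0, 0, 0, star_zero K, star_zero K⟩

theorem exists_isU (r : K) : ∃ γ : MulAut (PV K), IsU r γ := by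
  refine ⟨{ toFun := fun v => ⟨uu r * v * (uu r)⁻¹, (conj_coord (uu r) v).1⟩
            invFun := fun v => ⟨(uu r)⁻¹ * v * (uu r)⁻¹⁻¹, (conj_coord (uu r)⁻¹ v).1⟩
            left_inv := fun v => Subtype.ext (by simp [mul_assoc])
            right_inv := fun v => Subtype.ext (by simp only [mul_assoc, _root_.inv_inv, _root_.mul_inv_cancel_left, _root_.mul_inv_cancel, _root_.mul_one])
            map_mul' := fun v w => Subtype.ext (by simp only [mul_assoc, _root_.Subgroup.coe_mul, _root_.MulMemClass.mk_mul_mk, _root_.inv_mul_cancel_left]) }, ?_⟩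
  exact isU_of_conj (g := uu r) fun v => rfl

theorem IsU.one : IsU (0 : K) 1 := ⟨fun v => by simp only [_root_.MulAut.one_apply, _root_.MulZeroClass.zero_mul, _root_.add_zero, _root_.star_zero, _root_.MulZeroClass.mul_zero], fun v => by simp, fun v => by simp⟩

theorem IsU.mul {r s : K} {γ γ' : MulAut (PV K)} (h : IsU r γ) (h' : IsU s γ') : IsU (r + s) (γ * γ') where
  a v := by
    rw [MulAut.mul_apply, h.a, h'.a, h'.b, h'.c]
    simp only [star_add, star_mul', star_cC]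
    ring
  b v := by rw [MulAut.mul_apply, h.b, h'.b, h'.c]; ring
  c v := by rw [MulAut.mul_apply, h.c, h'.c]

theorem IsU.inv {r : K} {γ : MulAut (PV K)} (h : IsU r γ) : IsU (-r) γ⁻¹ := by
  obtain ⟨γ', h'⟩ := exists_isU (-r)
  have h1 := h.mul h'
  rw [add_neg_cancel] at h1
  have h2 := h1.unique IsU.one
  rwa [eq_inv_of_mul_eq_one_right h2] at h'

theorem mem_U_iff {γ : MulAut (PV K)} : γ ∈ autInducedBy (⊤ : Subgroup (PG K)) (PV K) ↔ ∃ r, IsU r γ := by
  constructor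
  · intro h
    induction h using Subgroup.closure_induction with
    | mem x hx =>
      obtain ⟨g, -, hg⟩ := hx
      exact ⟨_, isU_of_conj hg⟩
    | one => exact ⟨0, IsU.one⟩
    | mul x y _ _ hx hy =>
      obtain ⟨r, hr⟩ := hx
      obtain ⟨s, hs⟩ := hy
      exact ⟨_, hr.mul hs⟩
    | inv x _ hx =>
      obtain ⟨r, hr⟩ := hx
      exact ⟨_, hr.inv⟩
  · rintro ⟨r, h⟩
    exact Subgroup.subset_closure ⟨uu r, Subgroup.mem_top _, fun v => conj_of_isU (g := uu r) h v⟩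

/-! ### Fixed points of a group of automorphisms -/

/-- fixed vectors -/
def Fx (A : Subgroup (MulAut (PV K))) (v : PV K) : Prop := ∀ y ∈ A, y v = v

/-- vectors fixed modulo the fixed vectors -/
def Fy (A : Subgroup (MulAut (PV K))) (v : PV K) : Prop := ∀ y ∈ A, Fx A (y v * v⁻¹)

variable {A B : Subgroup (MulAut (PV K))}

theorem Fx.one : Fx A 1 := fun y _ => map_one y

theorem Fx.mul {v w : PV K} (hv : Fx A v) (hw : Fx A w) : Fx A (v * w) := fun y hy => by
  rw [map_mul, hv y hy, hw y hy]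

theorem Fx.inv {v : PV K} (hv : Fx A v) : Fx A v⁻¹ := fun y hy => by
  rw [map_inv, hv y hy]

theorem Fx.fy {v : PV K} (hv : Fx A v) : Fy A v := fun y hy => by
  rw [hv y hy, mul_inv_cancel]
  exact Fx.one

theorem Fy.mul {v w : PV K} (hv : Fy A v) (hw : Fy A w) : Fy A (v * w) := fun y hy => by
  have h1 : y (v * w) * (v * w)⁻¹ = y v * v⁻¹ * (y w * w⁻¹) := by
    rw [map_mul]
    apply vext <;> simp only [_root_.mul_inv_rev, _root_.Cfsg.Agent.H569.P4.cA_mul, _root_.Cfsg.Agent.H569.P4.cA_inv, _root_.Cfsg.Agent.H569.P4.cB_mul, _root_.Cfsg.Agent.H569.P4.cB_inv, _root_.Cfsg.Agent.H569.P4.cC_mul, _root_.Cfsg.Agent.H569.P4.cC_inv] <;> ring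
  rw [h1]
  exact (hv y hy).mul (hw y hy)

theorem Fy.inv {v : PV K} (hv : Fy A v) : Fy A v⁻¹ := fun y hy => by
  have h1 : y v⁻¹ * v⁻¹⁻¹ = (y v * v⁻¹)⁻¹ := by
    rw [map_inv]
    apply vext <;> simp only [_root_.inv_inv, _root_.Cfsg.Agent.H569.P4.cA_mul, _root_.Cfsg.Agent.H569.P4.cA_inv, _root_.mul_inv_rev, _root_.Cfsg.Agent.H569.P4.cB_mul, _root_.Cfsg.Agent.H569.P4.cB_inv, _root_.Cfsg.Agent.H569.P4.cC_mul, _root_.Cfsg.Agent.H569.P4.cC_inv] <;> ring
  rw [h1]
  exact (hv y hy).inv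

theorem fx_map {n : MulAut (PV K)} (h : ∀ z, z ∈ A ↔ n * z * n⁻¹ ∈ B) (v : PV K) : Fx A v ↔ Fx B (n v) := by
  constructor
  · intro hv y hy
    have h1 : n⁻¹ * y * n ∈ A := by
      rw [h]
      have : n * (n⁻¹ * y * n) * n⁻¹ = y := by group
      rwa [this]
    have h2 := hv _ h1
    have h3 := congrArg n h2
    simpa only [_root_.MulAut.mul_apply, _root_.MulAut.inv_apply, _root_.MulEquiv.apply_symm_apply] using h3
  · intro hv y hy
    have h2 := hv _ ((h y).1 hy)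
    have h3 : n (y v) = n v := by simpa only [_root_.EmbeddingLike.apply_eq_iff_eq, _root_.MulAut.mul_apply, _root_.MulAut.inv_apply, _root_.MulEquiv.symm_apply_apply] using h2
    exact n.injective h3

theorem fy_map {n : MulAut (PV K)} (h : ∀ z, z ∈ A ↔ n * z * n⁻¹ ∈ B) (v : PV K) : Fy A v ↔ Fy B (n v) := by
  constructor
  · intro hv y hy
    have h1 : n⁻¹ * y * n ∈ A := by
      rw [h]
      have : n * (n⁻¹ * y * n) * n⁻¹ = y := by group
      rwa [this]
    have h2 := (fx_map h _).1 (hv _ h1)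
    have h3 : n ((n⁻¹ * y * n) v * v⁻¹) = y (n v) * (n v)⁻¹ := by
      simp only [_root_.MulAut.mul_apply, _root_.MulAut.inv_apply, _root_.map_mul, _root_.MulEquiv.apply_symm_apply, _root_.map_inv]
    rwa [h3] at h2
  · intro hv y hy
    have h2 := hv _ ((h y).1 hy)
    rw [fx_map h]
    have h3 : n (y v * v⁻¹) = (n * y * n⁻¹) (n v) * (n v)⁻¹ := by
      simp only [_root_.map_mul, _root_.map_inv, _root_.MulAut.mul_apply, _root_.MulAut.inv_apply, _root_.MulEquiv.symm_apply_apply]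
    rwa [h3]

end Cfsg.Agent.H569.P4
end

-- part: H569/P4/Opp
section
/-!
# S5210, (V): fixed points of `U`; the opposite group in coordinates (helper569)
-/

set_option autoImplicit false
set_option linter.unusedSimpArgs false

namespace Cfsg.Agent.H569.P4

open Cfsg Cfsg.FusionSystem
open Cfsg.Agent.H756.PU (HypK Ess Inv Com NormAut TIAut AF)
open Cfsg.Agent.H776.P4

universe u

variable {K : Type u} [Field K] [StarRing K] {p n : ℕ}

/-! ### The field -/

theorem one_lt (h : HypK K p n) : 1 < p ^ n :=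
  Nat.one_lt_pow (by have := h.hn; omega) h.pp.one_lt

theorem exists_pow_ne (h : HypK K p n) : ∃ θ : K, θ ≠ 0 ∧ θ ^ (p ^ n - 1) ≠ 1 := by
  have := h.fin
  have := Fintype.ofFinite K
  by_contra hcon
  push Not at hcon
  have hq := one_lt h
  have h1 : ∀ x : Kˣ, x ^ (p ^ n - 1) = 1 := fun x => Units.ext (by
    rw [Units.val_pow_eq_pow_val, hcon x x.ne_zero, Units.val_one])
  obtain ⟨g, hg⟩ := IsCyclic.exists_generator (α := Kˣ)
  have h2 : orderOf g = Nat.card Kˣ := orderOf_eq_card_of_forall_mem_zpowers hg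
  have h3 := orderOf_dvd_of_pow_eq_one (h1 g)
  rw [h2, Nat.card_units, h.card] at h3
  have h4 := Nat.le_of_dvd (by omega) h3
  have h5 : p ^ n < (p ^ n) ^ 2 := by nlinarith only [hq]
  omega

theorem exists_star_ne (h : HypK K p n) : ∃ θ : K, star θ ≠ θ := by
  obtain ⟨θ, h0, h1⟩ := exists_pow_ne h
  refine ⟨θ, fun h2 => h1 ?_⟩
  rw [h.star_eq] at h2
  have hq := one_lt h
  have h3 : θ * θ ^ (p ^ n - 1) = θ * 1 := by
    rw [← pow_succ', Nat.sub_add_cancel hq.le, h2, mul_one]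
  exact mul_left_cancel₀ h0 h3

theorem exists_trace_ne (h : HypK K p n) : ∃ θ : K, θ + star θ ≠ 0 := by
  by_contra hcon
  push Not at hcon
  obtain ⟨θ, hθ⟩ := exists_star_ne h
  have h1 := hcon 1
  rw [star_one] at h1
  have h2 := hcon θ
  apply hθ
  have h3 : θ + θ = 0 := by
    have : θ + θ = θ * (1 + 1) := by ring
    rw [this, h1, mul_zero]
  linear_combination h2 - h3

theorem eq_zero_of_trace (h : HypK K p n) {b : K} (hb : ∀ r : K, r * star b + star r * b = 0) : b = 0 := by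
  by_contra hne
  obtain ⟨θ, hθ⟩ := exists_trace_ne h
  have hs : star b ≠ 0 := by rwa [Ne, star_eq_zero]
  apply hθ
  have h1 := hb (θ * (star b)⁻¹)
  rw [star_mul', star_inv₀, star_star, inv_mul_cancel_right₀ hs, inv_mul_cancel_right₀ hne] at h1
  exact h1

/-! ### Fixed points of `U` -/

theorem fx_U (h : HypK K p n) {v : PV K} : Fx (autInducedBy (⊤ : Subgroup (PG K)) (PV K)) v ↔ cB v = 0 ∧ cC v = 0 := by
  constructor
  · intro hv
    have h1 : ∀ r : K, r * star (cB v) + star r * cB v + r * star r * cC v = 0 ∧ r * cC v = 0 := by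
      intro r
      obtain ⟨γ, hγ⟩ := exists_isU r
      have h2 := hv γ (mem_U_iff.2 ⟨r, hγ⟩)
      have h3 := hγ.a v
      have h4 := hγ.b v
      rw [h2] at h3 h4
      constructor
      · linear_combination -h3
      · linear_combination -h4
    have h2 : cC v = 0 := by simpa using (h1 1).2
    refine ⟨eq_zero_of_trace h fun r => ?_, h2⟩
    have h3 := (h1 r).1
    rw [h2, mul_zero, add_zero] at h3
    exact h3
  · rintro ⟨hb, hc⟩ γ hγ
    obtain ⟨r, hr⟩ := mem_U_iff.1 hγ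
    apply vext
    · rw [hr.a, hb, hc]; simp only [_root_.star_zero, _root_.MulZeroClass.mul_zero, _root_.add_zero]
    · rw [hr.b, hc]; simp
    · rw [hr.c]

theorem fy_U (h : HypK K p n) {v : PV K} : Fy (autInducedBy (⊤ : Subgroup (PG K)) (PV K)) v ↔ cC v = 0 := by
  constructor
  · intro hv
    obtain ⟨γ, hγ⟩ := exists_isU (1 : K)
    have h2 := ((fx_U h).1 (hv γ (mem_U_iff.2 ⟨1, hγ⟩))).1
    rw [cB_mul, cB_inv, hγ.b] at h2
    linear_combination h2
  · intro hc γ hγ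
    obtain ⟨r, hr⟩ := mem_U_iff.1 hγ
    rw [fx_U h]
    constructor
    · rw [cB_mul, cB_inv, hr.b, hc]; ring
    · rw [cC_mul, cC_inv, hr.c]; ring

/-- the commutator of `V` with `U` -/
theorem fy_comm_U (h : HypK K p n) {x : MulAut (PV K)} (hx : x ∈ autInducedBy (⊤ : Subgroup (PG K)) (PV K)) (v : PV K) :
    Fy (autInducedBy (⊤ : Subgroup (PG K)) (PV K)) (x v * v⁻¹) := by
  obtain ⟨r, hr⟩ := mem_U_iff.1 hx
  rw [fy_U h, cC_mul, cC_inv, hr.c]
  ring

/-! ### The opposite group -/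

/-- the matrix `[1, 0; star s, 1]` -/
structure IsL (s : K) (γ : MulAut (PV K)) : Prop where
  a : ∀ v, cA (γ v) = cA v
  b : ∀ v, cB (γ v) = cB v + s * cA v
  c : ∀ v, cC (γ v) = cC v + (star s * cB v + s * star (cB v)) + s * star s * cA v

/-- the matrix `[0, r; -1/r, 0]` -/
structure IsN (r : K) (γ : MulAut (PV K)) : Prop where
  a : ∀ v, cA (γ v) = r * star r * cC v
  b : ∀ v, cB (γ v) = - (r * (star r)⁻¹ * star (cB v))
  c : ∀ v, cC (γ v) = (r * star r)⁻¹ * cA v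

theorem isN_of {r : K} (h0 : r ≠ 0) {x y : MulAut (PV K)} (hx : IsU r x) (hy : IsL (-(star r)⁻¹) y) : IsN r (x * y * x) := by
  have h1 : star r ≠ 0 := by rwa [Ne, star_eq_zero]
  refine ⟨fun v => ?_, fun v => ?_, fun v => ?_⟩
  · rw [MulAut.mul_apply, MulAut.mul_apply, hx.a, hy.a, hy.b, hy.c, hx.a, hx.b, hx.c]
    simp only [star_add, star_mul', star_neg, star_inv₀, star_star, star_cC, star_cA]
    field_simp
    ring
  · rw [MulAut.mul_apply, MulAut.mul_apply, hx.b, hy.b, hy.c, hx.a, hx.b, hx.c]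
    simp only [star_add, star_mul', star_neg, star_inv₀, star_star, star_cC, star_cA]
    field_simp
    ring
  · rw [MulAut.mul_apply, MulAut.mul_apply, hx.c, hy.c, hx.a, hx.b, hx.c]
    simp only [star_add, star_mul', star_neg, star_inv₀, star_star, star_cC, star_cA]
    field_simp
    ring

/-- **the opposite element is determined by the swap** -/
theorem isL_of_swap (h : HypK K p n) {Um : Subgroup (MulAut (PV K))}
    (hZ : ∀ (c : K) (hc : star c = c), Fx Um (eC c hc)) (hW : ∀ b : K, Fy Um (eB b))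
    (hFx : ∀ v, Fx Um v → cA v = 0 ∧ cB v = 0) (hFy : ∀ v, Fy Um v → cA v = 0)
    {x y : MulAut (PV K)} {r : K} (h0 : r ≠ 0) (hx : IsU r x) (hy : y ∈ Um)
    (h1 : ∀ z, z ∈ Um ↔ (x * y * x) * z * (x * y * x)⁻¹ ∈ autInducedBy ⊤ (PV K))
    (h2 : ∀ z, z ∈ autInducedBy ⊤ (PV K) ↔ (x * y * x) * z * (x * y * x)⁻¹ ∈ Um) : IsL (-(star r)⁻¹) y := by
  have hs0 : star r ≠ 0 := by rwa [Ne, star_eq_zero]
  -- `cA` is fixed
  have hA : ∀ v, cA (y v) = cA v := by
    intro v
    have h3 : Fy Um (y v * v⁻¹) := by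
      have h4 : (x * y * x)⁻¹ * y * (x * y * x) ∈ autInducedBy ⊤ (PV K) := by
        rw [h2]
        have : (x * y * x) * ((x * y * x)⁻¹ * y * (x * y * x)) * (x * y * x)⁻¹ = y := by group
        rwa [this]
      have h5 := (fy_map h2 _).1 (fy_comm_U h h4 ((x * y * x)⁻¹ v))
      have h6 : (x * y * x) (((x * y * x)⁻¹ * y * (x * y * x)) ((x * y * x)⁻¹ v) * ((x * y * x)⁻¹ v)⁻¹) = y v * v⁻¹ := by
        rw [map_mul, map_inv, MulAut.apply_inv_self]
        congr 1
        have h7 : ∀ g : MulAut (PV K), g ((g⁻¹ * y * g) (g⁻¹ v)) = y v := by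
          intro g
          simp only [MulAut.mul_apply, MulAut.apply_inv_self]
        exact h7 _
      rwa [h6] at h5
    have h4 := hFy _ h3
    rw [cA_mul, cA_inv] at h4
    linear_combination h4
  have hC0 : ∀ (c : K) (hc : star c = c), y (eC c hc) = eC c hc := fun c hc => hZ c hc y hy
  have hB0 : ∀ b : K, cB (y (eB b)) = b := by
    intro b
    have h3 := (hFx _ (hW b y hy)).2
    rw [cB_mul, cB_inv, cB_eB] at h3
    linear_combination h3
  -- general form
  have hgB : ∀ v, cB (y v) = cB v + cB (y (eA (cA v) (star_cA v))) := by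
    intro v
    conv_lhs => rw [v_eq v]
    rw [map_mul, map_mul, cB_mul, cB_mul, hB0, hC0, cB_eC]
    ring
  have hgC : ∀ v, cC (y v) = cC v + cC (y (eA (cA v) (star_cA v))) + cC (y (eB (cB v))) := by
    intro v
    conv_lhs => rw [v_eq v]
    rw [map_mul, map_mul, cC_mul, cC_mul, hC0, cC_eC]
    ring
  -- the swap on `eC c`
  have hSC : ∀ (c : K) (hc : star c = c), cB ((x * y * x) (eC c hc)) = 0 ∧ cC ((x * y * x) (eC c hc)) = 0 := fun c hc =>
    (fx_U h).1 ((fx_map h1 _).1 (hZ c hc))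
  have hSA : ∀ (a : K) (ha : star a = a), cB ((x * y * x) (eA a ha)) = 0 := fun a ha =>
    (hFx _ ((fx_map h2 _).1 ((fx_U h).2 ⟨rfl, rfl⟩))).2
  have hSB : ∀ b : K, cC ((x * y * x) (eB b)) = 0 := fun b => (fy_U h).1 ((fy_map h1 _).1 (hW b))
  -- `x` on the basis vectors
  have hxA : ∀ (a : K) (ha : star a = a), x (eA a ha) = eA a ha := fun a ha =>
    vext (by rw [hx.a]; simp only [_root_.Cfsg.Agent.H569.P4.cA_eA, _root_.Cfsg.Agent.H569.P4.cB_eA, _root_.star_zero, _root_.MulZeroClass.mul_zero, _root_.add_zero, _root_.Cfsg.Agent.H569.P4.cC_eA]) (by rw [hx.b]; simp) (by rw [hx.c])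
  -- `E` and `F`
  have hEF : ∀ (a : K) (ha : star a = a), cB (y (eA a ha)) + r * cC (y (eA a ha)) = 0 := by
    intro a ha
    have h3 := hSA a ha
    rw [MulAut.mul_apply, MulAut.mul_apply, hxA, hx.b] at h3
    exact h3
  have hN : r * star r ≠ 0 := mul_ne_zero h0 hs0
  have hNs : star (r * star r) = r * star r := by rw [star_mul', star_star, mul_comm]
  have hE : ∀ (a : K) (ha : star a = a), cB (y (eA a ha)) = - (star r)⁻¹ * a := by
    intro a ha
    have hc : star ((r * star r)⁻¹ * a) = (r * star r)⁻¹ * a := by rw [star_mul', star_inv₀, hNs, ha]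
    obtain ⟨h3, h4⟩ := hSC _ hc
    rw [MulAut.mul_apply, MulAut.mul_apply, hx.b] at h3
    rw [MulAut.mul_apply, MulAut.mul_apply, hx.c] at h4
    rw [h4, mul_zero, add_zero, hgB] at h3
    have h5 : cA (x (eC _ hc)) = a := by
      rw [hx.a]
      simp only [cA_eC, cB_eC, cC_eC, star_zero, mul_zero, add_zero, zero_add]
      rw [← mul_assoc, mul_inv_cancel₀ hN, one_mul]
    have h6 : eA (cA (x (eC _ hc))) (star_cA _) = eA a ha := vext h5 rfl rfl
    rw [h6, hx.b] at h3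
    simp only [cB_eC, cC_eC, zero_add] at h3
    have h7 : r * ((r * star r)⁻¹ * a) = (star r)⁻¹ * a := by
      field_simp
    rw [h7] at h3
    linear_combination h3
  have hF : ∀ (a : K) (ha : star a = a), cC (y (eA a ha)) = (r * star r)⁻¹ * a := by
    intro a ha
    have h3 := hEF a ha
    rw [hE a ha] at h3
    field_simp at h3 ⊢
    linear_combination h3
  have hG : ∀ b : K, cC (y (eB b)) = - ((r * star r)⁻¹ * (r * star b + star r * b)) := by
    intro b
    have h3 := hSB b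
    rw [MulAut.mul_apply, MulAut.mul_apply, hx.c, hgC, hF] at h3
    have h4 : x (eB b) = eA (r * star b + star r * b) (by rw [star_add, star_mul', star_mul', star_star, star_star]; ring) *
        eB b := by
      apply vext
      · rw [hx.a]; simp only [_root_.Cfsg.Agent.H569.P4.cA_eB, _root_.Cfsg.Agent.H569.P4.cB_eB, _root_.zero_add, _root_.Cfsg.Agent.H569.P4.cC_eB, _root_.MulZeroClass.mul_zero, _root_.add_zero, _root_.Cfsg.Agent.H569.P4.cA_mul, _root_.Cfsg.Agent.H569.P4.cA_eA]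
      · rw [hx.b]; simp only [_root_.Cfsg.Agent.H569.P4.cB_eB, _root_.Cfsg.Agent.H569.P4.cC_eB, _root_.MulZeroClass.mul_zero, _root_.add_zero, _root_.Cfsg.Agent.H569.P4.cB_mul, _root_.Cfsg.Agent.H569.P4.cB_eA, _root_.zero_add]
      · rw [hx.c]; simp only [_root_.Cfsg.Agent.H569.P4.cC_eB, _root_.Cfsg.Agent.H569.P4.cC_mul, _root_.Cfsg.Agent.H569.P4.cC_eA, _root_.add_zero]
    rw [h4] at h3
    simp only [cA_mul, cA_eA, cA_eB, cB_mul, cB_eA, cB_eB, cC_mul, cC_eA, cC_eB, add_zero, zero_add] at h3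
    linear_combination h3
  refine ⟨hA, fun v => ?_, fun v => ?_⟩
  · rw [hgB, hE]
  · rw [hgC, hF, hG]
    rw [star_neg, star_inv₀, star_star]
    field_simp
    ring

end Cfsg.Agent.H569.P4
end

-- part: H569/P4/V
section
/-!
# S5210, (V): the parabolic `V` (helper569)
-/

set_option autoImplicit false
set_option linter.unusedSimpArgs false

namespace Cfsg.Agent.H569.P4

open Cfsg Cfsg.FusionSystem
open Cfsg.Agent.H756.PU (HypK Ess Inv Com NormAut TIAut AF)
open Cfsg.Agent.H776.P4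

universe u

variable {K : Type u} [Field K] [StarRing K] {p n : ℕ}

/-! ### Restrictions -/

theorem exists_isRP {α : MulAut (PG K)} (h : ∀ g, (α g).r = 0 ↔ g.r = 0) : ∃ δ : MulAut (PV K), IsRP α δ := by
  refine ⟨{ toFun := fun v => ⟨α v, (h _).2 v.2⟩
            invFun := fun v => ⟨α⁻¹ v, (h _).1 (by rw [MulAut.apply_inv_self]; exact v.2)⟩
            left_inv := fun v => Subtype.ext (by simp)
            right_inv := fun v => Subtype.ext (by simp)
            map_mul' := fun v w => Subtype.ext (by simp only [_root_.Subgroup.coe_mul, _root_.map_mul]) }, fun v => rfl⟩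

theorem isRP_tor {α : MulAut (PG K)} {s l : K} {τ : K ≃+* K} (h : IsTorP α s l τ) : ∃ δ : MulAut (PV K), IsRP α δ := by
  apply exists_isRP
  intro g
  rw [h.r]
  constructor
  · intro h1
    rcases mul_eq_zero.1 h1 with h2 | h2
    · exact absurd h2 h.ns
    · exact (map_eq_zero_iff τ τ.injective).1 h2
  · intro h1
    rw [h1, map_zero, mul_zero]

section

variable {α : MulAut (PG K)} {δ : MulAut (PV K)} {s l : K} {τ : K ≃+* K}

theorem tor_a (h : IsTorP α s l τ) (hr : IsRP α δ) (v : PV K) : cA (δ v) = s * star s * l * τ (cA v) := by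
  show ((δ v : PV K) : PG K).a = _
  rw [hr, h.a]; rfl

theorem tor_b (h : IsTorP α s l τ) (hr : IsRP α δ) (v : PV K) : cB (δ v) = s * l * τ (cB v) := by
  show ((δ v : PV K) : PG K).b = _
  rw [hr, h.b]; rfl

theorem tor_c (h : IsTorP α s l τ) (hr : IsRP α δ) (v : PV K) : cC (δ v) = l * τ (cC v) := by
  show ((δ v : PV K) : PG K).c = _
  rw [hr, h.c]; rfl

theorem IsRP.inv (hr : IsRP α δ) : IsRP α⁻¹ δ⁻¹ := by
  intro e
  have h1 := hr (δ⁻¹ e)
  rw [MulAut.apply_inv_self] at h1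
  rw [h1, MulAut.inv_apply_self]

end

/-- the diagonal elements -/
structure IsH (r : K) (γ : MulAut (PV K)) : Prop where
  a : ∀ v, cA (γ v) = r * star r * cA v
  b : ∀ v, cB (γ v) = r * (star r)⁻¹ * cB v
  c : ∀ v, cC (γ v) = (r * star r)⁻¹ * cC v

theorem isH_of {r : K} {m m' : MulAut (PV K)} (h : IsN r m) (h' : IsN 1 m') : IsH r (m * m') where
  a v := by
    rw [MulAut.mul_apply, h.a, h'.c]
    simp only [_root_.star_one, _root_.mul_one, _root_.inv_one, _root_.one_mul]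
  b v := by
    rw [MulAut.mul_apply, h.b, h'.b]
    simp only [_root_.star_one, _root_.inv_one, _root_.mul_one, _root_.one_mul, _root_.star_neg, _root_.star_star, _root_.mul_neg, _root_.neg_neg]
  c v := by
    rw [MulAut.mul_apply, h.c, h'.a]
    simp only [_root_.mul_inv_rev, _root_.star_one, _root_.mul_one, _root_.one_mul]

theorem isWV_of {m : MulAut (PV K)} (h : IsN 1 m) : IsWV m where
  a e := by
    show cA (m e) = cC e
    rw [h.a]; simp
  b e := by
    show cB (m e) = - star (cB e)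
    rw [h.b]; simp only [_root_.star_one, _root_.inv_one, _root_.mul_one, _root_.one_mul]
  c e := by
    show cC (m e) = cA e
    rw [h.c]; simp

theorem IsWV.unique {m m' : MulAut (PV K)} (h : IsWV m) (h' : IsWV m') : m = m' :=
  aext (fun v => (h.a v).trans (h'.a v).symm) (fun v => (h.b v).trans (h'.b v).symm) (fun v => (h.c v).trans (h'.c v).symm)

theorem normAut_of_isH {r : K} (h0 : r ≠ 0) {m : MulAut (PV K)} (h : IsH r m) :
    NormAut (⊤ : Subgroup (PG K)) m := by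
  intro x hx
  have h1 : star r ≠ 0 := by rwa [Ne, star_eq_zero]
  obtain ⟨ρ, hρ⟩ := mem_U_iff.1 hx
  obtain ⟨x', hx'⟩ := exists_isU (r ^ 2 * ρ)
  have h2 : m * x = x' * m := by
    apply aext
    · intro v
      rw [MulAut.mul_apply, MulAut.mul_apply, h.a, hρ.a, hx'.a, h.a, h.b, h.c]
      simp only [star_mul', star_inv₀, star_star, star_pow]
      field_simp
    · intro v
      rw [MulAut.mul_apply, MulAut.mul_apply, h.b, hρ.b, hx'.b, h.b, h.c]
      field_simp
    · intro v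
      rw [MulAut.mul_apply, MulAut.mul_apply, h.c, hρ.c, hx'.c, h.c]
  rw [h2, mul_inv_cancel_right]
  exact mem_U_iff.2 ⟨_, hx'⟩

/-! ### The first stage -/

/-- the data of (V1), abstractly -/
structure Opp (Um : Subgroup (MulAut (PV K))) : Prop where
  sw : ∀ x ∈ autInducedBy ⊤ (PV K), x ≠ 1 → ∃ y ∈ Um,
        (∀ z, z ∈ Um ↔ (x * y * x) * z * (x * y * x)⁻¹ ∈ autInducedBy ⊤ (PV K)) ∧
        (∀ z, z ∈ autInducedBy ⊤ (PV K) ↔ (x * y * x) * z * (x * y * x)⁻¹ ∈ Um)
  nf : ∀ v : PV K, (v : PG K) ∈ PY K → (∀ y ∈ Um, y v = v) → v = 1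

variable {Um : Subgroup (MulAut (PV K))}

theorem IsU.ne_one {r : K} (h0 : r ≠ 0) {x : MulAut (PV K)} (h : IsU r x) : x ≠ 1 := by
  rintro rfl
  have h1 := h.b (eC 1 (star_one K))
  rw [MulAut.one_apply] at h1
  simp only [cB_eC, cC_eC, mul_one, zero_add] at h1
  exact h0 h1.symm

theorem Opp.eq_one (H : Opp Um) {v : PV K} (h1 : Fx Um v) (h2 : cC v = 0) : v = 1 := H.nf v ⟨vr v, h2⟩ h1

theorem Opp.inj (H : Opp Um) {v w : PV K} (h1 : Fx Um v) (h2 : Fx Um w) (h3 : cC v = cC w) : v = w := by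
  have h4 := H.eq_one (h1.mul h2.inv) (by rw [cC_mul, cC_inv, h3, add_neg_cancel])
  exact mul_inv_eq_one.1 h4

theorem Opp.exists_sw (H : Opp Um) : ∃ m : MulAut (PV K), (∀ z, z ∈ Um ↔ m * z * m⁻¹ ∈ autInducedBy ⊤ (PV K)) ∧
    (∀ z, z ∈ autInducedBy ⊤ (PV K) ↔ m * z * m⁻¹ ∈ Um) := by
  obtain ⟨x, hx⟩ := exists_isU (1 : K)
  obtain ⟨y, -, h1, h2⟩ := H.sw x (mem_U_iff.2 ⟨1, hx⟩) (hx.ne_one one_ne_zero)
  exact ⟨_, h1, h2⟩

theorem Opp.surj (H : Opp Um) (h : HypK K p n) {c : K} (hc : star c = c) : ∃ v, Fx Um v ∧ cC v = c := by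
  obtain ⟨m, h1, h2⟩ := H.exists_sw
  have hfin := h.fin
  let f : {a : K // star a = a} → {a : K // star a = a} := fun a => ⟨cC (m (eA a.1 a.2)), star_cC _⟩
  have hf : ∀ a : {a : K // star a = a}, Fx Um (m (eA a.1 a.2)) := fun a =>
    (fx_map h2 _).1 ((fx_U h).2 ⟨rfl, rfl⟩)
  have hinj : Function.Injective f := by
    intro a b hab
    have h3 := H.inj (hf a) (hf b) (congrArg Subtype.val hab)
    have h4 := m.injective h3
    exact Subtype.ext (congrArg cA h4)
  obtain ⟨a, ha⟩ := (Finite.injective_iff_surjective.1 hinj) ⟨c, hc⟩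
  exact ⟨_, hf a, congrArg Subtype.val ha⟩

theorem Opp.fy_eq_one (H : Opp Um) (h : HypK K p n) {v : PV K} (hv : Fy Um v) (hb : cB v = 0) (hc : cC v = 0) : v = 1 := by
  obtain ⟨m, h1, h2⟩ := H.exists_sw
  obtain ⟨w, rfl⟩ := m.surjective v
  have h3 : Fy (autInducedBy ⊤ (PV K)) w := (fy_map h2 _).2 hv
  have h4 : Fx Um w := (fx_map h1 _).2 ((fx_U h).2 ⟨hb, hc⟩)
  rw [H.eq_one h4 ((fy_U h).1 h3), map_one]

theorem Opp.exists_fy (H : Opp Um) (h : HypK K p n) (b : K) : ∃ w, Fy Um w ∧ cB w = b ∧ cC w = 0 := by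
  obtain ⟨m, h1, h2⟩ := H.exists_sw
  obtain ⟨w0, hw0⟩ := m.surjective (eB b)
  obtain ⟨z, hz, hzc⟩ := H.surj h (star_cC w0)
  have h3 : Fy Um (m (z⁻¹ * w0)) := (fy_map h2 _).1 ((fy_U h).2 (by rw [cC_mul, cC_inv, hzc, neg_add_cancel]))
  have h4 := (fx_U h).1 ((fx_map h1 _).1 hz)
  refine ⟨_, h3, ?_, ?_⟩
  · rw [map_mul, map_inv, hw0, cB_mul, cB_inv, h4.1]; simp
  · rw [map_mul, map_inv, hw0, cC_mul, cC_inv, h4.2]; simp

/-! ### The main theorem -/

theorem stV (hV1 : StV1.{u}) (hG : StGrp.{u}) : StV.{u} := by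
  intro K _ _ p n hK Γ D hP
  obtain ⟨Um, hUm, hD, hsw, hgen, hnf, s0, hs1, hs2, α0, hα0, hT0⟩ := hV1 hK Γ D hP
  obtain ⟨-, -, -, hTP, hTh, -, -, -⟩ := hG hK
  have H : Opp Um := ⟨hsw, hnf⟩
  have tor : ∀ d ∈ D, ∃ s l τ, IsTorP d s l τ := fun d hd => hTP d (hP.D_le hd)
  have hDinv : ∀ d ∈ D, ∀ δ : MulAut (PV K), IsRP d δ → ∀ z, z ∈ Um ↔ δ * z * δ⁻¹ ∈ Um := by
    intro d hd δ hδ z
    refine ⟨hD d hd δ hδ z, fun hz => ?_⟩
    have h1 := hD d⁻¹ (D.inv_mem hd) δ⁻¹ (IsRP.inv hδ) _ hz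
    have h2 : δ⁻¹ * (δ * z * δ⁻¹) * δ⁻¹⁻¹ = z := by group
    rwa [h2] at h1
  obtain ⟨δ0, hδ0⟩ := isRP_tor hT0
  have hs1' : s0 - 1 ≠ 0 := sub_ne_zero.2 hs1
  -- `β = 0`
  have hB : ∀ v, Fx Um v → cB v = 0 := by
    intro v hv
    have h1 := (fx_map (hDinv α0 hα0 δ0 hδ0) v).1 hv
    have h2 := H.inj h1 hv (by rw [tor_c hT0 hδ0]; simp)
    have h3 := tor_b hT0 hδ0 v
    rw [h2] at h3
    simp only [mul_one, RingEquiv.refl_apply] at h3
    have h4 : (s0 - 1) * cB v = 0 := by linear_combination -h3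
    exact (mul_eq_zero.1 h4).resolve_left hs1'
  -- `ω = 0`
  have hW : ∀ b, Fy Um (eB b) := by
    intro b
    obtain ⟨w, hw, hwb, hwc⟩ := H.exists_fy hK ((s0 - 1)⁻¹ * b)
    have h1 := ((fy_map (hDinv α0 hα0 δ0 hδ0) w).1 hw).mul hw.inv
    have h2 : δ0 w * w⁻¹ = eB b := by
      apply vext
      · rw [cA_mul, cA_inv, tor_a hT0 hδ0, hs2]
        simp
      · rw [cB_mul, cB_inv, tor_b hT0 hδ0, hwb]
        simp only [mul_one, RingEquiv.refl_apply, cB_eB]
        field_simp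
        ring
      · rw [cC_mul, cC_inv, tor_c hT0 hδ0, hwc]
        simp
    rwa [h2] at h1
  -- `ψ`
  classical
  let g : K → K := fun c => if hc : star c = c then cA (H.surj hK hc).choose else 0
  have hg : ∀ v, Fx Um v → g (cC v) = cA v := by
    intro v hv
    have h1 : g (cC v) = cA (H.surj hK (star_cC v)).choose := dif_pos (star_cC v)
    rw [h1, H.inj (H.surj hK (star_cC v)).choose_spec.1 hv (H.surj hK (star_cC v)).choose_spec.2]
  have hg' : ∀ (c : K) (hc : star c = c), ∃ v, Fx Um v ∧ cC v = c ∧ cA v = g c := by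
    intro c hc
    obtain ⟨v, hv, rfl⟩ := H.surj hK hc
    exact ⟨v, hv, rfl, (hg v hv).symm⟩
  have hgs : ∀ c : K, star c = c → star (g c) = g c := by
    intro c hc
    obtain ⟨v, -, -, h1⟩ := hg' c hc
    rw [← h1, star_cA]
  have hga : ∀ x y : K, star x = x → star y = y → g (x + y) = g x + g y := by
    intro x y hx hy
    obtain ⟨v, hv, hvx, h1⟩ := hg' x hx
    obtain ⟨w, hw, hwy, h2⟩ := hg' y hy
    rw [← h1, ← h2, ← cA_mul, ← hg _ (hv.mul hw), cC_mul, hvx, hwy]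
  obtain ⟨θ, hθ⟩ := hTh (fun c => - g c) (fun x y hx hy => by rw [hga x y hx hy]; ring)
    (fun x hx => by rw [star_neg, hgs x hx])
  obtain ⟨t, ht⟩ : ∃ t : MulAut (PV K), IsRP θ t := exists_isRP fun x => by rw [hθ.r]
  have htA : ∀ v, cA (t v) = cA v - g (cC v) := by
    intro v
    show ((t v : PV K) : PG K).a = _
    rw [ht, hθ.a, sub_eq_add_neg]; rfl
  have htB : ∀ v, cB (t v) = cB v := by
    intro v
    show ((t v : PV K) : PG K).b = _
    rw [ht, hθ.b]; rfl
  have htC : ∀ v, cC (t v) = cC v := by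
    intro v
    show ((t v : PV K) : PG K).c = _
    rw [ht, hθ.c]; rfl
  -- `θ` commutes with `D`
  have hψ : ∀ d ∈ D, ∀ s l τ, IsTorP d s l τ → ∀ c : K, star c = c → g (l * τ c) = s * star s * l * τ (g c) := by
    intro d hd s l τ hT c hc
    obtain ⟨v, hv, h1, h2⟩ := hg' c hc
    obtain ⟨δ, hδ⟩ := isRP_tor hT
    have h3 := hg _ ((fx_map (hDinv d hd δ hδ) v).1 hv)
    rw [tor_c hT hδ, tor_a hT hδ, h1, h2] at h3
    exact h3
  have hcomm : ∀ d ∈ D, θ * d = d * θ := by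
    intro d hd
    obtain ⟨s, l, τ, hT⟩ := tor d hd
    refine MulEquiv.ext fun x => ?_
    rw [MulAut.mul_apply, MulAut.mul_apply]
    apply PG.ext
    · rw [hθ.r, hT.r, hT.r, hθ.r]
    · rw [hθ.a, hT.a, hT.a, hθ.a, hT.c, hψ d hd s l τ hT x.c x.hc, map_add, map_neg]
      ring
    · rw [hθ.b, hT.b, hT.b, hθ.b]
    · rw [hθ.c, hT.c, hT.c, hθ.c]
  have hcommV : ∀ d ∈ D, ∀ δ : MulAut (PV K), IsRP d δ → t * δ = δ * t := by
    intro d hd δ hδ
    refine MulEquiv.ext fun v => Subtype.ext ?_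
    rw [MulAut.mul_apply, MulAut.mul_apply, ht, hδ, hδ, ht]
    exact congrArg (fun f : MulAut (PG K) => f (v : PG K)) (hcomm d hd)
  -- `t` commutes with `U`
  have htU : ∀ x ∈ autInducedBy (⊤ : Subgroup (PG K)) (PV K), t * x = x * t := by
    intro x hx
    obtain ⟨r, hr⟩ := mem_U_iff.1 hx
    apply aext
    · intro v
      rw [MulAut.mul_apply, MulAut.mul_apply, htA, hr.a, hr.a, hr.c, htA, htB, htC]
      ring
    · intro v
      rw [MulAut.mul_apply, MulAut.mul_apply, htB, hr.b, hr.b, htB, htC]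
    · intro v
      rw [MulAut.mul_apply, MulAut.mul_apply, htC, hr.c, hr.c, htC]
  have htU' : ∀ x ∈ autInducedBy (⊤ : Subgroup (PG K)) (PV K), t * x * t⁻¹ = x := by
    intro x hx
    rw [htU x hx, mul_inv_cancel_right]
  have htUm : ∀ z, z ∈ autInducedBy (⊤ : Subgroup (PG K)) (PV K) ↔ t * z * t⁻¹ ∈ autInducedBy (⊤ : Subgroup (PG K)) (PV K) := by
    intro z
    constructor
    · intro hz
      rwa [htU' z hz]
    · intro hz
      have h1 := htU' _ hz
      have h2 : t * z * t⁻¹ = z := by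
        have h3 : t⁻¹ * (t * (t * z * t⁻¹) * t⁻¹) * t = t⁻¹ * (t * z * t⁻¹) * t := by rw [h1]
        have h4 : t⁻¹ * (t * (t * z * t⁻¹) * t⁻¹) * t = t * z * t⁻¹ := by group
        have h5 : t⁻¹ * (t * z * t⁻¹) * t = z := by group
        rw [h4, h5] at h3
        exact h3
      rwa [h2] at hz
  -- the conjugated objects
  set! Γ' : Subgroup (MulAut (PV K)) := Γ.map (MulAut.conj t).toMonoidHom with hΓ'
  set! Um' : Subgroup (MulAut (PV K)) := Um.map (MulAut.conj t).toMonoidHom with hUm'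
  have memΓ : ∀ z, z ∈ Γ ↔ t * z * t⁻¹ ∈ Γ' := by
    intro z
    constructor
    · intro hz
      exact ⟨z, hz, rfl⟩
    · rintro ⟨w, hw, hwz⟩
      have h1 : t * w * t⁻¹ = t * z * t⁻¹ := hwz
      have h2 : w = z := by simpa only [_root_.mul_left_inj, _root_.mul_right_inj] using h1
      rwa [← h2]
  have memU : ∀ z, z ∈ Um ↔ t * z * t⁻¹ ∈ Um' := by
    intro z
    constructor
    · intro hz
      exact ⟨z, hz, rfl⟩
    · rintro ⟨w, hw, hwz⟩
      have h1 : t * w * t⁻¹ = t * z * t⁻¹ := hwz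
      have h2 : w = z := by simpa only [_root_.mul_left_inj, _root_.mul_right_inj] using h1
      rwa [← h2]
  have hZ' : ∀ (c : K) (hc : star c = c), Fx Um' (eC c hc) := by
    intro c hc
    obtain ⟨v, hv, h1, h2⟩ := hg' c hc
    have h3 : t v = eC c hc := by
      apply vext
      · rw [htA, h2, h1]; simp
      · rw [htB, hB v hv]; simp
      · rw [htC, h1]; simp
    rw [← h3]
    exact (fx_map memU _).1 hv
  have hW' : ∀ b : K, Fy Um' (eB b) := by
    intro b
    have h3 : t (eB b) = eB b := by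
      apply vext
      · have hg0 : g 0 = 0 := by
          have := hga 0 0 (star_zero K) (star_zero K)
          rw [add_zero] at this
          linear_combination -this
        rw [htA]; simp [hg0]
      · rw [htB]
      · rw [htC]
    rw [← h3]
    exact (fy_map memU _).1 (hW b)
  have hFx' : ∀ v, Fx Um' v → cA v = 0 ∧ cB v = 0 := by
    intro v hv
    obtain ⟨w, rfl⟩ := t.surjective v
    have h1 := (fx_map memU _).2 hv
    rw [htA, htB, hg w h1, hB w h1, sub_self]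
    exact ⟨rfl, rfl⟩
  have hFy' : ∀ v, Fy Um' v → cA v = 0 := by
    intro v hv
    obtain ⟨w, rfl⟩ := t.surjective v
    have h1 := (fy_map memU _).2 hv
    obtain ⟨z, hz, hz1, hz2⟩ := hg' _ (star_cC w)
    have h2 := H.fy_eq_one hK ((h1.mul (hW (cB w)).inv).mul hz.fy.inv) (by simp only [hB z hz, _root_.Cfsg.Agent.H569.P4.cB_mul, _root_.Cfsg.Agent.H569.P4.cB_inv, _root_.Cfsg.Agent.H569.P4.cB_eB, _root_.add_neg_cancel, _root_.neg_zero, _root_.add_zero]) (by simp only [hz1, _root_.Cfsg.Agent.H569.P4.cC_mul, _root_.Cfsg.Agent.H569.P4.cC_inv, _root_.Cfsg.Agent.H569.P4.cC_eB, _root_.neg_zero, _root_.add_zero, _root_.add_neg_cancel])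
    have h3 := congrArg cA h2
    simp only [cA_mul, cA_inv, cA_eB, cA_one, hz2] at h3
    rw [htA]
    linear_combination h3
  -- the elements `n_r`
  have hN : ∀ r : K, r ≠ 0 → ∃ m ∈ Γ', IsN r m ∧ (∀ z, z ∈ autInducedBy ⊤ (PV K) ↔ m * z * m⁻¹ ∈ Um') := by
    intro r h0
    obtain ⟨x, hx⟩ := exists_isU r
    have hxU := mem_U_iff.2 ⟨r, hx⟩
    obtain ⟨y, hy, h1, h2⟩ := hsw x hxU (hx.ne_one h0)
    have e1 : x * (t * y * t⁻¹) * x = t * (x * y * x) * t⁻¹ := by
      have h3 := htU x hxU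
      have h4 : t⁻¹ * x = x * t⁻¹ := by
        have : t⁻¹ * (t * x) * t⁻¹ = t⁻¹ * (x * t) * t⁻¹ := by rw [h3]
        have h5 : t⁻¹ * (t * x) * t⁻¹ = x * t⁻¹ := by group
        have h6 : t⁻¹ * (x * t) * t⁻¹ = t⁻¹ * x := by group
        rw [h5, h6] at this
        exact this.symm
      calc x * (t * y * t⁻¹) * x = (x * t) * y * (t⁻¹ * x) := by group
        _ = (t * x) * y * (x * t⁻¹) := by rw [h4, h3]
        _ = t * (x * y * x) * t⁻¹ := by group
    have hy' := (memU y).1 hy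
    have k1 : ∀ z, z ∈ Um' ↔ (x * (t * y * t⁻¹) * x) * z * (x * (t * y * t⁻¹) * x)⁻¹ ∈ autInducedBy ⊤ (PV K) := by
      intro z
      have e2 : z = t * (t⁻¹ * z * t) * t⁻¹ := by group
      have e3 : t * (x * y * x) * t⁻¹ * z * (t * (x * y * x) * t⁻¹)⁻¹ =
          t * ((x * y * x) * (t⁻¹ * z * t) * (x * y * x)⁻¹) * t⁻¹ := by group
      rw [e1, e3, ← htUm, ← h1, memU, ← e2]
    have k2 : ∀ z, z ∈ autInducedBy ⊤ (PV K) ↔ (x * (t * y * t⁻¹) * x) * z * (x * (t * y * t⁻¹) * x)⁻¹ ∈ Um' := by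
      intro z
      have e2 : z = t * (t⁻¹ * z * t) * t⁻¹ := by group
      have e3 : t * (x * y * x) * t⁻¹ * z * (t * (x * y * x) * t⁻¹)⁻¹ =
          t * ((x * y * x) * (t⁻¹ * z * t) * (x * y * x)⁻¹) * t⁻¹ := by group
      have e4 := htUm (t⁻¹ * z * t)
      rw [← e2] at e4
      rw [e1, e3, ← memU, ← h2]
      exact e4.symm
    have hL := isL_of_swap hK hZ' hW' hFx' hFy' h0 hx hy' k1 k2
    refine ⟨_, ?_, isN_of h0 hx hL, k2⟩
    rw [e1, ← memΓ]
    exact Γ.mul_mem (Γ.mul_mem (hP.indu hxU) (hUm hy)) (hP.indu hxU)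
  obtain ⟨m1, hm1, hm1N, hm1U⟩ := hN 1 one_ne_zero
  have hUΓ' : autInducedBy (⊤ : Subgroup (PG K)) (PV K) ≤ Γ' := by
    intro x hx
    have h1 := (memΓ x).1 (hP.indu hx)
    rwa [htU' x hx] at h1
  -- elements of `Γ'` normalizing `U`
  have hnorm : ∀ γ ∈ Γ', NormAut (⊤ : Subgroup (PG K)) γ → ∃ x ∈ autInducedBy (⊤ : Subgroup (PG K)) (PV K), ∃ d ∈ D,
      ∃ δ : MulAut (PV K), IsRP d δ ∧ γ = x * δ := by
    intro γ hγ hn
    obtain ⟨γ0, hγ0, rfl⟩ := hγ
    have hn0 : NormAut (⊤ : Subgroup (PG K)) γ0 := by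
      intro x hx
      have h1 := hn x hx
      have e3 : (MulAut.conj t).toMonoidHom γ0 * x * ((MulAut.conj t).toMonoidHom γ0)⁻¹ = t * (γ0 * x * γ0⁻¹) * t⁻¹ := by
        have e4 : (MulAut.conj t).toMonoidHom γ0 = t * γ0 * t⁻¹ := rfl
        rw [e4]
        have e5 : t * γ0 * t⁻¹ * x * (t * γ0 * t⁻¹)⁻¹ = t * γ0 * (t⁻¹ * x * t) * γ0⁻¹ * t⁻¹ := by group
        have e6 : t⁻¹ * x * t = x := by
          have : t⁻¹ * (t * x * t⁻¹) * t = x := by group
          rwa [htU' x hx] at this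
        rw [e5, e6]
        group
      rw [e3, ← htUm] at h1
      exact h1
    obtain ⟨x, d, hd, hxd⟩ := hP.norm γ0 hγ0 hn0
    obtain ⟨s, l, τ, hT⟩ := tor d hd
    obtain ⟨δ, hδ⟩ := isRP_tor hT
    obtain ⟨cx, hcx⟩ := exists_isU x.r
    have h1 : γ0 = cx * δ := by
      refine MulEquiv.ext fun v => Subtype.ext ?_
      rw [hxd, MulAut.mul_apply, conj_of_isU hcx, hδ]
    have hcxU := mem_U_iff.2 ⟨_, hcx⟩
    refine ⟨cx, hcxU, d, hd, δ, hδ, ?_⟩
    show t * γ0 * t⁻¹ = _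
    rw [h1, ← mul_assoc, htU cx hcxU, mul_assoc cx t δ, hcommV d hd δ hδ]
    group
  constructor
  · -- the torus
    intro t0 ht0 α hα
    obtain ⟨m, hm, hmN, -⟩ := hN t0 ht0
    have ht0s : star t0 ≠ 0 := by rwa [Ne, star_eq_zero]
    have hH := isH_of hmN hm1N
    obtain ⟨x, hx, d, hd, δ, hδ, he⟩ := hnorm _ (Γ'.mul_mem hm hm1) (normAut_of_isH ht0 hH)
    obtain ⟨s, l, τ, hT⟩ := tor d hd
    obtain ⟨ρ, hρ⟩ := mem_U_iff.1 hx
    have kC : ∀ v, (t0 * star t0)⁻¹ * cC v = l * τ (cC v) := by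
      intro v
      rw [← hH.c, he, MulAut.mul_apply, hρ.c, tor_c hT hδ]
    have kB : ∀ v, t0 * (star t0)⁻¹ * cB v = s * l * τ (cB v) + ρ * (l * τ (cC v)) := by
      intro v
      rw [← hH.b, he, MulAut.mul_apply, hρ.b, tor_b hT hδ, tor_c hT hδ]
    have hl : l = (t0 * star t0)⁻¹ := by
      have h1 := kC (eC 1 (star_one K))
      simp only [cC_eC, mul_one, map_one] at h1
      exact h1.symm
    have hρ0 : ρ = 0 := by
      have h1 := kB (eC 1 (star_one K))
      simp only [cC_eC, cB_eC, mul_one, map_one, map_zero, mul_zero, zero_add] at h1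
      exact (mul_eq_zero.1 h1.symm).resolve_right hT.nl
    have hsl : s * l = t0 * (star t0)⁻¹ := by
      have h1 := kB (eB 1)
      simp only [cC_eB, cB_eB, mul_one, map_one, map_zero, mul_zero, add_zero] at h1
      exact h1.symm
    have hτ : ∀ b, τ b = b := by
      intro b
      have h1 := kB (eB b)
      simp only [cC_eB, cB_eB, map_zero, mul_zero, add_zero] at h1
      rw [hsl] at h1
      exact (mul_left_cancel₀ (mul_ne_zero ht0 (inv_ne_zero ht0s)) h1).symm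
    have hs : s = t0 ^ 2 := by
      have h1 : s = s * l * (t0 * star t0) := by
        rw [hl, mul_assoc, inv_mul_cancel₀ (mul_ne_zero ht0 ht0s), mul_one]
      rw [h1, hsl]
      field_simp
    have hαd : α = d := by
      refine MulEquiv.ext fun x => ?_
      apply PG.ext
      · rw [hα.r, hT.r, hs, hτ]; simp
      · rw [hα.a, hT.a, hs, hl, hτ]; simp only [_root_.star_pow, _root_.mul_inv_rev, _root_.RingEquiv.refl_apply]
      · rw [hα.b, hT.b, hs, hl, hτ]; simp only [_root_.mul_inv_rev, _root_.RingEquiv.refl_apply]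
      · rw [hα.c, hT.c, hl, hτ]; simp only [_root_.mul_inv_rev, _root_.RingEquiv.refl_apply]
    rwa [hαd]
  · refine ⟨fun c => - g c, θ, t, hθ, hcomm, ht, ?_⟩
    -- `Λ ≤ Γ'`
    have hm1W := isWV_of hm1N
    have hLam : LamV K ≤ Γ' := by
      refine sup_le hUΓ' ?_
      rw [Subgroup.closure_le]
      intro w hw
      rw [IsWV.unique hw hm1W]
      exact hm1
    have hm1L : m1 ∈ LamV K := (le_sup_right : _ ≤ LamV K) (Subgroup.subset_closure hm1W)
    have hUL : autInducedBy (⊤ : Subgroup (PG K)) (PV K) ≤ LamV K := le_sup_left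
    have hUmL : Um' ≤ LamV K := by
      intro z hz
      have h1 : m1⁻¹ * z * m1 ∈ autInducedBy (⊤ : Subgroup (PG K)) (PV K) := by
        rw [hm1U]
        have : m1 * (m1⁻¹ * z * m1) * m1⁻¹ = z := by group
        rwa [this]
      have h2 : z = m1 * (m1⁻¹ * z * m1) * m1⁻¹ := by group
      rw [h2]
      exact (LamV K).mul_mem ((LamV K).mul_mem hm1L (hUL h1)) ((LamV K).inv_mem hm1L)
    intro γ
    constructor
    · intro hγ
      obtain ⟨γ0, hγ0, rfl⟩ := hγ
      obtain ⟨w, hw, hwn⟩ := hgen γ0 hγ0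
      -- transport
      have hw' : t * w * t⁻¹ ∈ LamV K := by
        have h1 : autInducedBy (⊤ : Subgroup (PG K)) (PV K) ⊔ Um ≤
            (LamV K).comap (MulAut.conj t).toMonoidHom := by
          refine sup_le ?_ ?_
          · intro x hx
            show t * x * t⁻¹ ∈ LamV K
            rw [htU' x hx]
            exact hUL hx
          · intro x hx
            exact hUmL ((memU x).1 hx)
        exact h1 hw
      have hγ' : t * γ0 * t⁻¹ ∈ Γ' := (memΓ _).1 hγ0
      have hn : NormAut (⊤ : Subgroup (PG K)) ((t * w * t⁻¹)⁻¹ * (t * γ0 * t⁻¹)) := by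
        intro x hx
        have e1 : (t * w * t⁻¹)⁻¹ * (t * γ0 * t⁻¹) * x * ((t * w * t⁻¹)⁻¹ * (t * γ0 * t⁻¹))⁻¹ =
            t * ((w⁻¹ * γ0) * (t⁻¹ * x * t) * (w⁻¹ * γ0)⁻¹) * t⁻¹ := by group
        have e6 : t⁻¹ * x * t = x := by
          have : t⁻¹ * (t * x * t⁻¹) * t = x := by group
          rwa [htU' x hx] at this
        rw [e1, e6, ← htUm]
        exact hwn x hx
      obtain ⟨x, hx, d, hd, δ, hδ, he⟩ := hnorm _ (Γ'.mul_mem (Γ'.inv_mem (hLam hw')) hγ') hn
      refine ⟨(t * w * t⁻¹) * x, (LamV K).mul_mem hw' (hUL hx), d, hd, δ, hδ, ?_⟩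
      show t * γ0 * t⁻¹ = _
      rw [mul_assoc (t * w * t⁻¹) x δ, ← he, mul_inv_cancel_left]
    · rintro ⟨w, hw, d, hd, δ, hδ, rfl⟩
      refine Γ'.mul_mem (hLam hw) ?_
      have h1 := (memΓ δ).1 (hP.D_res d hd δ hδ)
      have h2 : t * δ * t⁻¹ = δ := by rw [hcommV d hd δ hδ, mul_inv_cancel_right]
      rwa [h2] at h1

end Cfsg.Agent.H569.P4
end

-- part: H699/P4/Bits
section
/-!
# S5210, task P4-2R: bits (helper699)

For `q = 2` the field `K` has the four elements `i + j ω`, `ω² = ω + 1`. The homomorphism `mat` of `PG K` into the group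
of the `4 × 4`-matrices over `F₂` (in the form `Fin 2 ⊕ Fin 2`).
-/

set_option autoImplicit false

namespace Cfsg.Agent.H699.P4

open Cfsg Matrix
open Cfsg.Agent.H776.P4
open Cfsg.Agent.H756.PU (HypK)

universe u

/-- the coordinates of a field with four elements -/
structure Four (K : Type u) [Field K] [StarRing K] where
  e : ZMod 2 →+* K
  w : K
  hw : w * w = w + 1
  two : (2 : K) = 0
  st : ∀ x : K, star x = x * x
  c0 : K → ZMod 2
  c1 : K → ZMod 2
  rep : ∀ x : K, x = e (c0 x) + e (c1 x) * w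
  uni : ∀ i j i' j' : ZMod 2, e i + e j * w = e i' + e j' * w → i = i' ∧ j = j'

theorem sq_zmod (i : ZMod 2) : i * i = i := by revert i; decide

theorem two_zmod : (2 : ZMod 2) = 0 := by decide

namespace Four

variable {K : Type u} [Field K] [StarRing K] (X : Four K)

theorem esq (i : ZMod 2) : X.e i * X.e i = X.e i := by rw [← map_mul, sq_zmod]

theorem eq_iff {i j : ZMod 2} {x : K} (h : x = X.e i + X.e j * X.w) : X.c0 x = i ∧ X.c1 x = j :=
  X.uni _ _ _ _ ((X.rep x).symm.trans h)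

theorem c0_add (x y : K) : X.c0 (x + y) = X.c0 x + X.c0 y := by
  refine (X.eq_iff (i := X.c0 x + X.c0 y) (j := X.c1 x + X.c1 y) ?_).1
  conv_lhs => rw [X.rep x, X.rep y]
  rw [map_add, map_add]
  ring

theorem c1_add (x y : K) : X.c1 (x + y) = X.c1 x + X.c1 y := by
  refine (X.eq_iff (i := X.c0 x + X.c0 y) (j := X.c1 x + X.c1 y) ?_).2
  conv_lhs => rw [X.rep x, X.rep y]
  rw [map_add, map_add]
  ring

theorem star_rep (x : K) : star x = x + X.e (X.c1 x) := by
  have h1 := X.rep x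
  set i := X.c0 x
  set j := X.c1 x
  rw [X.st, h1]
  linear_combination (X.esq i) + (X.esq j) * (X.w + 1) + X.e j * X.e j * X.hw + (X.e i * X.e j * X.w) * X.two

theorem c1_fix {a : K} (h : star a = a) : X.c1 a = 0 := by
  rw [X.star_rep] at h
  have h1 : X.e (X.c1 a) = 0 := by linear_combination h
  exact (X.uni (X.c1 a) 0 0 0 (by rw [h1]; simp)).1

theorem fix_rep {a : K} (h : star a = a) : a = X.e (X.c0 a) := by
  conv_lhs => rw [X.rep a, X.c1_fix h]
  simp

theorem star_e (i : ZMod 2) : star (X.e i) = X.e i := by rw [X.st, X.esq]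

theorem c0_e (i : ZMod 2) : X.c0 (X.e i) = i := (X.eq_iff (i := i) (j := 0) (by simp)).1

theorem c0_co (i j : ZMod 2) : X.c0 (X.e i + X.e j * X.w) = i := (X.eq_iff rfl).1

theorem c1_co (i j : ZMod 2) : X.c1 (X.e i + X.e j * X.w) = j := (X.eq_iff rfl).2

theorem c0_mul_fix (r : K) {c : K} (h : star c = c) : X.c0 (r * c) = X.c0 r * X.c0 c := by
  refine (X.eq_iff (i := X.c0 r * X.c0 c) (j := X.c1 r * X.c0 c) ?_).1
  conv_lhs => rw [X.rep r, X.fix_rep h]
  rw [map_mul, map_mul]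
  ring

theorem c1_mul_fix (r : K) {c : K} (h : star c = c) : X.c1 (r * c) = X.c1 r * X.c0 c := by
  refine (X.eq_iff (i := X.c0 r * X.c0 c) (j := X.c1 r * X.c0 c) ?_).2
  conv_lhs => rw [X.rep r, X.fix_rep h]
  rw [map_mul, map_mul]
  ring

theorem tr (r b : K) : r * star b + star r * b = X.e (X.c0 r * X.c1 b + X.c1 r * X.c0 b) := by
  rw [X.star_rep r, X.star_rep b]
  have hr := X.rep r
  have hb := X.rep b
  rw [map_add, map_mul, map_mul]
  linear_combination (X.e (X.c1 b)) * hr + (X.e (X.c1 r)) * hb + (r * b + X.e (X.c1 b) * X.e (X.c1 r) * X.w) * X.two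

theorem nm (r : K) : r * star r = X.e (X.c0 r + X.c0 r * X.c1 r + X.c1 r) := by
  rw [X.star_rep r]
  have hr := X.rep r
  set i := X.c0 r
  set j := X.c1 r
  rw [hr, map_add, map_add, map_mul]
  linear_combination (X.esq i) + (X.e j * X.e j) * X.hw + (X.esq j) * (2 * X.w + 1) + (X.e i * X.e j * X.w + X.e j * X.w) * X.two

theorem ext_bits {x y : K} (h0 : X.c0 x = X.c0 y) (h1 : X.c1 x = X.c1 y) : x = y := by
  rw [X.rep x, X.rep y, h0, h1]

end Four

/-- a field with four elements -/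
theorem four_of_hyp {K : Type u} [Field K] [StarRing K] {p n : ℕ} (h : HypK K p n) (hq : p ^ n = 2) :
    Nonempty (Four K) := by
  classical
  have hfin := h.fin
  have := Fintype.ofFinite K
  have hp2 : p = 2 ∧ n = 1 := by
    have h1 : p ∣ 2 := hq ▸ dvd_pow_self p (by have := h.hn; omega)
    have h2 : p = 2 := (Nat.prime_dvd_prime_iff_eq h.pp Nat.prime_two).1 h1
    subst h2
    exact ⟨rfl, Nat.pow_right_injective le_rfl (by simpa using hq)⟩
  obtain ⟨rfl, rfl⟩ := hp2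
  have hchar := h.char
  have hcard : Nat.card K = 4 := by rw [h.card]; norm_num
  have hcard' : Fintype.card K = 4 := by rw [← Nat.card_eq_fintype_card, hcard]
  have two : (2 : K) = 0 := by exact_mod_cast CharP.cast_eq_zero K 2
  let e : ZMod 2 →+* K := ZMod.castHom (dvd_refl 2) K
  obtain ⟨w, hw⟩ : ∃ w : K, w ∉ ({0, 1} : Finset K) := by
    by_contra hcon
    push Not at hcon
    have h1 : Fintype.card K ≤ ({0, 1} : Finset K).card := Finset.card_le_card fun x _ => hcon x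
    have h2 : ({0, 1} : Finset K).card ≤ 2 := Finset.card_le_two
    omega
  rw [Finset.mem_insert, Finset.mem_singleton, not_or] at hw
  obtain ⟨hw0, hw1⟩ := hw
  have hw4 : w ^ 4 = w := by
    have := FiniteField.pow_card w
    rwa [hcard'] at this
  have hww : w * w = w + 1 := by
    have h1 : (w * (w - 1)) * (w * w + w + 1) = 0 := by linear_combination hw4
    rcases mul_eq_zero.1 h1 with h2 | h2
    · rcases mul_eq_zero.1 h2 with h3 | h3
      · exact absurd h3 hw0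
      · exact absurd (sub_eq_zero.1 h3) hw1
    · linear_combination h2 - (w + 1) * two
  have hz : ∀ k : ZMod 2, k = 0 ∨ k = 1 := by decide
  have uni : ∀ i j i' j' : ZMod 2, e i + e j * w = e i' + e j' * w → i = i' ∧ j = j' := by
    intro i j i' j' h1
    have h2 : e (i - i') = e (j' - j) * w := by
      rw [map_sub, map_sub]
      linear_combination h1
    rcases hz (j' - j) with h3 | h3
    · rw [h3, map_zero, zero_mul] at h2
      refine ⟨?_, (sub_eq_zero.1 h3).symm⟩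
      rcases hz (i - i') with h4 | h4
      · exact sub_eq_zero.1 h4
      · rw [h4, map_one] at h2
        exact absurd h2 one_ne_zero
    · exfalso
      rw [h3, map_one, one_mul] at h2
      rcases hz (i - i') with h4 | h4
      · rw [h4, map_zero] at h2
        exact hw0 h2.symm
      · rw [h4, map_one] at h2
        exact hw1 h2.symm
  have hinj : Function.Injective (fun t : ZMod 2 × ZMod 2 => e t.1 + e t.2 * w) := by
    rintro ⟨i, j⟩ ⟨i', j'⟩ h1
    obtain ⟨h2, h3⟩ := uni i j i' j' h1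
    rw [h2, h3]
  have hbij := (Fintype.bijective_iff_injective_and_card (fun t : ZMod 2 × ZMod 2 => e t.1 + e t.2 * w)).2
    ⟨hinj, by rw [hcard']; rfl⟩
  choose f hf using hbij.2
  exact ⟨{ e := e
           w := w
           hw := hww
           two := two
           st := fun x => by rw [h.star_eq, pow_one, sq]
           c0 := fun x => (f x).1
           c1 := fun x => (f x).2
           rep := fun x => (hf x).symm
           uni := uni }⟩

end Cfsg.Agent.H699.P4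
end

-- part: H699/P4/Mat
section
/-!
# S5210, task P4-2R: the embedding into `GL₄(2)` (helper699)
-/

set_option autoImplicit false

namespace Cfsg.Agent.H699.P4

open Cfsg Matrix
open Cfsg.Agent.H776.P4
open Cfsg.Agent.H756.PU (HypK)

universe u

/-- the `2 × 2`-matrices over `F₂` -/
abbrev M2 := Matrix (Fin 2) (Fin 2) (ZMod 2)

/-- the `4 × 4`-matrices over `F₂` -/
abbrev M4 := Matrix (Fin 2 ⊕ Fin 2) (Fin 2 ⊕ Fin 2) (ZMod 2)

namespace Four

variable {K : Type u} [Field K] [StarRing K] (X : Four K)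

/-- the upper right block -/
def bl (x : PG K) : M2 :=
  !![X.c0 x.b, X.c0 x.b * X.c1 x.r + X.c0 x.a + X.c0 x.b + X.c1 x.b; X.c0 x.c, X.c0 x.c * X.c1 x.r + X.c1 x.b]

/-- the matrix -/
def mt (x : PG K) : M4 := fromBlocks !![1, X.c0 x.r; 0, 1] (X.bl x) 0 !![1, X.c1 x.r; 0, 1]

theorem mt_one : X.mt 1 = 1 := by
  have h0 : X.c0 0 = 0 := (X.eq_iff (i := 0) (j := 0) (by simp)).1
  have h1 : X.c1 0 = 0 := (X.eq_iff (i := 0) (j := 0) (by simp)).2
  have e1 : (!![1, 0; 0, 1] : M2) = 1 := Matrix.one_fin_two.symm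
  have e2 : (!![0, 0; 0, 0] : M2) = 0 := by decide
  simp only [mt, bl, PG.one_r, PG.one_a, PG.one_b, PG.one_c, h0, h1, mul_zero, add_zero]
  rw [e1, e2, fromBlocks_one]

theorem mt_mul (x y : PG K) : X.mt (x * y) = X.mt x * X.mt y := by
  have ha : (x * y).a = x.a + y.a + (x.r * star y.b + star x.r * y.b) + (x.r * star x.r) * y.c := by
    rw [PG.mul_a]; ring
  have a0 : X.c0 (x * y).a = X.c0 x.a + X.c0 y.a + (X.c0 x.r * X.c1 y.b + X.c1 x.r * X.c0 y.b) +
      (X.c0 x.r + X.c0 x.r * X.c1 x.r + X.c1 x.r) * X.c0 y.c := by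
    rw [ha, X.tr, X.nm, X.c0_add, X.c0_add, X.c0_add, X.c0_mul_fix _ y.hc, X.c0_e, X.c0_e]
  have b0 : X.c0 (x * y).b = X.c0 x.b + X.c0 y.b + X.c0 x.r * X.c0 y.c := by
    rw [PG.mul_b, X.c0_add, X.c0_add, X.c0_mul_fix _ y.hc]
  have b1 : X.c1 (x * y).b = X.c1 x.b + X.c1 y.b + X.c1 x.r * X.c0 y.c := by
    rw [PG.mul_b, X.c1_add, X.c1_add, X.c1_mul_fix _ y.hc]
  have cc : X.c0 (x * y).c = X.c0 x.c + X.c0 y.c := by rw [PG.mul_c, X.c0_add]
  have r0 : X.c0 (x * y).r = X.c0 x.r + X.c0 y.r := by rw [PG.mul_r, X.c0_add]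
  have r1 : X.c1 (x * y).r = X.c1 x.r + X.c1 y.r := by rw [PG.mul_r, X.c1_add]
  simp only [mt, fromBlocks_multiply, bl, a0, b0, b1, cc, r0, r1]
  generalize X.c0 x.a = xa, X.c0 y.a = ya, X.c0 x.b = xb0, X.c0 y.b = yb0, X.c1 x.b = xb1, X.c1 y.b = yb1,
    X.c0 x.c = xc, X.c0 y.c = yc, X.c0 x.r = xr0, X.c0 y.r = yr0, X.c1 x.r = xr1, X.c1 y.r = yr1
  have h2 := two_zmod
  congr 1
  · ext i j
    (revert i j; simp only [_root_.Fin.forall_fin_succ, _root_.Matrix.of_apply, _root_.Matrix.cons_val', _root_.Matrix.cons_val_fin_one, _root_.Matrix.cons_mul, _root_.Nat.succ_eq_add_one, Nat.reduceAdd, _root_.Matrix.vecMul_cons, _root_.Matrix.head_cons, _root_.one_smul, _root_.Matrix.tail_cons, _root_.Matrix.smul_cons, _root_.smul_eq_mul, _root_.MulZeroClass.mul_zero, _root_.mul_one, _root_.Matrix.smul_empty, _root_.Matrix.empty_vecMul, _root_.add_zero, _root_.Matrix.add_cons, _root_.Matrix.empty_add_empty, _root_.zero_smul, _root_.zero_add,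 _root_.Matrix.empty_mul, _root_.Equiv.symm_apply_apply, _root_.Matrix.add_apply, _root_.Matrix.zero_apply, Fin.isValue, _root_.Matrix.cons_val_zero, _root_.Matrix.cons_val_succ, _root_.forall_const, _root_.implies_true, _root_.and_true, _root_.true_and]) <;> (repeat' with_reducible apply And.intro)
    ring
  · ext i j
    (revert i j; simp only [_root_.Fin.forall_fin_succ, _root_.Matrix.of_apply, _root_.Matrix.cons_val', _root_.Matrix.cons_val_fin_one, _root_.Matrix.cons_mul, _root_.Nat.succ_eq_add_one, Nat.reduceAdd, _root_.Matrix.vecMul_cons, _root_.Matrix.head_cons, _root_.one_smul, _root_.Matrix.tail_cons, _root_.Matrix.smul_cons, _root_.smul_eq_mul, _root_.Matrix.smul_empty, _root_.Matrix.empty_vecMul, _root_.add_zero, _root_.Matrix.add_cons, _root_.Matrix.empty_add_empty, _root_.zero_smul, _root_.zero_add, _root_.Matrix.empty_mul, _root_.Equiv.symm_apply_apply, _root_.mul_one, _root_.MulZeroClass.mul_zero, _root_.Matrix.add_apply,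 Fin.isValue, _root_.Matrix.cons_val_zero, _root_.Matrix.cons_val_succ, _root_.forall_const, _root_.and_true, _root_.true_and]) <;> (repeat' with_reducible apply And.intro)
    · ring
    · linear_combination (yb0 * xr1 + xr0 * yc + xr0 * xr1 * yc + xr1 * yc) * h2
    · ring
    · linear_combination (xr1 * yc) * h2
  · simp
  · ext i j
    (revert i j; simp only [_root_.Fin.forall_fin_succ, _root_.Matrix.of_apply, _root_.Matrix.cons_val', _root_.Matrix.cons_val_fin_one, _root_.MulZeroClass.zero_mul, _root_.Matrix.cons_mul, _root_.Nat.succ_eq_add_one, Nat.reduceAdd, _root_.Matrix.vecMul_cons, _root_.Matrix.head_cons, _root_.one_smul, _root_.Matrix.tail_cons, _root_.Matrix.smul_cons, _root_.smul_eq_mul, _root_.MulZeroClass.mul_zero, _root_.mul_one, _root_.Matrix.smul_empty, _root_.Matrix.empty_vecMul, _root_.add_zero, _root_.Matrix.add_cons, _root_.Matrix.empty_add_empty, _root_.zero_smul, _root_.zero_add, _root_.Matrix.empty_mul, _root_.Equiv.symm_apply_apply,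 _root_.Matrix.add_apply, _root_.Matrix.zero_apply, Fin.isValue, _root_.Matrix.cons_val_zero, _root_.Matrix.cons_val_succ, _root_.forall_const, _root_.implies_true, _root_.and_true, _root_.true_and]) <;> (repeat' with_reducible apply And.intro)
    ring

theorem mt_inj {x y : PG K} (h : X.mt x = X.mt y) : x = y := by
  obtain ⟨h1, h2, -, h4⟩ := fromBlocks_inj.1 h
  have r0 : X.c0 x.r = X.c0 y.r := congrFun (congrFun h1 0) 1
  have r1 : X.c1 x.r = X.c1 y.r := congrFun (congrFun h4 0) 1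
  have b0 : X.c0 x.b = X.c0 y.b := congrFun (congrFun h2 0) 0
  have c0 : X.c0 x.c = X.c0 y.c := congrFun (congrFun h2 1) 0
  have b1' : X.c0 x.c * X.c1 x.r + X.c1 x.b = X.c0 y.c * X.c1 y.r + X.c1 y.b := congrFun (congrFun h2 1) 1
  have b1 : X.c1 x.b = X.c1 y.b := by rw [c0, r1] at b1'; exact add_left_cancel b1'
  have a0' : X.c0 x.b * X.c1 x.r + X.c0 x.a + X.c0 x.b + X.c1 x.b =
      X.c0 y.b * X.c1 y.r + X.c0 y.a + X.c0 y.b + X.c1 y.b := congrFun (congrFun h2 0) 1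
  have a0 : X.c0 x.a = X.c0 y.a := by
    rw [b0, r1, b1] at a0'
    linear_combination a0'
  exact PG.ext (X.ext_bits r0 r1) (X.ext_bits a0 (by rw [X.c1_fix x.ha, X.c1_fix y.ha])) (X.ext_bits b0 b1)
    (X.ext_bits c0 (by rw [X.c1_fix x.hc, X.c1_fix y.hc]))

/-- the homomorphism into the matrices -/
def mtHom : PG K →* M4 where
  toFun := X.mt
  map_one' := X.mt_one
  map_mul' := X.mt_mul

/-- the homomorphism into the group -/
def io : PG K →* M4ˣ := X.mtHom.toHomUnits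

theorem io_coe (x : PG K) : ((X.io x : M4ˣ) : M4) = X.mt x := rfl

theorem io_inj : Function.Injective X.io := fun _ _ h => X.mt_inj (congrArg Units.val h)

/-- the element with given bits -/
def el (r0 r1 a b0 b1 c : ZMod 2) : PG K where
  r := X.e r0 + X.e r1 * X.w
  a := X.e a
  b := X.e b0 + X.e b1 * X.w
  c := X.e c
  ha := X.star_e a
  hc := X.star_e c

theorem mt_el (r0 r1 a b0 b1 c : ZMod 2) : X.mt (X.el r0 r1 a b0 b1 c) =
    fromBlocks !![1, r0; 0, 1] !![b0, b0 * r1 + a + b0 + b1; c, c * r1 + b1] 0 !![1, r1; 0, 1] := by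
  simp only [mt, bl, el, X.c0_co, X.c1_co, X.c0_e]

/-- the elements of the image -/
theorem exists_mt (p q : ZMod 2) (M : M2) : ∃ x : PG K, X.mt x = fromBlocks !![1, p; 0, 1] M 0 !![1, q; 0, 1] ∧
    (p = 0 → q = 0 → x.r = 0) := by
  refine ⟨X.el p q (M 0 1 - M 0 0 * q - M 0 0 - (M 1 1 - M 1 0 * q)) (M 0 0) (M 1 1 - M 1 0 * q) (M 1 0), ?_, ?_⟩
  · rw [X.mt_el]
    congr 1
    ext i j
    (revert i j; simp only [_root_.Fin.forall_fin_succ, Fin.isValue, _root_.add_sub_cancel, _root_.Matrix.of_apply, _root_.Matrix.cons_val', _root_.Matrix.cons_val_fin_one, _root_.Matrix.cons_val_zero, _root_.Matrix.cons_val_succ, _root_.Fin.succ_zero_eq_one, _root_.IsEmpty.forall_iff, _root_.and_true, _root_.true_and]) <;> (repeat' with_reducible apply And.intro)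
    ring
  · rintro rfl rfl
    show X.e 0 + X.e 0 * X.w = 0
    simp

end Four

end Cfsg.Agent.H699.P4
end

-- part: H699/P4/TwoR
section
/-!
# S5210, task P4-2R: the fusion system of `GL₄(2)` (helper699)
-/

set_option autoImplicit false

namespace Cfsg.Agent.H699.P4

open Cfsg Cfsg.FusionSystem Matrix
open Cfsg.Agent.H776.P4 Cfsg.Agent.H781
open Cfsg.Agent.H756.PU (HypK NormAut AF)

universe u v

/-- conjugation by an element normalizing the image of `Q` -/
theorem exists_aut {G0 : Type u} [Group G0] [Finite G0] {G : Type v} [Group G] (ι : G0 →* G)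
    (hι : Function.Injective ι) (Q : Subgroup G0) (g : G) (h : ∀ e ∈ Q, ∃ e' ∈ Q, g * ι e * g⁻¹ = ι e') :
    ∃ γ : MulAut Q, ∀ e : Q, ι ((γ e : Q) : G0) = g * ι (e : G0) * g⁻¹ := by
  choose! f hf1 hf2 using h
  let φ : Q →* Q :=
    { toFun := fun e => ⟨f e, hf1 e e.2⟩
      map_one' := Subtype.ext (hι (by
        show ι (f (1 : G0)) = ι 1
        rw [← hf2 _ Q.one_mem]; simp))
      map_mul' := fun a b => Subtype.ext (hι (by
        show ι (f (a * b : G0)) = ι (f a * f b)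
        rw [← hf2 _ (Q.mul_mem a.2 b.2), map_mul, map_mul, ← hf2 _ a.2, ← hf2 _ b.2]
        group)) }
  have hφ : Function.Injective φ := by
    intro a b hab
    have h1 : f (a : G0) = f (b : G0) := congrArg Subtype.val hab
    have h2 := hf2 _ a.2
    rw [h1, ← hf2 _ b.2] at h2
    exact Subtype.ext (hι (mul_left_cancel (mul_right_cancel h2)))
  exact ⟨MulEquiv.ofBijective φ (Finite.injective_iff_bijective.1 hφ), fun e => (hf2 e e.2).symm⟩

theorem center_M2 : ∀ C : M2, (∀ M : M2, C * M = M * C) → C = 0 ∨ C = 1 := by decide +kernel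

theorem card_M2u : Nat.card M2ˣ = 6 := by
  have h := Matrix.card_GL_field (𝔽 := ZMod 2) 2
  rw [ZMod.card] at h
  exact h

theorem card_M4u : Nat.card M4ˣ = 20160 := by
  have e : M4ˣ ≃* GL (Fin 4) (ZMod 2) :=
    Units.mapEquiv (Matrix.reindexAlgEquiv (ZMod 2) (ZMod 2) (finSumFinEquiv : Fin 2 ⊕ Fin 2 ≃ Fin (2 + 2))).toMulEquiv
  rw [Nat.card_congr e.toEquiv]
  have h := Matrix.card_GL_field (𝔽 := ZMod 2) 4
  rw [ZMod.card] at h
  rw [h]
  decide

/-- block diagonal matrices -/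
def bd (A B : M2ˣ) : M4ˣ where
  val := fromBlocks A 0 0 B
  inv := fromBlocks (A⁻¹ : M2ˣ) 0 0 (B⁻¹ : M2ˣ)
  val_inv := by
    rw [fromBlocks_multiply]
    simp only [_root_.Matrix.coe_units_inv, _root_.Matrix.mul_inv_of_invertible, _root_.MulZeroClass.mul_zero, _root_.add_zero, _root_.MulZeroClass.zero_mul, _root_.zero_add, _root_.Matrix.fromBlocks_one]
  inv_val := by
    rw [fromBlocks_multiply]
    simp only [_root_.Matrix.coe_units_inv, _root_.Matrix.inv_mul_of_invertible, _root_.MulZeroClass.mul_zero, _root_.add_zero, _root_.MulZeroClass.zero_mul, _root_.zero_add, _root_.Matrix.fromBlocks_one]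

namespace Four

variable {K : Type u} [Field K] [StarRing K] (X : Four K)

theorem mt_V {v : PG K} (hv : v.r = 0) : X.mt v = fromBlocks 1 (X.bl v) 0 1 := by
  have h0 : X.c0 0 = 0 := (X.eq_iff (i := 0) (j := 0) (by simp)).1
  have h1 : X.c1 0 = 0 := (X.eq_iff (i := 0) (j := 0) (by simp)).2
  rw [mt, hv, h0, h1, ← Matrix.one_fin_two]

theorem bl_surj (M : M2) : ∃ v : PG K, v.r = 0 ∧ X.bl v = M := by
  obtain ⟨v, hv, h⟩ := X.exists_mt 0 0 M
  have hr := h rfl rfl
  refine ⟨v, hr, ?_⟩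
  rw [X.mt_V hr] at hv
  exact (fromBlocks_inj.1 hv).2.1

theorem bl_inj {v w : PG K} (hv : v.r = 0) (hw : w.r = 0) (h : X.bl v = X.bl w) : v = w :=
  X.mt_inj (by rw [X.mt_V hv, X.mt_V hw, h])

theorem conj_iff (g : M4ˣ) (x y : PG K) : X.io y = g * X.io x * g⁻¹ ↔ X.mt y * (g : M4) = (g : M4) * X.mt x := by
  rw [eq_mul_inv_iff_mul_eq, Units.ext_iff]
  rfl

/-- the equation for elements of `V` -/
theorem conj_V {g : M4ˣ} {v w : PG K} (hv : v.r = 0) (hw : w.r = 0) (h : X.io w = g * X.io v * g⁻¹) :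
    X.bl w * (g : M4).toBlocks₂₂ = (g : M4).toBlocks₁₁ * X.bl v ∧ (g : M4).toBlocks₂₁ * X.bl v = 0 := by
  rw [X.conj_iff, X.mt_V hv, X.mt_V hw, ← fromBlocks_toBlocks (g : M4), fromBlocks_multiply, fromBlocks_multiply] at h
  obtain ⟨-, h2, -, h4⟩ := fromBlocks_inj.1 h
  simp only [one_mul, mul_one, zero_mul, zero_add] at h2 h4
  refine ⟨?_, ?_⟩
  · rw [add_comm] at h2
    exact add_right_cancel h2
  · have h5 : (g : M4).toBlocks₂₁ * X.bl v + (g : M4).toBlocks₂₂ = 0 + (g : M4).toBlocks₂₂ := by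
      rw [zero_add]; exact h4.symm
    exact add_right_cancel h5

theorem conj_bd (A B : M2ˣ) {v w : PG K} (hv : v.r = 0) (hw : w.r = 0) (h : X.bl w * (B : M2) = (A : M2) * X.bl v) :
    X.io w = bd A B * X.io v * (bd A B)⁻¹ := by
  rw [X.conj_iff, X.mt_V hv, X.mt_V hw]
  show _ * fromBlocks (A : M2) 0 0 (B : M2) = fromBlocks (A : M2) 0 0 (B : M2) * _
  rw [fromBlocks_multiply, fromBlocks_multiply]
  simp [h]

include X in
/-- the bits -/
theorem card_PG : Nat.card (PG K) = 64 := by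
  let f : ZMod 2 × ZMod 2 × ZMod 2 × ZMod 2 × ZMod 2 × ZMod 2 → PG K := fun t =>
    X.el t.1 t.2.1 t.2.2.1 t.2.2.2.1 t.2.2.2.2.1 t.2.2.2.2.2
  have hf : Function.Bijective f := by
    constructor
    · rintro ⟨r0, r1, a, b0, b1, c⟩ ⟨r0', r1', a', b0', b1', c'⟩ h
      have hr := congrArg PG.r h
      have ha := congrArg PG.a h
      have hb := congrArg PG.b h
      have hc := congrArg PG.c h
      simp only [f, el] at hr ha hb hc
      obtain ⟨rfl, rfl⟩ := X.uni _ _ _ _ hr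
      obtain ⟨rfl, rfl⟩ := X.uni _ _ _ _ hb
      have ha' := X.e.injective ha
      have hc' := X.e.injective hc
      rw [ha', hc']
    · intro x
      refine ⟨(X.c0 x.r, X.c1 x.r, X.c0 x.a, X.c0 x.b, X.c1 x.b, X.c0 x.c), PG.ext ?_ ?_ ?_ ?_⟩
      · exact (X.rep x.r).symm
      · exact (X.fix_rep x.ha).symm
      · exact (X.rep x.b).symm
      · exact (X.fix_rep x.hc).symm
  rw [← Nat.card_congr (Equiv.ofBijective f hf), Nat.card_eq_fintype_card]
  decide

theorem isUnit_blocks (g : M4ˣ) (h : (g : M4).toBlocks₂₁ = 0) :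
    IsUnit (g : M4).toBlocks₁₁ ∧ IsUnit (g : M4).toBlocks₂₂ := by
  have h1 : IsUnit (g : M4).det := (Matrix.isUnit_iff_isUnit_det _).1 g.isUnit
  rw [← fromBlocks_toBlocks (g : M4), h, det_fromBlocks_zero₂₁] at h1
  rw [Matrix.isUnit_iff_isUnit_det, Matrix.isUnit_iff_isUnit_det]
  exact ⟨isUnit_of_mul_isUnit_left h1, isUnit_of_mul_isUnit_right h1⟩

/-- the automizer of `V` -/
theorem card_autV [Finite (PG K)] (Γ : Subgroup (MulAut (PV K)))
    (hΓ : ∀ γ : MulAut (PV K), γ ∈ Γ ↔ ∃ g : M4ˣ, ∀ e : PV K, X.io ((γ e : PV K) : PG K) = g * X.io (e : PG K) * g⁻¹) :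
    Nat.card Γ = 36 := by
  have hex : ∀ t : M2ˣ × M2ˣ, ∃ γ : MulAut (PV K), ∀ e : PV K,
      X.io ((γ e : PV K) : PG K) = bd t.1 t.2 * X.io (e : PG K) * (bd t.1 t.2)⁻¹ := by
    intro t
    refine exists_aut X.io X.io_inj (PV K) (bd t.1 t.2) fun v hv => ?_
    obtain ⟨w, hw, h⟩ := X.bl_surj ((t.1 : M2) * X.bl v * (t.2⁻¹ : M2ˣ))
    refine ⟨w, hw, (X.conj_bd t.1 t.2 hv hw ?_).symm⟩
    rw [h, mul_assoc, Units.inv_mul, mul_one]
  choose Φ hΦ using hex
  have hb : ∀ (t : M2ˣ × M2ˣ) (e : PV K), X.bl (Φ t e : PV K) * (t.2 : M2) = (t.1 : M2) * X.bl (e : PG K) := by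
    intro t e
    have h := (X.conj_V (g := bd t.1 t.2) e.2 (Φ t e).2 (hΦ t e)).1
    exact h
  have hinj : Function.Injective Φ := by
    intro t t' h
    have h1 : ∀ M : M2, (t.1 : M2) * M * (t.2⁻¹ : M2ˣ) = (t'.1 : M2) * M * (t'.2⁻¹ : M2ˣ) := by
      intro M
      obtain ⟨v, hv, hM⟩ := X.bl_surj M
      have h2 := hb t ⟨v, hv⟩
      have h3 := hb t' ⟨v, hv⟩
      rw [← h] at h3
      simp only [hM] at h2 h3
      rw [← h2, ← h3, mul_assoc, mul_assoc, Units.mul_inv, Units.mul_inv]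
    have h4 : ((t'.1⁻¹ * t.1 : M2ˣ) : M2) = ((t'.2⁻¹ * t.2 : M2ˣ) : M2) := by
      have h5 := h1 1
      rw [mul_one, mul_one] at h5
      have h6 : (t.1 * t.2⁻¹ : M2ˣ) = t'.1 * t'.2⁻¹ := Units.ext h5
      have h7 : (t'.1⁻¹ * t.1 : M2ˣ) = t'.2⁻¹ * t.2 := by
        have : t.1 = t'.1 * t'.2⁻¹ * t.2 := by rw [← h6]; group
        rw [this]; group
      rw [h7]
    have h8 : ∀ M : M2, ((t'.1⁻¹ * t.1 : M2ˣ) : M2) * M = M * ((t'.1⁻¹ * t.1 : M2ˣ) : M2) := by
      intro M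
      conv_rhs => rw [h4]
      have h9 := h1 M
      have h10 : ((t'.1⁻¹ : M2ˣ) : M2) * ((t.1 : M2) * M * (t.2⁻¹ : M2ˣ)) * (t.2 : M2) =
          ((t'.1⁻¹ : M2ˣ) : M2) * ((t'.1 : M2) * M * (t'.2⁻¹ : M2ˣ)) * (t.2 : M2) := by rw [h9]
      rw [Units.val_mul, Units.val_mul]
      simp only [mul_assoc, Units.inv_mul, mul_one, Units.inv_mul_cancel_left] at h10 ⊢
      exact h10
    have h11 : (t'.1⁻¹ * t.1 : M2ˣ) = 1 := by
      rcases center_M2 _ h8 with h | h
      · exact absurd h (Units.ne_zero _)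
      · exact Units.ext h
    have h12 : (t'.2⁻¹ * t.2 : M2ˣ) = 1 := Units.ext (by rw [← h4, h11])
    exact Prod.ext (inv_mul_eq_one.1 h11).symm (inv_mul_eq_one.1 h12).symm
  have hrange : (Γ : Set (MulAut (PV K))) = Set.range Φ := by
    ext γ
    rw [SetLike.mem_coe, hΓ]
    constructor
    · rintro ⟨g, hg⟩
      have h21 : (g : M4).toBlocks₂₁ = 0 := by
        obtain ⟨v, hv, hM⟩ := X.bl_surj 1
        have := (X.conj_V hv (γ ⟨v, hv⟩).2 (hg ⟨v, hv⟩)).2
        rw [hM, mul_one] at this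
        exact this
      obtain ⟨⟨A, hA⟩, ⟨B, hB⟩⟩ := isUnit_blocks g h21
      refine ⟨(A, B), ?_⟩
      ext1 e
      apply Subtype.ext
      refine X.bl_inj (Φ (A, B) e).2 (γ e).2 ?_
      have h1 := hb (A, B) e
      have h2 := (X.conj_V e.2 (γ e).2 (hg e)).1
      rw [← hA, ← hB] at h2
      have h3 : X.bl ((Φ (A, B) e : PV K) : PG K) * (B : M2) = X.bl ((γ e : PV K) : PG K) * (B : M2) := h1.trans h2.symm
      exact B.mul_left_inj.1 h3
    · rintro ⟨t, rfl⟩
      exact ⟨bd t.1 t.2, hΦ t⟩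
  have h1 : Nat.card Γ = Nat.card (Set.range Φ) := by
    rw [← hrange]
    rfl
  rw [h1, ← Nat.card_congr (Equiv.ofInjective Φ hinj), Nat.card_prod, card_M2u]

/-- the elements normalizing the image of `S` -/
theorem mem_of_norm (g : M4ˣ) (α : MulAut (PG K)) (h : ∀ x, X.io (α x) = g * X.io x * g⁻¹) :
    ∃ u : PG K, g = X.io u := by
  have h1 : ∀ x, X.mt (α x) * (g : M4) = (g : M4) * X.mt x := fun x => (X.conj_iff g x (α x)).1 (h x)
  set M : M4 := (g : M4) with hM
  obtain ⟨y1, hy1, -⟩ := X.exists_mt 1 0 0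
  obtain ⟨y2, hy2, -⟩ := X.exists_mt 0 0 !![0, 0; 1, 0]
  obtain ⟨y3, hy3, -⟩ := X.exists_mt 0 1 0
  -- left multiplication
  have l1 := h1 (α⁻¹ y1)
  have l2 := h1 (α⁻¹ y2)
  have l3 := h1 (α⁻¹ y3)
  rw [MulAut.apply_inv_self, hy1] at l1
  rw [MulAut.apply_inv_self, hy2] at l2
  rw [MulAut.apply_inv_self, hy3] at l3
  -- the first column
  have a1 : M (Sum.inl 1) (Sum.inl 0) = 0 := by
    have := congrFun (congrFun l1 (Sum.inl 0)) (Sum.inl 0)
    simpa only [Matrix.mul_apply, mt, Fin.sum_univ_two, _root_.Fin.isValue, _root_.Fintype.sum_sum_type, _root_.Matrix.fromBlocks_apply₁₁, _root_.Matrix.of_apply, _root_.Matrix.cons_val', _root_.Matrix.cons_val_fin_one, _root_.Matrix.cons_val_zero, _root_.one_mul, _root_.Matrix.cons_val_one, _root_.Matrix.fromBlocks_apply₁₂, _root_.Matrix.zero_apply, _root_.MulZeroClass.zero_mul, _root_.Finset.sum_const_zero, _root_.add_zero, _root_.MulAut.inv_apply, _root_.mul_one, _root_.MulZeroClass.mul_zero,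 _root_.Matrix.fromBlocks_apply₂₁, _root_.add_eq_left] using this
  have a2 : M (Sum.inr 0) (Sum.inl 0) = 0 := by
    have := congrFun (congrFun l2 (Sum.inl 1)) (Sum.inl 0)
    simpa only [Matrix.mul_apply, mt, Fin.sum_univ_two, _root_.Fin.isValue, _root_.Fintype.sum_sum_type, _root_.Matrix.fromBlocks_apply₁₁, _root_.Matrix.of_apply, _root_.Matrix.cons_val', _root_.Matrix.cons_val_fin_one, _root_.Matrix.cons_val_one, _root_.Matrix.cons_val_zero, _root_.MulZeroClass.zero_mul, _root_.one_mul, _root_.zero_add, _root_.Matrix.fromBlocks_apply₁₂, _root_.add_zero, _root_.MulAut.inv_apply, _root_.mul_one, _root_.MulZeroClass.mul_zero, _root_.Matrix.fromBlocks_apply₂₁, _root_.Matrix.zero_apply, _root_.Finset.sum_const_zero, _root_.add_eq_left] using this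
  have a3 : M (Sum.inr 1) (Sum.inl 0) = 0 := by
    have := congrFun (congrFun l3 (Sum.inr 0)) (Sum.inl 0)
    simpa [Matrix.mul_apply, mt, Fin.sum_univ_two] using this
  have a4 : M (Sum.inr 0) (Sum.inl 1) = 0 := by
    have := congrFun (congrFun l2 (Sum.inl 1)) (Sum.inl 1)
    simpa only [Matrix.mul_apply, mt, Fin.sum_univ_two, a1, _root_.Fin.isValue, _root_.Fintype.sum_sum_type, _root_.Matrix.fromBlocks_apply₁₁, _root_.Matrix.of_apply, _root_.Matrix.cons_val', _root_.Matrix.cons_val_fin_one, _root_.Matrix.cons_val_one, _root_.Matrix.cons_val_zero, _root_.MulZeroClass.zero_mul, _root_.one_mul, _root_.zero_add, _root_.Matrix.fromBlocks_apply₁₂, _root_.add_zero, _root_.MulAut.inv_apply, _root_.mul_one, _root_.Matrix.fromBlocks_apply₂₁, _root_.Matrix.zero_apply, _root_.MulZeroClass.mul_zero, _root_.Finset.sum_const_zero, _root_.add_eq_left] using this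
  -- the last row
  have a5 : M (Sum.inr 1) (Sum.inl 1) = 0 := by
    have := congrFun (congrFun (h1 y2) (Sum.inr 1)) (Sum.inr 0)
    rw [hy2] at this
    simpa [Matrix.mul_apply, mt, Fin.sum_univ_two] using this
  have a6 : M (Sum.inr 1) (Sum.inr 0) = 0 := by
    have := congrFun (congrFun (h1 y3) (Sum.inr 1)) (Sum.inr 1)
    rw [hy3] at this
    simpa [Matrix.mul_apply, mt, Fin.sum_univ_two] using this
  have h21 : M.toBlocks₂₁ = 0 := by
    ext i j
    fin_cases i <;> fin_cases j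
    · exact a2
    · exact a4
    · exact a3
    · exact a5
  obtain ⟨u1, u2⟩ := isUnit_blocks g h21
  rw [Matrix.isUnit_iff_isUnit_det, det_fin_two, isUnit_iff_ne_zero] at u1 u2
  have b1 : M (Sum.inl 0) (Sum.inl 0) * M (Sum.inl 1) (Sum.inl 1) ≠ 0 := by
    intro h0
    apply u1
    show M (Sum.inl 0) (Sum.inl 0) * M (Sum.inl 1) (Sum.inl 1) - M (Sum.inl 0) (Sum.inl 1) * M (Sum.inl 1) (Sum.inl 0) = 0
    rw [h0, a1, mul_zero, sub_zero]
  have b2 : M (Sum.inr 0) (Sum.inr 0) * M (Sum.inr 1) (Sum.inr 1) ≠ 0 := by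
    intro h0
    apply u2
    show M (Sum.inr 0) (Sum.inr 0) * M (Sum.inr 1) (Sum.inr 1) - M (Sum.inr 0) (Sum.inr 1) * M (Sum.inr 1) (Sum.inr 0) = 0
    rw [h0, a6, mul_zero, sub_zero]
  have hz : ∀ k l : ZMod 2, k * l ≠ 0 → k = 1 ∧ l = 1 := by decide
  obtain ⟨c1, c2⟩ := hz _ _ b1
  obtain ⟨c3, c4⟩ := hz _ _ b2
  obtain ⟨u, hu, -⟩ := X.exists_mt (M (Sum.inl 0) (Sum.inl 1)) (M (Sum.inr 0) (Sum.inr 1)) M.toBlocks₁₂
  refine ⟨u, Units.ext ?_⟩
  rw [X.io_coe, hu, ← hM, ← fromBlocks_toBlocks M, h21]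
  congr 1
  · ext i j
    fin_cases i <;> fin_cases j
    · exact c1
    · rfl
    · exact a1
    · exact c2
  · ext i j
    fin_cases i <;> fin_cases j
    · exact c3
    · rfl
    · exact a6
    · exact c4

/-- the transposition of the two middle vectors -/
def sw : M4ˣ where
  val := fromBlocks !![1, 0; 0, 0] !![0, 0; 1, 0] !![0, 1; 0, 0] !![0, 0; 0, 1]
  inv := fromBlocks !![1, 0; 0, 0] !![0, 0; 1, 0] !![0, 1; 0, 0] !![0, 0; 0, 1]
  val_inv := by decide +kernel
  inv_val := by decide +kernel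

/-- `sw` on `Q` -/
theorem sw_conj {x : PG K} (hx : x.c = 0) : ∃ y : PG K, y.c = 0 ∧ y.r = x.b ∧ sw * X.io x * sw⁻¹ = X.io y := by
  refine ⟨⟨x.b, X.e (X.c0 x.a + X.c0 x.b * X.c1 x.r + X.c0 x.r * X.c1 x.b + X.c0 x.b + X.c1 x.b + X.c0 x.r + X.c1 x.r),
    x.r, 0, X.star_e _, by simp⟩, rfl, rfl, ?_⟩
  symm
  rw [X.conj_iff]
  have h0 : X.c0 0 = 0 := (X.eq_iff (i := 0) (j := 0) (by simp)).1
  show fromBlocks _ _ _ _ * fromBlocks !![1, 0; 0, 0] !![0, 0; 1, 0] !![0, 1; 0, 0] !![0, 0; 0, 1] =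
    fromBlocks !![1, 0; 0, 0] !![0, 0; 1, 0] !![0, 1; 0, 0] !![0, 0; 0, 1] * fromBlocks _ _ _ _
  simp only [bl, hx, h0, X.c0_e]
  rw [fromBlocks_multiply, fromBlocks_multiply]
  generalize X.c0 x.a = xa, X.c0 x.b = xb0, X.c1 x.b = xb1, X.c0 x.r = xr0, X.c1 x.r = xr1
  have h2 := two_zmod
  (with_reducible congr 1)
  · ext i j
    (revert i j; simp only [_root_.Fin.forall_fin_succ, _root_.Matrix.cons_mul, _root_.Nat.succ_eq_add_one, Nat.reduceAdd, _root_.Matrix.vecMul_cons, _root_.Matrix.head_cons, _root_.one_smul, _root_.Matrix.tail_cons, _root_.Matrix.smul_cons, _root_.smul_eq_mul, _root_.MulZeroClass.mul_zero, _root_.Matrix.smul_empty, _root_.Matrix.empty_vecMul, _root_.add_zero, _root_.Matrix.add_cons, _root_.Matrix.empty_add_empty, _root_.zero_smul, _root_.zero_add, _root_.Matrix.empty_mul, _root_.Equiv.symm_apply_apply, _root_.MulZeroClass.zero_mul, _root_.mul_one, _root_.Matrix.add_apply, _root_.Matrix.of_apply, _root_.Matrix.cons_val',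 _root_.Matrix.cons_val_fin_one, _root_.Pi.zero_apply, _root_.Matrix.zero_apply, Fin.isValue, _root_.Matrix.cons_val_zero, _root_.add_eq_left, _root_.Matrix.cons_val_succ, _root_.add_eq_right, _root_.forall_const, _root_.and_self, _root_.implies_true])
  · ext i j
    (revert i j; simp only [_root_.Fin.forall_fin_succ, _root_.Matrix.cons_mul, _root_.Nat.succ_eq_add_one, Nat.reduceAdd, _root_.Matrix.vecMul_cons, _root_.Matrix.head_cons, _root_.one_smul, _root_.Matrix.tail_cons, _root_.Matrix.smul_cons, _root_.smul_eq_mul, _root_.mul_one, _root_.MulZeroClass.mul_zero, _root_.Matrix.smul_empty, _root_.Matrix.empty_vecMul, _root_.add_zero, _root_.Matrix.add_cons, _root_.zero_add, _root_.Matrix.empty_add_empty, _root_.zero_smul, _root_.Matrix.empty_mul, _root_.Equiv.symm_apply_apply, _root_.MulZeroClass.zero_mul, _root_.Matrix.add_apply, _root_.Matrix.of_apply, _root_.Matrix.cons_val', _root_.Matrix.cons_val_fin_one, _root_.Pi.zero_apply,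 Fin.isValue, _root_.Matrix.cons_val_zero, _root_.Matrix.cons_val_succ, _root_.forall_const, _root_.implies_true, _root_.and_true, _root_.true_and]) <;> (repeat' with_reducible apply And.intro)
    linear_combination (xr0 * xb1 + xr0 + xr1) * h2
  · ext i j
    (revert i j; simp only [_root_.Fin.forall_fin_succ, _root_.MulZeroClass.zero_mul, _root_.Matrix.cons_mul, _root_.Nat.succ_eq_add_one, Nat.reduceAdd, _root_.Matrix.vecMul_cons, _root_.Matrix.head_cons, _root_.one_smul, _root_.Matrix.tail_cons, _root_.Matrix.smul_cons, _root_.smul_eq_mul, _root_.MulZeroClass.mul_zero, _root_.Matrix.smul_empty, _root_.Matrix.empty_vecMul, _root_.add_zero, _root_.Matrix.add_cons, _root_.Matrix.empty_add_empty, _root_.zero_smul, _root_.zero_add, _root_.Matrix.empty_mul, _root_.Equiv.symm_apply_apply, _root_.Matrix.add_apply, _root_.Matrix.zero_apply, _root_.Matrix.of_apply, _root_.Matrix.cons_val', _root_.Matrix.cons_val_fin_one, _root_.Pi.zero_apply,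 Fin.isValue, _root_.Matrix.cons_val_zero, _root_.Matrix.cons_val_succ, _root_.implies_true, _root_.and_self])
  · ext i j
    (revert i j; simp only [_root_.Fin.forall_fin_succ, _root_.MulZeroClass.zero_mul, _root_.Matrix.cons_mul, _root_.Nat.succ_eq_add_one, Nat.reduceAdd, _root_.Matrix.vecMul_cons, _root_.Matrix.head_cons, _root_.one_smul, _root_.Matrix.tail_cons, _root_.Matrix.smul_cons, _root_.smul_eq_mul, _root_.MulZeroClass.mul_zero, _root_.mul_one, _root_.Matrix.smul_empty, _root_.Matrix.empty_vecMul, _root_.add_zero, _root_.Matrix.add_cons, _root_.zero_add, _root_.Matrix.empty_add_empty, _root_.zero_smul, _root_.Matrix.empty_mul, _root_.Equiv.symm_apply_apply, _root_.Matrix.add_apply, _root_.Matrix.zero_apply, _root_.Matrix.of_apply, _root_.Matrix.cons_val', _root_.Matrix.cons_val_fin_one, _root_.Pi.zero_apply, Fin.isValue, _root_.Matrix.cons_val_zero, _root_.left_eq_add, _root_.Matrix.cons_val_succ, _root_.forall_const,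 _root_.and_self, _root_.implies_true])

end Four

section

variable {K : Type u} [Field K] [StarRing K]

theorem r_of_indu {Q : Subgroup (PG K)} {α : MulAut Q} (h : α ∈ autInducedBy ⊤ Q) (e : Q) :
    ((α e : Q) : PG K).r = (e : PG K).r := by
  revert e
  induction h using Subgroup.closure_induction with
  | mem α h =>
    intro e
    obtain ⟨g, -, hg⟩ := h
    rw [hg]
    simp only [_root_.Cfsg.Agent.H776.P4.PG.mul_r, _root_.Cfsg.Agent.H776.P4.PG.inv_r, _root_.add_neg_cancel_comm]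
  | one => intro e; rfl
  | mul α β _ _ h1 h2 =>
    intro e
    rw [MulAut.mul_apply, h1, h2]
  | inv α _ h1 =>
    intro e
    rw [← h1 (α⁻¹ e), MulAut.apply_inv_self]

theorem not_norm [Finite (PG K)] {γ : MulAut (PQ K)}
    (hγ : ∀ e : PQ K, ((γ e : PQ K) : PG K).r = (e : PG K).b) : ¬ NormAut (⊤ : Subgroup (PG K)) γ := by
  intro hN
  let h0 : PG K := ⟨0, 0, 0, 1, by simp, by simp⟩
  let e0 : PQ K := ⟨⟨1, 0, 0, 0, by simp, by simp⟩, rfl⟩
  obtain ⟨x, hx⟩ := exists_aut (MonoidHom.id (PG K)) Function.injective_id (PQ K) h0 (fun e he => by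
    refine ⟨h0 * e * h0⁻¹, ?_, rfl⟩
    have he' : e.c = 0 := he
    show (h0 * e * h0⁻¹).c = 0
    simp [he'])
  have hx' : ∀ e : PQ K, ((x e : PQ K) : PG K) = h0 * (e : PG K) * h0⁻¹ := hx
  have hxm : x ∈ autInducedBy (⊤ : Subgroup (PG K)) (PQ K) := Subgroup.subset_closure ⟨h0, trivial, hx'⟩
  have h1 := r_of_indu (hN x hxm) (γ e0)
  have h2 : (γ * x * γ⁻¹) (γ e0) = γ (x e0) := by
    rw [MulAut.mul_apply, MulAut.mul_apply, MulAut.inv_apply_self]
  rw [h2, hγ, hγ, hx'] at h1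
  have h3 : (h0 * (e0 : PG K) * h0⁻¹).b = -1 := by
    rw [PG.mul_b, PG.mul_b, PG.inv_b]
    simp [h0, e0]
  rw [h3] at h1
  have h4 : (-1 : K) = 0 := h1
  exact one_ne_zero (neg_eq_zero.1 h4)

end

/-- **(2R)** the fusion system of `GL₄(2)` -/
theorem stTwoR : StTwoR.{u} := by
  intro K _ _ p n _ hK hq
  obtain ⟨X⟩ := four_of_hyp hK hq
  have hcard := X.card_PG
  have hfin : Finite (PG K) := Nat.finite_of_card_ne_zero (by rw [hcard]; norm_num)
  have hp2 : p = 2 := by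
    have h1 : p ∣ 2 := hq ▸ dvd_pow_self p (by have := hK.hn; omega)
    exact (Nat.prime_dvd_prime_iff_eq hK.pp Nat.prime_two).1 h1
  subst hp2
  let G : Type u := ULift.{u} M4ˣ
  let ul : M4ˣ ≃* G := MulEquiv.ulift.symm
  let ι : (⊤ : Subgroup (PG K)) →* G := ul.toMonoidHom.comp (X.io.comp (Subgroup.topEquiv (G := PG K)).toMonoidHom)
  have hι : ∀ x : (⊤ : Subgroup (PG K)), ι x = ul (X.io (x : PG K)) := fun x => rfl
  have hinj : Function.Injective ι := by
    intro a b hab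
    rw [hι, hι] at hab
    exact Subtype.ext (X.io_inj (ul.injective hab))
  have hGfin : Finite G := Finite.of_equiv _ ul.toEquiv
  have hGc : Nat.card G = 20160 := by rw [← Nat.card_congr ul.toEquiv, card_M4u]
  have hrc : Nat.card ι.range = 64 := by
    rw [← Nat.card_congr (MonoidHom.ofInjective hinj).toEquiv, Nat.card_congr Subgroup.topEquiv.toEquiv, hcard]
  have hrp : IsPGroup 2 ι.range := IsPGroup.of_card (n := 6) (by rw [hrc]; norm_num)
  have hidx : ¬ 2 ∣ ι.range.index := by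
    have h1 := ι.range.card_mul_index
    rw [hrc, hGc] at h1
    omega
  let T : Sylow 2 G := hrp.toSylow hidx
  have hT : (T : Subgroup G) = ι.range := rfl
  have hreal := pullback_isRealizedBy ι hinj
  have haut : ∀ (Q : Subgroup (PG K)) (γ : MulAut Q), γ ∈ (pullback ι hinj).autGroup Q ↔
      ∃ g : M4ˣ, ∀ e : Q, X.io ((γ e : Q) : PG K) = g * X.io (e : PG K) * g⁻¹ := by
    intro Q γ
    rw [H802.mem_autGroup_iff _ le_top]
    constructor
    · rintro ⟨h1, h2, g, hg⟩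
      refine ⟨ul.symm g, fun e => ?_⟩
      have h3 := hg e
      rw [hι, hι] at h3
      have h4 := congrArg ul.symm h3
      rw [map_mul, map_mul, map_inv, MulEquiv.symm_apply_apply, MulEquiv.symm_apply_apply] at h4
      exact h4
    · rintro ⟨g, hg⟩
      refine ⟨le_top, fun _ => trivial, ul g, fun e => ?_⟩
      rw [hι, hι, ← map_mul, ← map_inv, ← map_mul]
      exact congrArg ul (hg e)
  have hAF : ∀ α : MulAut (PG K), α ∈ AF (pullback ι hinj) ↔
      ∃ g : M4ˣ, ∀ x : PG K, X.io (α x) = g * X.io x * g⁻¹ := by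
    intro α
    have h1 : α ∈ AF (pullback ι hinj) ↔
        (MulAut.congr (Subgroup.topEquiv (G := PG K))).symm α ∈ (pullback ι hinj).autGroup ⊤ := by
      constructor
      · rintro ⟨β, hβ, rfl⟩
        rw [MulEquiv.coe_toMonoidHom, MulEquiv.symm_apply_apply]
        exact hβ
      · intro h
        exact ⟨_, h, MulEquiv.apply_symm_apply _ _⟩
    rw [h1, haut]
    constructor
    · rintro ⟨g, hg⟩
      exact ⟨g, fun x => hg ⟨x, trivial⟩⟩
    · rintro ⟨g, hg⟩
      exact ⟨g, fun x => hg x⟩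
  refine ⟨pullback ι hinj, isSaturated_of_isRealizedBy hreal T hT, ⟨_, inferInstance, hGfin, ι, hreal, T, hT⟩,
    X.card_autV _ (haut (PV K)), ?_, ?_⟩
  · ext α
    rw [hAF]
    constructor
    · rintro ⟨g, hg⟩
      obtain ⟨u, rfl⟩ := X.mem_of_norm g α hg
      refine ⟨u, ?_⟩
      ext1 x
      apply X.io_inj
      rw [hg, MulAut.conj_apply, map_mul, map_mul, map_inv]
    · rintro ⟨u, rfl⟩
      exact ⟨X.io u, fun x => by rw [MulAut.conj_apply, map_mul, map_mul, map_inv]⟩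
  · obtain ⟨γ, hγ⟩ := exists_aut X.io X.io_inj (PQ K) Four.sw (fun e he => by
      obtain ⟨y, hy1, -, hy2⟩ := X.sw_conj (x := e) he
      exact ⟨y, hy1, hy2⟩)
    intro hn
    refine not_norm (γ := γ) (fun e => ?_) (hn γ ((haut _ _).2 ⟨Four.sw, hγ⟩))
    obtain ⟨y, -, hy1, hy2⟩ := X.sw_conj (x := (e : PG K)) e.2
    have h1 : ((γ e : PQ K) : PG K) = y := X.io_inj ((hγ e).trans hy2)
    rw [h1, hy1]

end Cfsg.Agent.H699.P4
end

-- part: H858/P4/E4A
section
/-!
# S5210, (E4), part A: coordinates, counting, `V` is the only abelian subgroup of order `q⁴` (helper858)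

* `comm_r`, `comm_c`, `comm_b`, `comm_a` : the coordinates of `[e, v]`, `v ∈ V`
* `comm_iff` : `e v = v e`
* `inv_V` : every automorphism of `E ≥ V` maps `V` to `V`
-/

set_option autoImplicit false

namespace Cfsg.Agent.H858.P4

open Cfsg Cfsg.FusionSystem Cfsg.Agent.H776.P4
open Cfsg.Agent.H756.PU (HypK Ess Inv Com)
open Cfsg.Agent.H801.PU (card_le_of_fiber card_lin card_fix_le card_ker card_ker_le two_le exists_tr)

universe u

variable {K : Type u} [Field K] [StarRing K]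

theorem mem_PV {g : PG K} : g ∈ PV K ↔ g.r = 0 := Iff.rfl

theorem PZ_le_PY : PZ K ≤ PY K := fun _ h => ⟨h.1, h.2.2⟩
theorem PY_le_PV : PY K ≤ PV K := fun _ h => h.1
theorem PZ_le_PV : PZ K ≤ PV K := fun _ h => h.1

theorem comm_r (e v : PG K) : (e * v * e⁻¹ * v⁻¹).r = 0 := by
  simp only [PG.mul_r, PG.inv_r]; ring

theorem comm_c (e v : PG K) : (e * v * e⁻¹ * v⁻¹).c = 0 := by
  simp only [PG.mul_c, PG.inv_c]; ring

theorem comm_b (e : PG K) {v : PG K} (hv : v.r = 0) : (e * v * e⁻¹ * v⁻¹).b = e.r * v.c := by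
  simp only [PG.mul_b, PG.mul_r, PG.inv_b, PG.inv_r, PG.inv_c, hv]; ring

theorem comm_a (e : PG K) {v : PG K} (hv : v.r = 0) : (e * v * e⁻¹ * v⁻¹).a =
    e.r * star v.b + star e.r * v.b + e.r * star e.r * v.c := by
  simp only [PG.mul_a, PG.mul_r, PG.inv_a, PG.inv_b, PG.inv_r, PG.inv_c, hv, star_add, star_neg, star_mul',
    star_zero, e.hc, v.hc]
  ring

theorem comm_iff {e v : PG K} (hv : v.r = 0) : e * v = v * e ↔
    e.r * v.c = 0 ∧ e.r * star v.b + star e.r * v.b = 0 := by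
  constructor
  · intro h
    have h1 : e * v * e⁻¹ * v⁻¹ = 1 := by rw [h]; group
    have hb := comm_b e hv
    have ha := comm_a e hv
    rw [h1, PG.one_b] at hb
    rw [h1, PG.one_a] at ha
    exact ⟨hb.symm, by linear_combination -ha + star e.r * hb⟩
  · rintro ⟨hb, ha⟩
    have h1 : e * v * e⁻¹ * v⁻¹ = 1 := by
      ext
      · rw [comm_r, PG.one_r]
      · rw [comm_a e hv, PG.one_a]
        linear_combination ha + star e.r * hb
      · rw [comm_b e hv, PG.one_b, hb]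
      · rw [comm_c, PG.one_c]
    calc e * v = e * v * e⁻¹ * v⁻¹ * (v * e) := by group
      _ = v * e := by rw [h1, one_mul]

theorem PV_comm {v w : PG K} (hv : v ∈ PV K) (hw : w ∈ PV K) : v * w = w * v := by
  rw [mem_PV] at hv hw
  rw [comm_iff hw, hv]
  simp only [_root_.MulZeroClass.zero_mul, _root_.star_zero, _root_.add_zero, _root_.and_self]

theorem PZ_comm {z : PG K} (hz : z ∈ PZ K) (g : PG K) : g * z = z * g := by
  rw [comm_iff hz.1, hz.2.1, hz.2.2]
  simp only [_root_.MulZeroClass.mul_zero, _root_.star_zero, _root_.add_zero, _root_.and_self]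

section count

variable {p n : ℕ}

theorem finite_PG (h : HypK K p n) : Finite (PG K) := by
  have := h.fin
  refine Finite.of_injective (fun g : PG K => (g.r, g.a, g.b, g.c)) ?_
  intro g h hgh
  simp only [Prod.mk.injEq] at hgh
  obtain ⟨h1, h2, h3, h4⟩ := hgh
  exact PG.ext h1 h2 h3 h4

theorem card_fix (h : HypK K p n) : Nat.card {x : K | star x = x} = p ^ n := by
  have := h.fin
  refine le_antisymm (card_fix_le h) ?_
  let Y : AddSubgroup K :=
    { carrier := {x | x + star x = 0}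
      zero_mem' := by
        change (0 : K) + star 0 = 0
        rw [star_zero, add_zero]
      add_mem' := fun {a b} ha hb => by
        have ha' : a + star a = 0 := ha
        have hb' : b + star b = 0 := hb
        change a + b + star (a + b) = 0
        rw [star_add]
        linear_combination ha' + hb'
      neg_mem' := fun {a} ha => by
        have ha' : a + star a = 0 := ha
        change -a + star (-a) = 0
        rw [star_neg]
        linear_combination -ha' }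
  have h1 := Cfsg.Agent.H801.PU.card_le_of_fiber_add (⊤ : AddSubgroup K) Y (fun x => x + star x) {x : K | star x = x}
    (fun x _ => by
      change star (x + star x) = x + star x
      rw [star_add, star_star]; ring)
    (fun x _ y _ hxy => by
      have hxy' : x + star x = y + star y := hxy
      change -x + y + star (-x + y) = 0
      rw [star_add, star_neg]
      linear_combination -hxy')
  rw [AddSubgroup.card_top, h.card, pow_two] at h1
  have h2 : Nat.card Y ≤ p ^ n := card_ker_le h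
  have h3 : 0 < p ^ n := by have := two_le h; omega
  have h4 := h1.trans (Nat.mul_le_mul_left _ h2)
  exact Nat.le_of_mul_le_mul_right h4 h3

theorem card_PZ_le (h : HypK K p n) (X : Subgroup (PG K)) (hX : X ≤ PZ K) : Nat.card X ≤ p ^ n := by
  have := h.fin
  have := finite_PG h
  have h1 := card_le_of_fiber X ⊥ (fun x => x.a) {x : K | star x = x} (fun x _ => x.ha)
    (fun x hx y hy hxy => by
      have hxy' : x.a = y.a := hxy
      have hx' := hX hx
      have hy' := hX hy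
      have e : x = y := PG.ext (hx'.1.trans hy'.1.symm) hxy' (hx'.2.1.trans hy'.2.1.symm) (hx'.2.2.trans hy'.2.2.symm)
      rw [e, inv_mul_cancel]
      exact Subgroup.one_mem _)
  rw [Subgroup.card_bot, mul_one] at h1
  exact h1.trans (card_fix_le h)

theorem inv_mul_b {x y : PG K} (hx : x.c = 0) (hy : y.c = 0) : (x⁻¹ * y).b = y.b - x.b := by
  simp only [PG.mul_b, PG.inv_b, PG.inv_r, hx, hy]; ring

theorem card_C_le (h : HypK K p n) {z : PG K} (hz : z.r ≠ 0) (X : Subgroup (PG K)) (hX : X ≤ PV K)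
    (hc : ∀ x ∈ X, z * x = x * z) : Nat.card X ≤ (p ^ n) ^ 2 := by
  have := h.fin
  have := finite_PG h
  have h0 : ∀ x ∈ X, x.c = 0 := fun x hx => by
    have h1 := ((comm_iff (hX hx)).1 (hc x hx)).1
    exact (mul_eq_zero.1 h1).resolve_left hz
  have h1 := card_le_of_fiber X (X ⊓ PZ K) (fun x => x.b) {x : K | star x + (star z.r / z.r) * x = 0}
    (fun x hx => by
      have h1 := ((comm_iff (hX hx)).1 (hc x hx)).2
      change star x.b + (star z.r / z.r) * x.b = 0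
      have h2 : z.r * (star x.b + (star z.r / z.r) * x.b) = 0 := by
        field_simp
        linear_combination h1
      exact (mul_eq_zero.1 h2).resolve_left hz)
    (fun x hx y hy hxy => by
      have hxy' : x.b = y.b := hxy
      have hm := X.mul_mem (X.inv_mem hx) hy
      refine ⟨hm, hX hm, ?_, h0 _ hm⟩
      rw [inv_mul_b (h0 x hx) (h0 y hy), hxy', sub_self])
  calc Nat.card X ≤ _ := h1
    _ ≤ p ^ n * p ^ n := Nat.mul_le_mul (card_lin h _) (card_PZ_le h _ inf_le_right)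
    _ = (p ^ n) ^ 2 := (pow_two _).symm

theorem card_PV_ge (h : HypK K p n) : (p ^ n) ^ 4 ≤ Nat.card (PV K) := by
  have := h.fin
  have := finite_PG h
  have h1 : Nat.card ((K × {x : K | star x = x}) × {x : K | star x = x}) ≤ Nat.card (PV K) := by
    refine Nat.card_le_card_of_injective (fun x : (K × {x : K | star x = x}) × {x : K | star x = x} =>
      (⟨⟨0, x.1.2, x.1.1, x.2, x.1.2.2, x.2.2⟩, rfl⟩ : PV K)) ?_
    rintro ⟨⟨b, a⟩, c⟩ ⟨⟨b', a'⟩, c'⟩ h
    have h0 := congrArg Subtype.val h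
    have k1 : (a : K) = a' := congrArg PG.a h0
    have k2 : b = b' := congrArg PG.b h0
    have k3 : (c : K) = c' := congrArg PG.c h0
    rw [k2, Subtype.ext k1, Subtype.ext k3]
  refine le_trans (le_of_eq ?_) h1
  rw [Nat.card_prod, Nat.card_prod, h.card, card_fix h]
  ring

/-- an abelian subgroup not contained in `V` is small -/
theorem card_abelian_lt (h : HypK K p n) (X : Subgroup (PG K)) (hX : ∀ x ∈ X, ∀ y ∈ X, x * y = y * x)
    {z : PG K} (hzX : z ∈ X) (hz : z.r ≠ 0) : Nat.card X < (p ^ n) ^ 4 := by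
  have := h.fin
  have := finite_PG h
  have hq := two_le h
  have hlt : (p ^ n) ^ 3 < (p ^ n) ^ 4 := Nat.pow_lt_pow_right (by omega) (by norm_num)
  refine lt_of_le_of_lt ?_ hlt
  by_cases hl : ∀ x ∈ X, star x.r * z.r = x.r * star z.r
  · have h1 := card_le_of_fiber X (X ⊓ PV K) (fun x => x.r) {x : K | star x + (-(star z.r / z.r)) * x = 0}
      (fun x hx => by
        have h3 := hl x hx
        change star x.r + (-(star z.r / z.r)) * x.r = 0
        have h5 : z.r * (star x.r + (-(star z.r / z.r)) * x.r) = 0 := by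
          field_simp
          linear_combination h3
        exact (mul_eq_zero.1 h5).resolve_left hz)
      (fun x hx y hy hxy => by
        have hxy' : x.r = y.r := hxy
        refine ⟨X.mul_mem (X.inv_mem hx) hy, ?_⟩
        change (x⁻¹ * y).r = 0
        rw [PG.mul_r, PG.inv_r, hxy', neg_add_cancel])
    have h2 := card_C_le h hz (X ⊓ PV K) inf_le_right fun x hx => hX z hzX x hx.1
    calc Nat.card X ≤ _ := h1
      _ ≤ p ^ n * (p ^ n) ^ 2 := Nat.mul_le_mul (card_lin h _) h2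
      _ = (p ^ n) ^ 3 := by ring
  · push Not at hl
    obtain ⟨w, hwX, hw⟩ := hl
    have h1 := card_le_of_fiber X (X ⊓ PV K) (fun x => x.r) Set.univ (fun x _ => Set.mem_univ _)
      (fun x hx y hy hxy => by
        have hxy' : x.r = y.r := hxy
        refine ⟨X.mul_mem (X.inv_mem hx) hy, ?_⟩
        change (x⁻¹ * y).r = 0
        rw [PG.mul_r, PG.inv_r, hxy', neg_add_cancel])
    rw [Nat.card_univ, h.card] at h1
    have h2 := card_PZ_le h (X ⊓ PV K) (fun x hx => by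
      obtain ⟨a1, a2⟩ := (comm_iff hx.2).1 (hX z hzX x hx.1)
      obtain ⟨b1, b2⟩ := (comm_iff hx.2).1 (hX w hwX x hx.1)
      refine ⟨hx.2, ?_, (mul_eq_zero.1 a1).resolve_left hz⟩
      have h3 : (star w.r * z.r - w.r * star z.r) * x.b = 0 := by linear_combination z.r * b2 - w.r * a2
      exact (mul_eq_zero.1 h3).resolve_left (sub_ne_zero.2 hw))
    calc Nat.card X ≤ _ := h1
      _ ≤ (p ^ n) ^ 2 * p ^ n := Nat.mul_le_mul_left _ h2
      _ = (p ^ n) ^ 3 := by ring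

/-- `V` is invariant under every automorphism of `E ≥ V` -/
theorem inv_V (h : HypK K p n) {E : Subgroup (PG K)} (hVE : PV K ≤ E) (γ : MulAut E) (e : E)
    (he : (e : PG K) ∈ PV K) : ((γ e : E) : PG K) ∈ PV K := by
  by_contra hcon
  obtain ⟨X, hX⟩ : ∃ X, X = (((PV K).subgroupOf E).map γ.toMonoidHom).map E.subtype := ⟨_, rfl⟩
  have hmem : ∀ y, y ∈ X ↔ ∃ e : E, (e : PG K) ∈ PV K ∧ ((γ e : E) : PG K) = y := by
    intro y
    rw [hX]
    simp only [Subgroup.mem_map, Subgroup.mem_subgroupOf]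
    constructor
    · rintro ⟨_, ⟨e, he, rfl⟩, rfl⟩
      exact ⟨e, he, rfl⟩
    · rintro ⟨e, he, rfl⟩
      exact ⟨_, ⟨e, he, rfl⟩, rfl⟩
  have hcard : Nat.card X = Nat.card (PV K) := by
    rw [hX, Subgroup.card_map_of_injective E.subtype_injective, Subgroup.card_map_of_injective γ.injective]
    exact Nat.card_congr (Subgroup.subgroupOfEquivOfLe hVE).toEquiv
  have hab : ∀ x ∈ X, ∀ y ∈ X, x * y = y * x := by
    intro x hx y hy
    obtain ⟨e1, he1, rfl⟩ := (hmem x).1 hx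
    obtain ⟨e2, he2, rfl⟩ := (hmem y).1 hy
    have h1 : e1 * e2 = e2 * e1 := Subtype.ext (PV_comm he1 he2)
    have h2 := congrArg γ h1
    rw [map_mul, map_mul] at h2
    exact congrArg Subtype.val h2
  have h1 := card_abelian_lt h X hab ((hmem _).2 ⟨e, he, rfl⟩) hcon
  have h2 := card_PV_ge h
  omega

end count

end Cfsg.Agent.H858.P4
end

-- part: H858/P4/E4
section
/-!
# S5210, (E4): for `q > 2` no essential subgroup properly contains `V` (helper858)

`stE4 : StE4`.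
-/

set_option autoImplicit false

namespace Cfsg.Agent.H858.P4

open Cfsg Cfsg.FusionSystem Cfsg.Agent.H776.P4
open Cfsg.Agent.H756.PU (HypK Ess Inv Com)
open Cfsg.Agent.H801.PU (two_le exists_tr)

universe u

variable {K : Type u} [Field K] [StarRing K] {p n : ℕ}

/-- an essential subgroup is proper -/
theorem not_top {G : Type u} [Group G] {E : Subgroup G} {Γ : Subgroup (MulAut E)}
    (hE : Ess (⊤ : Subgroup G) E p Γ) : ¬ (⊤ : Subgroup G) ≤ E := by
  intro htop
  obtain ⟨H, -, -, -, hAI, -⟩ := hE.spe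
  apply hAI
  rw [autInducedBy, Subgroup.closure_le]
  rintro α ⟨g, -, hg⟩
  exact ⟨⟨g, htop trivial⟩, MulEquiv.ext fun x => Subtype.ext (hg x).symm⟩

/-- `γ([e, v]) = [γ e, γ v]` -/
theorem map_comm {G : Type u} [Group G] {E : Subgroup G} (γ : MulAut E) (e v : E) :
    ((γ (e * v * e⁻¹ * v⁻¹) : E) : G) = (γ e : G) * (γ v : G) * (γ e : G)⁻¹ * (γ v : G)⁻¹ := by
  simp only [map_mul, map_inv]
  push_cast
  rfl

/-- if `Z` and `V` are invariant then `S ≤ E` -/
theorem fin_step {E : Subgroup (PG K)} {Γ : Subgroup (MulAut E)}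
    (hE : Ess (⊤ : Subgroup (PG K)) E p Γ) (hV : _root_.Cfsg.Agent.H756.PU.Inv Γ (PV K)) (hZ : _root_.Cfsg.Agent.H756.PU.Inv Γ (PZ K)) {z : PG K} (hzE : z ∈ E)
    (hz : z.r ≠ 0) : False := by
  have hY : _root_.Cfsg.Agent.H756.PU.Inv Γ (PY K) := by
    refine ⟨PY_le_PV.trans hV.1, fun γ hγ e he => ?_⟩
    have h1 := hV.2 γ hγ e he.1
    refine ⟨h1, ?_⟩
    -- `[z, γ e] = γ [γ⁻¹ z, e] ∈ Z`
    have h2 : ((γ⁻¹ (⟨z, hzE⟩ : E) * e * (γ⁻¹ (⟨z, hzE⟩ : E))⁻¹ * e⁻¹ : E) : PG K) ∈ PZ K := by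
      push_cast
      refine ⟨comm_r _ _, ?_, comm_c _ _⟩
      rw [comm_b _ he.1, he.2, mul_zero]
    have h3 := hZ.2 γ hγ _ h2
    rw [map_comm, MulAut.apply_inv_self] at h3
    have h4 := h3.2.1
    rw [comm_b _ h1] at h4
    exact (mul_eq_zero.1 h4).resolve_left hz
  refine not_top hE (Cfsg.Agent.H732.PU.stChain hE (PZ K) (PY K) (PV K) hZ hY hV PZ_le_PY PY_le_PV ⊤ le_rfl ?_ ?_ ?_ ?_)
  · intro x _ e _
    exact comm_r x e
  · intro x _ v _
    exact ⟨comm_r x v, comm_c x v⟩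
  · intro x _ y hy
    refine ⟨comm_r x y, ?_, comm_c x y⟩
    rw [comm_b x hy.1, hy.2, mul_zero]
  · intro x _ m hm
    exact PZ_comm hm x

/-- `Z` is invariant for `p` odd -/
theorem inv_Z_odd (h2 : (2 : K) ≠ 0) {E : Subgroup (PG K)} {Γ : Subgroup (MulAut E)} (hV : _root_.Cfsg.Agent.H756.PU.Inv Γ (PV K))
    {z : PG K} (hzE : z ∈ E) (hz : z.r ≠ 0) : _root_.Cfsg.Agent.H756.PU.Inv Γ (PZ K) := by
  refine ⟨PZ_le_PV.trans hV.1, fun γ hγ e he => ?_⟩
  have hz' : star z.r ≠ 0 := star_ne_zero.2 hz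
  -- `e = [z, [z, v]]`
  have hst : star ((e : PG K).a / (2 * (z.r * star z.r))) = (e : PG K).a / (2 * (z.r * star z.r)) := by
    rw [star_div₀, star_mul', star_mul', star_star, (e : PG K).ha, star_ofNat, mul_comm (star z.r)]
  obtain ⟨v, hvd⟩ : ∃ v : PG K, v = ⟨0, 0, 0, (e : PG K).a / (2 * (z.r * star z.r)), star_zero K, hst⟩ := ⟨_, rfl⟩
  have hvr : v.r = 0 := by rw [hvd]
  have hvb : v.b = 0 := by rw [hvd]
  have hvc : v.c = (e : PG K).a / (2 * (z.r * star z.r)) := by rw [hvd]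
  have hvE : v ∈ E := hV.1 hvr
  obtain ⟨w, hw⟩ : ∃ w : E, w = (⟨z, hzE⟩ : E) * ⟨v, hvE⟩ * (⟨z, hzE⟩ : E)⁻¹ * (⟨v, hvE⟩ : E)⁻¹ := ⟨_, rfl⟩
  have hw' : (w : PG K) = z * v * z⁻¹ * v⁻¹ := by rw [hw]; rfl
  have hwr : (w : PG K).r = 0 := by rw [hw']; exact comm_r _ _
  have hwc : (w : PG K).c = 0 := by rw [hw']; exact comm_c _ _
  have hwb : (w : PG K).b = z.r * v.c := by rw [hw']; exact comm_b _ hvr
  have he2 : e = (⟨z, hzE⟩ : E) * w * (⟨z, hzE⟩ : E)⁻¹ * w⁻¹ := by
    apply Subtype.ext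
    change (e : PG K) = z * (w : PG K) * z⁻¹ * (w : PG K)⁻¹
    ext
    · rw [comm_r, he.1]
    · rw [comm_a _ hwr, hwb, hwc, hvc, star_mul', hst]
      field_simp
      ring
    · rw [comm_b _ hwr, hwc, mul_zero, he.2.1]
    · rw [comm_c, he.2.2]
  have h4 : ((γ e : E) : PG K) = (γ (⟨z, hzE⟩ : E) : PG K) * (γ w : PG K) * (γ (⟨z, hzE⟩ : E) : PG K)⁻¹ *
      (γ w : PG K)⁻¹ := by
    conv_lhs => rw [he2]
    exact map_comm _ _ _
  have h5 : ((γ w : E) : PG K) = (γ (⟨z, hzE⟩ : E) : PG K) * (γ (⟨v, hvE⟩ : E) : PG K) * (γ (⟨z, hzE⟩ : E) : PG K)⁻¹ *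
      (γ (⟨v, hvE⟩ : E) : PG K)⁻¹ := by
    rw [hw]
    exact map_comm _ _ _
  have h6 : ((γ w : E) : PG K).c = 0 := by rw [h5]; exact comm_c _ _
  have h7 : ((γ w : E) : PG K).r = 0 := by rw [h5]; exact comm_r _ _
  rw [h4]
  refine ⟨comm_r _ _, ?_, comm_c _ _⟩
  rw [comm_b _ h7, h6, mul_zero]

/-- `Z` is invariant if `r(E)` is not contained in a line -/
theorem inv_Z_line {E : Subgroup (PG K)} {Γ : Subgroup (MulAut E)} (hV : _root_.Cfsg.Agent.H756.PU.Inv Γ (PV K))
    {z : PG K} (hzE : z ∈ E) (hz : z.r ≠ 0) {w : PG K} (hwE : w ∈ E) (hw : star w.r * z.r ≠ w.r * star z.r) :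
    _root_.Cfsg.Agent.H756.PU.Inv Γ (PZ K) := by
  refine ⟨PZ_le_PV.trans hV.1, fun γ hγ e he => ?_⟩
  have hc : ∀ x ∈ E, x * ((γ e : E) : PG K) = ((γ e : E) : PG K) * x := by
    intro x hx
    have h1 : γ⁻¹ ⟨x, hx⟩ * e = e * γ⁻¹ ⟨x, hx⟩ := Subtype.ext (PZ_comm he _)
    have h2 := congrArg γ h1
    rw [map_mul, map_mul, MulAut.apply_inv_self] at h2
    exact congrArg Subtype.val h2
  have h1 := hV.2 γ hγ e (PZ_le_PV he)
  obtain ⟨a1, a2⟩ := (comm_iff h1).1 (hc z hzE)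
  obtain ⟨b1, b2⟩ := (comm_iff h1).1 (hc w hwE)
  refine ⟨h1, ?_, (mul_eq_zero.1 a1).resolve_left hz⟩
  have h3 : (star w.r * z.r - w.r * star z.r) * ((γ e : E) : PG K).b = 0 := by linear_combination z.r * b2 - w.r * a2
  exact (mul_eq_zero.1 h3).resolve_left (sub_ne_zero.2 hw)

/-- `r(E)` is a full line if it is contained in a line and `p = 2` -/
theorem full_line (h2 : (2 : K) = 0) {E : Subgroup (PG K)} {Γ : Subgroup (MulAut E)}
    (hE : Ess (⊤ : Subgroup (PG K)) E p Γ) (hV : _root_.Cfsg.Agent.H756.PU.Inv Γ (PV K)) {z : PG K} (hzE : z ∈ E) (hz : z.r ≠ 0)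
    (hl : ∀ w ∈ E, star w.r * z.r = w.r * star z.r) (t : K) (ht : star t = t) : ∃ w ∈ E, w.r = t * z.r := by
  have hz' : star z.r ≠ 0 := star_ne_zero.2 hz
  -- `V_α = C_V(E)`
  let M : Subgroup (PG K) :=
    { carrier := {v | v ∈ PV K ∧ ∀ e ∈ E, e * v = v * e}
      one_mem' := ⟨one_mem _, fun e _ => by rw [mul_one, one_mul]⟩
      mul_mem' := by
        rintro x y ⟨hx, hx'⟩ ⟨hy, hy'⟩
        refine ⟨mul_mem hx hy, fun e he => ?_⟩
        rw [← mul_assoc, hx' e he, mul_assoc, hy' e he, mul_assoc]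
      inv_mem' := by
        rintro x ⟨hx, hx'⟩
        refine ⟨_root_.InvMemClass.inv_mem hx, fun e he => ?_⟩
        have h1 := hx' e he
        calc e * x⁻¹ = x⁻¹ * (x * e) * x⁻¹ := by group
          _ = x⁻¹ * (e * x) * x⁻¹ := by rw [h1]
          _ = x⁻¹ * e := by group }
  have hM : ∀ {v : PG K}, v ∈ M ↔ v.r = 0 ∧ v.c = 0 ∧ z.r * star v.b + star z.r * v.b = 0 := by
    intro v
    constructor
    · rintro ⟨h1, h3⟩
      obtain ⟨a1, a2⟩ := (comm_iff h1).1 (h3 z hzE)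
      exact ⟨h1, (mul_eq_zero.1 a1).resolve_left hz, a2⟩
    · rintro ⟨h1, h3, h4⟩
      refine ⟨h1, fun e he => (comm_iff h1).2 ⟨by rw [h3, mul_zero], ?_⟩⟩
      have h5 := hl e he
      have h6 : z.r * (e.r * star v.b + star e.r * v.b) = 0 := by
        linear_combination e.r * h4 + v.b * h5
      exact (mul_eq_zero.1 h6).resolve_left hz
  have hMi : _root_.Cfsg.Agent.H756.PU.Inv Γ M := by
    refine ⟨fun x hx => hV.1 hx.1, fun γ hγ e he => ⟨hV.2 γ hγ e he.1, fun x hx => ?_⟩⟩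
    have h1 : γ⁻¹ ⟨x, hx⟩ * e = e * γ⁻¹ ⟨x, hx⟩ := Subtype.ext (he.2 _ (γ⁻¹ ⟨x, hx⟩).2)
    have h3 := congrArg γ h1
    rw [map_mul, map_mul, MulAut.apply_inv_self] at h3
    exact congrArg Subtype.val h3
  -- `X`
  let X : Subgroup (PG K) :=
    { carrier := {x | star x.r * z.r = x.r * star z.r}
      one_mem' := by
        change star (0 : K) * z.r = 0 * star z.r
        rw [star_zero, zero_mul, zero_mul]
      mul_mem' := by
        intro x y hx hy
        have hx' : star x.r * z.r = x.r * star z.r := hx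
        have hy' : star y.r * z.r = y.r * star z.r := hy
        change star (x.r + y.r) * z.r = (x.r + y.r) * star z.r
        rw [star_add]
        linear_combination hx' + hy'
      inv_mem' := by
        intro x hx
        have hx' : star x.r * z.r = x.r * star z.r := hx
        change star (-x.r) * z.r = (-x.r) * star z.r
        rw [star_neg]
        linear_combination -hx' }
  have hX : ∀ x ∈ X, star x.r * z.r = x.r * star z.r := fun x hx => hx
  have hXE : X ≤ E := by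
    refine Cfsg.Agent.H732.PU.stChain hE M M (PV K) hMi hMi hV le_rfl (fun x hx => hx.1) X le_top ?_ ?_ ?_ ?_
    · intro x _ e _
      exact comm_r x e
    · intro x hx v hv
      have h1 := hX x hx
      refine hM.2 ⟨comm_r _ _, comm_c _ _, ?_⟩
      rw [comm_b x hv, star_mul', v.hc]
      linear_combination v.c * h1 + v.c * x.r * star z.r * h2
    · intro x hx m hm
      have h1 := hX x hx
      obtain ⟨m1, m2, m3⟩ := hM.1 hm
      have h5 : x * m = m * x := by
        refine (comm_iff m1).2 ⟨by rw [m2, mul_zero], ?_⟩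
        have h6 : z.r * (x.r * star m.b + star x.r * m.b) = 0 := by
          linear_combination x.r * m3 + m.b * h1
        exact (mul_eq_zero.1 h6).resolve_left hz
      rw [h5, mul_inv_cancel_right, mul_inv_cancel]
      exact one_mem _
    · intro x hx m hm
      have h1 := hX x hx
      obtain ⟨m1, m2, m3⟩ := hM.1 hm
      refine (comm_iff m1).2 ⟨by rw [m2, mul_zero], ?_⟩
      have h6 : z.r * (x.r * star m.b + star x.r * m.b) = 0 := by
        linear_combination x.r * m3 + m.b * h1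
      exact (mul_eq_zero.1 h6).resolve_left hz
  refine ⟨⟨t * z.r, 0, 0, 0, star_zero K, star_zero K⟩, hXE ?_, rfl⟩
  change star (t * z.r) * z.r = t * z.r * star z.r
  rw [star_mul', ht]
  ring

/-- `Z` is invariant if `r(E)` is a full line and `q > 2` -/
theorem inv_Z_two (h : HypK K p n) {E : Subgroup (PG K)} {Γ : Subgroup (MulAut E)}
    (hV : _root_.Cfsg.Agent.H756.PU.Inv Γ (PV K)) {z : PG K} (hzE : z ∈ E) (hz : z.r ≠ 0)
    (hl : ∀ w ∈ E, star w.r * z.r = w.r * star z.r) (hf : ∀ t : K, star t = t → ∃ w ∈ E, w.r = t * z.r)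
    {s : K} (hs : star s = s) (hs0 : s ≠ 0) (hs1 : s ≠ 1) : _root_.Cfsg.Agent.H756.PU.Inv Γ (PZ K) := by
  refine ⟨PZ_le_PV.trans hV.1, fun γ hγ e0 he0 => ?_⟩
  have hz' : star z.r ≠ 0 := star_ne_zero.2 hz
  obtain ⟨θ, hθ⟩ := exists_tr h 1 (star_one K)
  -- two elements of `Y`
  obtain ⟨b1, hb1⟩ : ∃ b1 : K, z.r * star b1 + star z.r * b1 = 1 := by
    refine ⟨θ / star z.r, ?_⟩
    rw [star_div₀, star_star]
    have e1 : z.r * (star θ / z.r) = star θ := by field_simp
    have e2 : star z.r * (θ / star z.r) = θ := by field_simp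
    rw [e1, e2, add_comm, hθ]
  -- `[e, v]` for `v = (0, b, 0)`
  have key : ∀ b : K, z.r * star b + star z.r * b ≠ 0 → ∀ x ∈ PZ K, ∃ e ∈ E, ∀ v : PG K, v.r = 0 → v.c = 0 →
      v.b = b → e * v * e⁻¹ * v⁻¹ = x := by
    intro b hb x hx
    have hst : star (z.r * star b + star z.r * b) = z.r * star b + star z.r * b := by
      rw [star_add, star_mul', star_mul', star_star, star_star]
      ring
    obtain ⟨e, he, her⟩ := hf (x.a / (z.r * star b + star z.r * b)) (by rw [star_div₀, hst, x.ha])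
    refine ⟨e, he, fun v hv hvc hvb => ?_⟩
    ext
    · rw [comm_r, hx.1]
    · rw [comm_a _ hv, hvc, hvb, her, star_mul', star_div₀, hst, x.ha]
      field_simp
      ring
    · rw [comm_b _ hv, hvc, mul_zero, hx.2.1]
    · rw [comm_c, hx.2.2]
  by_contra hcon
  obtain ⟨v1, hv1⟩ : ∃ v : PG K, v = ⟨0, 0, b1, 0, star_zero K, star_zero K⟩ := ⟨_, rfl⟩
  obtain ⟨v2, hv2⟩ : ∃ v : PG K, v = ⟨0, 0, s * b1, 0, star_zero K, star_zero K⟩ := ⟨_, rfl⟩
  have v1r : v1.r = 0 := by rw [hv1]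
  have v2r : v2.r = 0 := by rw [hv2]
  have v1c : v1.c = 0 := by rw [hv1]
  have v2c : v2.c = 0 := by rw [hv2]
  have v1b : v1.b = b1 := by rw [hv1]
  have v2b : v2.b = s * b1 := by rw [hv2]
  have hb2 : z.r * star (s * b1) + star z.r * (s * b1) = s := by
    rw [star_mul', hs]
    linear_combination s * hb1
  have hb1' : z.r * star b1 + star z.r * b1 ≠ 0 := by rw [hb1]; exact one_ne_zero
  have hb2' : z.r * star (s * b1) + star z.r * (s * b1) ≠ 0 := by rw [hb2]; exact hs0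
  have v1E : v1 ∈ E := hV.1 v1r
  have v2E : v2 ∈ E := hV.1 v2r
  obtain ⟨w1, hw1⟩ : ∃ w, w = γ ⟨v1, v1E⟩ := ⟨_, rfl⟩
  obtain ⟨w2, hw2⟩ : ∃ w, w = γ ⟨v2, v2E⟩ := ⟨_, rfl⟩
  have w1r : (w1 : PG K).r = 0 := by rw [hw1]; exact hV.2 γ hγ _ v1r
  have w2r : (w2 : PG K).r = 0 := by rw [hw2]; exact hV.2 γ hγ _ v2r
  -- the images have nonzero `c`
  have hcne : ∀ (b : K), z.r * star b + star z.r * b ≠ 0 → ∀ (v : PG K) (hvE : v ∈ E), v.r = 0 → v.c = 0 → v.b = b →
      ((γ ⟨v, hvE⟩ : E) : PG K).c ≠ 0 := by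
    intro b hb v hvE hvr hvc hvb hc
    apply hcon
    obtain ⟨e, he, hee⟩ := key b hb (e0 : PG K) he0
    have h1 := hee v hvr hvc hvb
    have h2 : e0 = (⟨e, he⟩ : E) * ⟨v, hvE⟩ * (⟨e, he⟩ : E)⁻¹ * (⟨v, hvE⟩ : E)⁻¹ := Subtype.ext h1.symm
    have h3 : ((γ e0 : E) : PG K) = (γ (⟨e, he⟩ : E) : PG K) * (γ (⟨v, hvE⟩ : E) : PG K) *
        (γ (⟨e, he⟩ : E) : PG K)⁻¹ * (γ (⟨v, hvE⟩ : E) : PG K)⁻¹ := by
      conv_lhs => rw [h2]
      exact map_comm _ _ _
    rw [h3]
    refine ⟨comm_r _ _, ?_, comm_c _ _⟩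
    rw [comm_b _ (hV.2 γ hγ ⟨v, hvE⟩ hvr), hc, mul_zero]
  have w1c : (w1 : PG K).c ≠ 0 := by rw [hw1]; exact hcne b1 hb1' v1 v1E v1r v1c v1b
  have w2c : (w2 : PG K).c ≠ 0 := by rw [hw2]; exact hcne (s * b1) hb2' v2 v2E v2r v2c v2b
  -- `[E, w1] = [E, w2]`
  have hsame : ∀ e ∈ E, ∃ e' ∈ E, e * w1 * e⁻¹ * (w1 : PG K)⁻¹ = e' * w2 * e'⁻¹ * (w2 : PG K)⁻¹ := by
    intro e he
    have h1 : (((γ⁻¹ ⟨e, he⟩ * ⟨v1, v1E⟩ * (γ⁻¹ ⟨e, he⟩)⁻¹ * (⟨v1, v1E⟩ : E)⁻¹ : E) : PG K)) ∈ PZ K := by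
      push_cast
      refine ⟨comm_r _ _, ?_, comm_c _ _⟩
      rw [comm_b _ v1r, v1c, mul_zero]
    obtain ⟨f, hf, hff⟩ := key (s * b1) hb2' _ h1
    have h2 := hff v2 v2r v2c v2b
    have h3 : (⟨f, hf⟩ : E) * ⟨v2, v2E⟩ * (⟨f, hf⟩ : E)⁻¹ * (⟨v2, v2E⟩ : E)⁻¹ =
        γ⁻¹ ⟨e, he⟩ * ⟨v1, v1E⟩ * (γ⁻¹ ⟨e, he⟩)⁻¹ * (⟨v1, v1E⟩ : E)⁻¹ := Subtype.ext h2
    have h4 := congrArg (fun x => ((γ x : E) : PG K)) h3
    simp only [map_comm, MulAut.apply_inv_self, ← hw1, ← hw2] at h4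
    exact ⟨(γ ⟨f, hf⟩ : E), (γ ⟨f, hf⟩).2, h4.symm⟩
  -- the resulting equation
  have heq : ∀ t : K, star t = t → t ≠ 0 →
      (w2 : PG K).c * (z.r * star (w1 : PG K).b + star z.r * (w1 : PG K).b + t * (z.r * star z.r) * (w1 : PG K).c) =
      (w1 : PG K).c * (z.r * star (w2 : PG K).b + star z.r * (w2 : PG K).b + t * (z.r * star z.r) * (w1 : PG K).c) := by
    intro t ht ht0
    obtain ⟨e, he, her⟩ := hf t ht
    obtain ⟨e', he', hee⟩ := hsame e he
    have hb := congrArg PG.b hee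
    have ha := congrArg PG.a hee
    rw [comm_b _ w1r, comm_b _ w2r, her] at hb
    rw [comm_a _ w1r, comm_a _ w2r, her] at ha
    have hb' := congrArg star hb
    simp only [star_mul', ht, (w1 : PG K).hc, (w2 : PG K).hc] at hb' ha
    have h1 : t * ((w2 : PG K).c * (z.r * star (w1 : PG K).b + star z.r * (w1 : PG K).b + t * (z.r * star z.r) * (w1 : PG K).c) -
      (w1 : PG K).c * (z.r * star (w2 : PG K).b + star z.r * (w2 : PG K).b + t * (z.r * star z.r) * (w1 : PG K).c)) = 0 := by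
      linear_combination (w2 : PG K).c * ha - (star (w2 : PG K).b + star e'.r * (w2 : PG K).c) * hb -
        ((w2 : PG K).b + t * z.r * (w1 : PG K).c) * hb'
    exact sub_eq_zero.1 ((mul_eq_zero.1 h1).resolve_left ht0)
  have q1 := heq 1 (star_one K) one_ne_zero
  have q2 := heq s hs hs0
  have hcc : (w1 : PG K).c = (w2 : PG K).c := by
    have h1 : ((s - 1) * (z.r * star z.r) * (w1 : PG K).c) * ((w1 : PG K).c - (w2 : PG K).c) = 0 := by
      linear_combination q1 - q2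
    have h3 : (s - 1) * (z.r * star z.r) * (w1 : PG K).c ≠ 0 :=
      mul_ne_zero (mul_ne_zero (sub_ne_zero.2 hs1) (mul_ne_zero hz hz')) w1c
    exact sub_eq_zero.1 ((mul_eq_zero.1 h1).resolve_left h3)
  have hbb : z.r * star (w1 : PG K).b + star z.r * (w1 : PG K).b = z.r * star (w2 : PG K).b + star z.r * (w2 : PG K).b := by
    rw [← hcc] at q1
    have h1 := mul_left_cancel₀ w1c q1
    linear_combination h1
  -- `w1⁻¹ w2` commutes with `E`
  have hd : ∀ e ∈ E, e * ((w1⁻¹ * w2 : E) : PG K) = ((w1⁻¹ * w2 : E) : PG K) * e := by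
    intro e he
    have hr : ((w1⁻¹ * w2 : E) : PG K).r = 0 := by
      change ((w1 : PG K)⁻¹ * (w2 : PG K)).r = 0
      rw [PG.mul_r, PG.inv_r, w1r, w2r, neg_zero, add_zero]
    have hc : ((w1⁻¹ * w2 : E) : PG K).c = 0 := by
      change ((w1 : PG K)⁻¹ * (w2 : PG K)).c = 0
      rw [PG.mul_c, PG.inv_c, hcc, neg_add_cancel]
    have hb : ((w1⁻¹ * w2 : E) : PG K).b = (w2 : PG K).b - (w1 : PG K).b := by
      change ((w1 : PG K)⁻¹ * (w2 : PG K)).b = _
      simp only [PG.mul_b, PG.inv_b, PG.inv_r, w1r]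
      ring
    refine (comm_iff hr).2 ⟨by rw [hc, mul_zero], ?_⟩
    rw [hb, star_sub]
    have h5 := hl e he
    have h6 : z.r * (e.r * (star (w2 : PG K).b - star (w1 : PG K).b) + star e.r * ((w2 : PG K).b - (w1 : PG K).b)) = 0 := by
      linear_combination ((w2 : PG K).b - (w1 : PG K).b) * h5 - e.r * hbb
    exact (mul_eq_zero.1 h6).resolve_left hz
  -- so `v1⁻¹ v2` commutes with `z`
  have h1 : γ (⟨z, hzE⟩ : E) * (w1⁻¹ * w2) = (w1⁻¹ * w2) * γ ⟨z, hzE⟩ := Subtype.ext (hd _ (γ ⟨z, hzE⟩).2)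
  have h2 : (⟨z, hzE⟩ : E) * ((⟨v1, v1E⟩ : E)⁻¹ * ⟨v2, v2E⟩) = ((⟨v1, v1E⟩ : E)⁻¹ * ⟨v2, v2E⟩) * ⟨z, hzE⟩ := by
    apply γ.injective
    simp only [map_mul, map_inv, ← hw1, ← hw2]
    exact h1
  have h3 : z * (v1⁻¹ * v2) = (v1⁻¹ * v2) * z := congrArg Subtype.val h2
  have hr : (v1⁻¹ * v2).r = 0 := by rw [PG.mul_r, PG.inv_r, v1r, v2r, neg_zero, add_zero]
  have h4 := ((comm_iff hr).1 h3).2
  rw [inv_mul_b v1c v2c, v1b, v2b, star_sub] at h4
  apply hs1
  linear_combination h4 - hb2 + hb1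

/-- **(E4)** -/
theorem stE4 : StE4.{u} := by
  intro K _ _ p n h hq E Γ hE hVE
  by_contra hne
  have hfin := h.fin
  obtain ⟨z, hzE, hz⟩ : ∃ z ∈ E, z.r ≠ 0 := by
    by_contra hcon
    push Not at hcon
    exact hne (le_antisymm hcon hVE)
  have hV : _root_.Cfsg.Agent.H756.PU.Inv Γ (PV K) := ⟨hVE, fun γ _ e he => inv_V h hVE γ e he⟩
  have hZ : _root_.Cfsg.Agent.H756.PU.Inv Γ (PZ K) := by
    by_cases h2 : (2 : K) = 0
    · by_cases hl : ∀ w ∈ E, star w.r * z.r = w.r * star z.r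
      · obtain ⟨s, hs, hs0, hs1⟩ : ∃ s : K, star s = s ∧ s ≠ 0 ∧ s ≠ 1 := by
          by_contra hcon
          push Not at hcon
          have h3 := card_fix h
          have h4 : {x : K | star x = x} ⊆ {0, 1} := by
            intro x hx
            by_cases hx0 : x = 0
            · exact Or.inl hx0
            · exact Or.inr (hcon x hx hx0)
          have h5 : Nat.card {x : K | star x = x} ≤ Nat.card ({0, 1} : Set K) :=
            Nat.card_mono (Set.toFinite _) h4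
          have h6 : Nat.card ({0, 1} : Set K) ≤ 2 := by
            rw [Nat.card_coe_set_eq]
            exact (Set.ncard_insert_le 0 {1}).trans (by rw [Set.ncard_singleton])
          omega
        exact inv_Z_two h hV hzE hz hl (fun t ht => full_line h2 hE hV hzE hz hl t ht) hs hs0 hs1
      · push Not at hl
        obtain ⟨w, hwE, hw⟩ := hl
        exact inv_Z_line hV hzE hz hwE hw
    · exact inv_Z_odd h2 hV hzE hz
  exact fin_step hE hV hZ hzE hz

end Cfsg.Agent.H858.P4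
end

-- part: H987/P4/Ep
section
/-!
# S5210 (EP): the calculus of the automorphisms `ε_κ` for `q = 3` (helper987)
-/

set_option autoImplicit false

namespace Cfsg.Agent.H987.P4

open Cfsg Cfsg.FusionSystem Cfsg.Agent.H776.P4
open Cfsg.Agent.H756.PU (HypK)

universe u

variable {K : Type u} [Field K] [StarRing K]

theorem Ep.mul {κ κ' : K} {ε ε' : MulAut (PG K)} (h : IsEp κ ε) (h' : IsEp κ' ε') : IsEp (κ + κ') (ε * ε') where
  r g := by rw [MulAut.mul_apply, h.r, h'.r]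
  a g := by
    rw [MulAut.mul_apply, h.a, h'.a, h'.r, star_add]
    ring
  b g := by
    rw [MulAut.mul_apply, h.b, h'.b, h'.r]
    ring
  c g := by rw [MulAut.mul_apply, h.c, h'.c]

theorem Ep.uniq {κ : K} {ε ε' : MulAut (PG K)} (h : IsEp κ ε) (h' : IsEp κ ε') : ε = ε' := by
  apply MulEquiv.ext
  intro g
  apply PG.ext
  · rw [h.r, h'.r]
  · rw [h.a, h'.a]
  · rw [h.b, h'.b]
  · rw [h.c, h'.c]

theorem Ep.one : IsEp (0 : K) 1 where
  r g := rfl
  a g := by
    rw [star_zero, zero_mul, zero_mul, add_zero, sub_zero]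
    rfl
  b g := by
    rw [zero_mul, add_zero]
    rfl
  c g := rfl

theorem Ep.inv {κ : K} {ε : MulAut (PG K)} (h : IsEp κ ε) : IsEp (-κ) ε⁻¹ where
  r g := by
    have h1 := h.r (ε⁻¹ g)
    rw [MulAut.apply_inv_self] at h1
    exact h1.symm
  a g := by
    have h0 := h.r (ε⁻¹ g)
    have h1 := h.a (ε⁻¹ g)
    rw [MulAut.apply_inv_self] at h0 h1
    rw [h0, h1, star_neg]
    ring
  b g := by
    have h0 := h.r (ε⁻¹ g)
    have h1 := h.b (ε⁻¹ g)
    rw [MulAut.apply_inv_self] at h0 h1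
    rw [h0, h1]
    ring
  c g := by
    have h1 := h.c (ε⁻¹ g)
    rw [MulAut.apply_inv_self] at h1
    exact h1.symm

theorem Tor.inv {d : MulAut (PG K)} {s l : K} {τ : K ≃+* K} (h : IsTorP d s l τ) :
    IsTorP d⁻¹ (τ.symm s⁻¹) (τ.symm l⁻¹) τ.symm := by
  have hst : ∀ x, τ.symm (star x) = star (τ.symm x) := by
    intro x
    apply τ.injective
    rw [h.tst, RingEquiv.apply_symm_apply, RingEquiv.apply_symm_apply]
  have hs := h.ns
  have hl := h.nl
  have hs' : star s ≠ 0 := by simpa only [_root_.ne_eq, _root_.star_eq_zero] using hs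
  refine ⟨?_, ?_, ?_, hst, fun g => ?_, fun g => ?_, fun g => ?_, fun g => ?_⟩
  · rw [Ne, map_eq_zero_iff _ τ.symm.injective]
    exact inv_ne_zero hs
  · rw [Ne, map_eq_zero_iff _ τ.symm.injective]
    exact inv_ne_zero hl
  · rw [← hst, star_inv₀, h.sl]
  · have h1 := h.r (d⁻¹ g)
    rw [MulAut.apply_inv_self] at h1
    apply τ.injective
    rw [h1, map_mul, RingEquiv.apply_symm_apply, RingEquiv.apply_symm_apply]
    field_simp
  · have h1 := h.a (d⁻¹ g)
    rw [MulAut.apply_inv_self] at h1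
    apply τ.injective
    rw [h1, map_mul, map_mul, map_mul, ← hst, star_inv₀, RingEquiv.apply_symm_apply, RingEquiv.apply_symm_apply,
      RingEquiv.apply_symm_apply, RingEquiv.apply_symm_apply]
    field_simp
  · have h1 := h.b (d⁻¹ g)
    rw [MulAut.apply_inv_self] at h1
    apply τ.injective
    rw [h1, map_mul, map_mul, RingEquiv.apply_symm_apply, RingEquiv.apply_symm_apply, RingEquiv.apply_symm_apply]
    field_simp
  · have h1 := h.c (d⁻¹ g)
    rw [MulAut.apply_inv_self] at h1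
    apply τ.injective
    rw [h1, map_mul, RingEquiv.apply_symm_apply, RingEquiv.apply_symm_apply]
    field_simp

/-- conjugation of `ε_κ` by the torus -/
theorem Ep.tor {κ : K} {d ε : MulAut (PG K)} {s l : K} {τ : K ≃+* K} (hd : IsTorP d s l τ) (h : IsEp κ ε) :
    IsEp (actK s l τ κ) (d * ε * d⁻¹) := by
  have hs := hd.ns
  have hl := hd.nl
  have hs' : star s ≠ 0 := by simpa only [_root_.ne_eq, _root_.star_eq_zero] using hs
  have key : ∀ g, ∃ k, g = d k := fun g => ⟨d⁻¹ g, (MulAut.apply_inv_self _ d g).symm⟩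
  have e : ∀ k, (d * ε * d⁻¹) (d k) = d (ε k) := by
    intro k
    rw [MulAut.mul_apply, MulAut.mul_apply, MulAut.inv_apply_self]
  refine ⟨fun g => ?_, fun g => ?_, fun g => ?_, fun g => ?_⟩
  · obtain ⟨k, rfl⟩ := key g
    rw [e, hd.r, hd.r, h.r]
  · obtain ⟨k, rfl⟩ := key g
    rw [e, hd.a, h.a, hd.a, hd.r, actK]
    simp only [map_sub, map_add, map_mul, star_mul', star_inv₀, star_star, hd.tst, hd.sl]
    field_simp
  · obtain ⟨k, rfl⟩ := key g
    rw [e, hd.b, h.b, hd.b, hd.r, actK]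
    simp only [map_add, map_mul, star_mul', hd.tst]
    field_simp
  · obtain ⟨k, rfl⟩ := key g
    rw [e, hd.c, h.c, hd.c]

theorem RP.mul {Q : Subgroup (PG K)} {α β : MulAut (PG K)} {γ δ : MulAut Q} (h : IsRP α γ) (h' : IsRP β δ) :
    IsRP (α * β) (γ * δ) := fun e => by
  rw [MulAut.mul_apply, MulAut.mul_apply, h, h']

theorem RP.inv {Q : Subgroup (PG K)} {α : MulAut (PG K)} {γ : MulAut Q} (h : IsRP α γ) : IsRP α⁻¹ γ⁻¹ := fun e => by
  apply α.injective
  rw [← h, MulAut.apply_inv_self, MulAut.apply_inv_self]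

theorem RP.uniq {Q : Subgroup (PG K)} {α : MulAut (PG K)} {γ δ : MulAut Q} (h : IsRP α γ) (h' : IsRP α δ) : γ = δ := by
  apply MulEquiv.ext
  intro e
  apply Subtype.ext
  rw [h, h']

theorem RP.one {Q : Subgroup (PG K)} : IsRP (1 : MulAut (PG K)) (1 : MulAut Q) := fun _ => rfl

/-- `W_κ` conjugated by the restriction of `ε_κ'` -/
theorem Wk.conj_ep {κ κ' : K} {ε : MulAut (PG K)} {t : MulAut (PQ K)} (h : IsEp κ' ε) (ht : IsRP ε t) {γ : MulAut (PQ K)}
    (hγ : IsWk κ γ) : IsWk (κ' + κ) (t * γ * t⁻¹) := by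
  obtain ⟨ε₁, n, t₁, h1, h2, h3, rfl⟩ := hγ
  exact ⟨ε * ε₁, n, t * t₁, Ep.mul h h1, h2, RP.mul ht h3, by group⟩

/-- `W` conjugated by the restriction of an element of the torus, `l = ±1` -/
theorem WQ.conj_tor {d : MulAut (PG K)} {s l : K} {τ : K ≃+* K} (hd : IsTorP d s l τ) (hl : l * l = 1) {t : MulAut (PQ K)}
    (ht : IsRP d t) {n : MulAut (PQ K)} (hn : IsWQ n) : t * n * t⁻¹ = n ∨ t * n * t⁻¹ = n⁻¹ := by
  have hl1 : l = 1 ∨ l = -1 := by
    have : (l - 1) * (l + 1) = 0 := by linear_combination hl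
    rcases mul_eq_zero.1 this with h | h
    · exact Or.inl (sub_eq_zero.1 h)
    · exact Or.inr (eq_neg_of_add_eq_zero_left h)
  have hc : ∀ e : PQ K, ((e : PQ K) : PG K).c = 0 := fun e => e.2
  rcases hl1 with rfl | rfl
  · left
    rw [mul_inv_eq_iff_eq_mul]
    apply MulEquiv.ext
    intro e
    apply Subtype.ext
    rw [MulAut.mul_apply, MulAut.mul_apply, ht]
    apply PG.ext
    · rw [hd.r, hn.r, hn.r, ht, hd.b]
      ring
    · rw [hd.a, hn.a, hn.a, ht, hd.a, hd.r, hd.b]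
      simp only [map_sub, map_add, map_mul, star_mul', hd.tst, hd.sl]
      ring
    · rw [hd.b, hn.b, hn.b, ht, hd.r, map_neg]
      ring
    · rw [← ht, hc, hc]
  · right
    rw [mul_inv_eq_iff_eq_mul, eq_inv_mul_iff_mul_eq]
    apply MulEquiv.ext
    intro e
    apply Subtype.ext
    rw [MulAut.mul_apply, MulAut.mul_apply]
    apply PG.ext
    · rw [hn.r, ht, ht, hd.b, hn.b, hd.r, map_neg]
      ring
    · rw [hn.a, ht, ht, hd.a, hd.r, hd.b, hn.a, hn.r, hn.b, hd.a]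
      simp only [map_sub, map_add, map_mul, star_mul', star_neg, hd.tst, hd.sl, map_neg]
      ring
    · rw [hn.b, ht, ht, hd.r, hn.r, hd.b]
      ring
    · rw [hc, hc]

/-- `W_κ` conjugated by the restriction of an element of the torus -/
theorem Wk.conj_tor {κ : K} {d : MulAut (PG K)} {s l : K} {τ : K ≃+* K} (hd : IsTorP d s l τ) (hl : l * l = 1)
    {t : MulAut (PQ K)} (ht : IsRP d t) {γ : MulAut (PQ K)} (hγ : IsWk κ γ) :
    IsWk (actK s l τ κ) (t * γ * t⁻¹) ∨ IsWk (actK s l τ κ) (t * γ * t⁻¹)⁻¹ := by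
  obtain ⟨ε₁, n, t₁, h1, h2, h3, rfl⟩ := hγ
  have hε := Ep.tor hd h1
  have hr : IsRP (d * ε₁ * d⁻¹) (t * t₁ * t⁻¹) := RP.mul (RP.mul ht h3) (RP.inv ht)
  rcases WQ.conj_tor hd hl ht h2 with h | h
  · left
    refine ⟨_, n, _, hε, h2, hr, ?_⟩
    calc t * (t₁ * n * t₁⁻¹) * t⁻¹ = t * t₁ * t⁻¹ * (t * n * t⁻¹) * (t * t₁ * t⁻¹)⁻¹ := by group
      _ = _ := by rw [h]
  · right
    refine ⟨_, n, _, hε, h2, hr, ?_⟩
    calc (t * (t₁ * n * t₁⁻¹) * t⁻¹)⁻¹ = t * t₁ * t⁻¹ * (t * n * t⁻¹)⁻¹ * (t * t₁ * t⁻¹)⁻¹ := by group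
      _ = _ := by rw [h, inv_inv]

theorem mem_conj {A : Type*} [Group A] {Γ : Subgroup A} {t x : A} :
    x ∈ Γ.map (MulAut.conj t).toMonoidHom ↔ t⁻¹ * x * t ∈ Γ := by
  constructor
  · rintro ⟨y, hy, rfl⟩
    have : t⁻¹ * (MulAut.conj t).toMonoidHom y * t = y := by
      show t⁻¹ * (t * y * t⁻¹) * t = y
      group
    rw [this]
    exact hy
  · intro h
    exact ⟨_, h, by
      show t * (t⁻¹ * x * t) * t⁻¹ = x
      group⟩

theorem pt_conj_ep {κ : K} {ε : MulAut (PG K)} {t : MulAut (PQ K)} {Γ : Subgroup (MulAut (PQ K))} (h : IsEp κ ε)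
    (ht : IsRP ε t) : Pt (Γ.map (MulAut.conj t).toMonoidHom) = {x | ∃ y ∈ Pt Γ, x = κ + y} := by
  ext x
  constructor
  · rintro ⟨γ, hγ, hw⟩
    refine ⟨-κ + x, ⟨t⁻¹ * γ * t, mem_conj.1 hγ, ?_⟩, by ring⟩
    have h1 := Wk.conj_ep (Ep.inv h) (RP.inv ht) hw
    rwa [inv_inv] at h1
  · rintro ⟨y, ⟨γ, hγ, hw⟩, rfl⟩
    refine ⟨t * γ * t⁻¹, mem_conj.2 ?_, Wk.conj_ep h ht hw⟩
    have : t⁻¹ * (t * γ * t⁻¹) * t = γ := by group
    rw [this]
    exact hγ

theorem pt_conj_tor {d : MulAut (PG K)} {s l : K} {τ : K ≃+* K} {t : MulAut (PQ K)} {Γ : Subgroup (MulAut (PQ K))}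
    (hd : IsTorP d s l τ) (hl : l * l = 1) (ht : IsRP d t) :
    Pt (Γ.map (MulAut.conj t).toMonoidHom) = {x | ∃ y ∈ Pt Γ, x = actK s l τ y} := by
  have hs := hd.ns
  have hn := hd.nl
  have hs' : star s ≠ 0 := by simpa only [_root_.ne_eq, _root_.star_eq_zero] using hs
  have hi := Tor.inv hd
  ext x
  constructor
  · rintro ⟨γ, hγ, hw⟩
    have hl' : τ.symm l⁻¹ * τ.symm l⁻¹ = 1 := by
      rw [← map_mul, ← mul_inv, hl, inv_one, map_one]
    have e : x = actK s l τ (actK (τ.symm s⁻¹) (τ.symm l⁻¹) τ.symm x) := by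
      have hst : ∀ x, τ.symm (star x) = star (τ.symm x) := by
        intro x
        apply τ.injective
        rw [hd.tst, RingEquiv.apply_symm_apply, RingEquiv.apply_symm_apply]
      rw [actK, actK, ← hst]
      simp only [map_mul, map_inv₀, RingEquiv.apply_symm_apply, star_inv₀, inv_inv]
      field_simp
    refine ⟨_, ?_, e⟩
    have h2 : t⁻¹ * γ * t ∈ Γ := mem_conj.1 hγ
    rcases Wk.conj_tor hi hl' (RP.inv ht) hw with h1 | h1
    · rw [inv_inv] at h1
      exact ⟨_, h2, h1⟩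
    · rw [inv_inv] at h1
      exact ⟨_, Γ.inv_mem h2, h1⟩
  · rintro ⟨y, ⟨γ, hγ, hw⟩, rfl⟩
    have h2 : t * γ * t⁻¹ ∈ Γ.map (MulAut.conj t).toMonoidHom := by
      rw [mem_conj]
      have : t⁻¹ * (t * γ * t⁻¹) * t = γ := by group
      rw [this]
      exact hγ
    rcases Wk.conj_tor hd hl ht hw with h1 | h1
    · exact ⟨_, h2, h1⟩
    · exact ⟨_, Subgroup.inv_mem _ h2, h1⟩

theorem wk_zero {γ : MulAut (PQ K)} : IsWk 0 γ ↔ IsWQ γ := by
  constructor
  · rintro ⟨ε, n, t, h1, h2, h3, rfl⟩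
    have e1 : ε = 1 := Ep.uniq h1 Ep.one
    subst e1
    have e2 : t = 1 := RP.uniq h3 RP.one
    subst e2
    rw [one_mul, inv_one, mul_one]
    exact h2
  · intro h
    exact ⟨1, γ, 1, Ep.one, h, RP.one, by group⟩

/-- **(EP)** -/
theorem stEp : StEp.{u} := by
  intro K _ _ p n hK h3
  refine ⟨fun κ κ' ε ε' h h' => Ep.mul h h', fun κ d ε s l τ hd h => Ep.tor hd h, fun κ ε t h ht => ?_,
    fun κ ε t Γ h ht _ => pt_conj_ep h ht, fun d s l τ t Γ hd ht _ => pt_conj_tor hd ?_ ht, ?_⟩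
  · apply MulEquiv.ext
    intro e
    apply Subtype.ext
    rw [ht]
    have hr : (e : PG K).r = 0 := e.2
    apply PG.ext
    · exact h.r _
    · rw [h.a, hr, mul_zero, star_zero, mul_zero, mul_zero, add_zero, sub_zero]
      rfl
    · rw [h.b, hr, star_zero, mul_zero, add_zero]
      rfl
    · exact h.c _
  · have h1 := hd.sl
    rw [hK.star_eq, h3] at h1
    have h2 : l * (l * l - 1) = 0 := by linear_combination h1
    exact sub_eq_zero.1 ((mul_eq_zero.1 h2).resolve_left hd.nl)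
  · rw [LamP, LamQ]
    congr 2
    ext γ
    constructor
    · rintro ⟨κ, hκ, h⟩
      rw [Set.mem_singleton_iff] at hκ
      subst hκ
      exact wk_zero.1 h
    · intro h
      exact ⟨0, rfl, wk_zero.2 h⟩

end Cfsg.Agent.H987.P4
end

-- part: H936/P4/Card
section
/-!
# S5210, `q = 3`: the order of `Aut_F(Q)` from the classification of the configurations (helper936, task 5294)
-/

set_option autoImplicit false
set_option linter.unusedSectionVars false

namespace Cfsg.Agent.H936.P4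

open Cfsg Cfsg.FusionSystem Cfsg.Agent.H776.P4 Cfsg.Agent.H71.P4
open Cfsg.Agent.H756.PU (HypK Ess Inv Com NormAut TIAut AF)
open Cfsg.Agent.H756

universe u

/-! ### conjugating a parabolic by an automorphism commuting with `D` -/

section twist

variable {K : Type u} [Field K] [StarRing K] {p : ℕ} {Q : Subgroup (PG K)}

theorem isRP_inv {θ : MulAut (PG K)} {t : MulAut Q} (ht : IsRP θ t) : IsRP θ⁻¹ t⁻¹ := by
  intro e
  have h1 := ht (t⁻¹ e)
  rw [MulAut.apply_inv_self] at h1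
  rw [h1, MulAut.inv_apply_self]

theorem isRP_mul {θ θ' : MulAut (PG K)} {t t' : MulAut Q} (ht : IsRP θ t) (ht' : IsRP θ' t') :
    IsRP (θ * θ') (t * t') := by
  intro e
  rw [MulAut.mul_apply, ht, ht', MulAut.mul_apply]

theorem isRP_unique {θ : MulAut (PG K)} {t t' : MulAut Q} (ht : IsRP θ t) (ht' : IsRP θ t') : t = t' := by
  apply MulEquiv.ext
  intro e
  apply Subtype.ext
  rw [ht, ht']

/-- the group `Aut_S(Q)` is normalized by the restrictions of automorphisms of `S` -/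
theorem conj_mem_ind {θ : MulAut (PG K)} {t : MulAut Q} (ht : IsRP θ t) {x : MulAut Q}
    (hx : x ∈ autInducedBy (⊤ : Subgroup (PG K)) Q) : t * x * t⁻¹ ∈ autInducedBy (⊤ : Subgroup (PG K)) Q := by
  rw [H802.mem_autInducedBy_iff] at hx ⊢
  obtain ⟨g, -, hg⟩ := hx
  refine ⟨θ g, trivial, fun e => ?_⟩
  rw [MulAut.mul_apply, MulAut.mul_apply, ht, hg, isRP_inv ht, map_mul, map_mul, map_inv, MulAut.apply_inv_self]

theorem normAut_conj {θ : MulAut (PG K)} {t γ : MulAut Q} (ht : IsRP θ t) (h : NormAut (⊤ : Subgroup (PG K)) γ) :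
    NormAut (⊤ : Subgroup (PG K)) (t * γ * t⁻¹) := by
  intro x hx
  have h1 : (t * γ * t⁻¹) * x * (t * γ * t⁻¹)⁻¹ = t * (γ * (t⁻¹ * x * t⁻¹⁻¹) * γ⁻¹) * t⁻¹ := by group
  rw [h1]
  exact conj_mem_ind ht (h _ (conj_mem_ind (isRP_inv ht) hx))

theorem normAut_conj_iff {θ : MulAut (PG K)} {t γ : MulAut Q} (ht : IsRP θ t) :
    NormAut (⊤ : Subgroup (PG K)) (t * γ * t⁻¹) ↔ NormAut (⊤ : Subgroup (PG K)) γ := by
  refine ⟨fun h => ?_, normAut_conj ht⟩
  have h1 := normAut_conj (isRP_inv ht) h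
  have h2 : t⁻¹ * (t * γ * t⁻¹) * t⁻¹⁻¹ = γ := by group
  rwa [h2] at h1

theorem parP_conj {Γ : Subgroup (MulAut Q)} {D : Subgroup (MulAut (PG K))} (h : ParP p Q Γ D) {θ : MulAut (PG K)}
    {t : MulAut Q} (ht : IsRP θ t) (hc : ∀ d ∈ D, θ * d = d * θ) : ParP p Q (Γ.map (MulAut.conj t).toMonoidHom) D := by
  have hmem : ∀ γ, γ ∈ Γ.map (MulAut.conj t).toMonoidHom ↔ t⁻¹ * γ * t ∈ Γ := by
    intro γ
    constructor
    · rintro ⟨δ, hδ, rfl⟩
      have h2 : t⁻¹ * ((MulAut.conj t).toMonoidHom δ) * t = δ := by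
        show t⁻¹ * (t * δ * t⁻¹) * t = δ
        group
      rwa [h2]
    · intro hγ
      refine ⟨_, hγ, ?_⟩
      show t * (t⁻¹ * γ * t) * t⁻¹ = γ
      group
  refine ⟨?_, ?_, ?_, ?_, h.D_le, h.D_cop, ?_, ?_⟩
  · intro x hx
    rw [hmem]
    have h1 := h.indu (conj_mem_ind (isRP_inv ht) hx)
    rwa [inv_inv] at h1
  · intro P hP hPp
    obtain ⟨g, hg, hgP⟩ := h.syl (P.map (MulAut.conj t⁻¹).toMonoidHom) (by
      rintro _ ⟨x, hx, rfl⟩
      have h1 := (hmem x).1 (hP hx)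
      show t⁻¹ * x * t⁻¹⁻¹ ∈ Γ
      rwa [inv_inv]) (hPp.map _)
    refine ⟨t * g * t⁻¹, (hmem _).2 (by
      have h2 : t⁻¹ * (t * g * t⁻¹) * t = g := by group
      rwa [h2]), fun x hx => ?_⟩
    have h1 := hgP _ ⟨x, hx, rfl⟩
    have h2 : t * g * t⁻¹ * x * (t * g * t⁻¹)⁻¹ = t * (g * (t⁻¹ * x * t⁻¹⁻¹) * g⁻¹) * t⁻¹ := by group
    rw [h2]
    exact conj_mem_ind ht h1
  · intro γ hγ x hx hxI hγx
    have h1 := h.ti _ ((hmem γ).1 hγ) (t⁻¹ * x * t) (by
      have := conj_mem_ind (isRP_inv ht) hx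
      rwa [inv_inv] at this) (fun h2 => hxI (by
        have h3 : (Inn Q).Normal := inferInstance
        have h4 := h3.conj_mem _ h2 t
        have h5 : t * (t⁻¹ * x * t) * t⁻¹ = x := by group
        rwa [h5] at h4)) (by
      have h2 : t⁻¹ * γ * t * (t⁻¹ * x * t) * (t⁻¹ * γ * t)⁻¹ = t⁻¹ * (γ * x * γ⁻¹) * t⁻¹⁻¹ := by group
      rw [h2]
      exact conj_mem_ind (isRP_inv ht) hγx)
    have h2 := normAut_conj ht h1
    have h3 : t * (t⁻¹ * γ * t) * t⁻¹ = γ := by group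
    rwa [h3] at h2
  · intro hall
    apply h.nn
    intro γ hγ
    rw [← normAut_conj_iff ht]
    exact hall _ ((hmem _).2 (by
      have h2 : t⁻¹ * (t * γ * t⁻¹) * t = γ := by group
      rwa [h2]))
  · intro d hd γ hγ
    rw [hmem]
    have h1 : t⁻¹ * γ * t = γ := by
      have h2 : IsRP (θ⁻¹ * d * θ) (t⁻¹ * γ * t) := isRP_mul (isRP_mul (isRP_inv ht) hγ) ht
      have h3 : θ⁻¹ * d * θ = d := by
        rw [mul_assoc, ← hc d hd, inv_mul_cancel_left]
      rw [h3] at h2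
      exact isRP_unique h2 hγ
    rw [h1]
    exact h.D_res d hd γ hγ
  · intro γ hγ hn
    obtain ⟨x, d, hd, hxd⟩ := h.norm _ ((hmem γ).1 hγ) (by
      have := normAut_conj (isRP_inv ht) hn
      rwa [inv_inv] at this)
    refine ⟨θ x, d, hd, fun e => ?_⟩
    have h1 := hxd (t⁻¹ e)
    rw [MulAut.mul_apply, MulAut.mul_apply, MulAut.apply_inv_self] at h1
    have h2 : ((γ e : Q) : PG K) = θ ((t⁻¹ (γ e) : Q) : PG K) := by
      have h3 := isRP_inv ht (γ e)
      rw [h3, MulAut.apply_inv_self]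
    rw [h2, h1, map_mul, map_mul, map_inv]
    congr 2
    have h4 : θ (d ((t⁻¹ e : Q) : PG K)) = (θ * d) ((t⁻¹ e : Q) : PG K) := rfl
    rw [h4, hc d hd, MulAut.mul_apply, isRP_inv ht e, MulAut.apply_inv_self]

end twist

section main

variable {K : Type u} [Field K] [StarRing K] {p n : ℕ} {ι : K}

theorem exists_resQ {κ : K} {ε : MulAut (PG K)} (h : IsEp κ ε) : ∃ t : MulAut (PQ K), IsRP ε t := by
  apply exists_res
  ext x
  constructor
  · rintro ⟨y, hy, rfl⟩
    show (ε y).c = 0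
    rw [h.c]
    exact hy
  · intro hx
    refine ⟨ε⁻¹ x, ?_, MulAut.apply_inv_self _ _ _⟩
    show (ε⁻¹ x).c = 0
    rw [(H987.P4.Ep.inv h).c]
    exact hx

/-- the order of `Γ` in all cases -/
theorem card_par (hG : StGrp.{u}) (hA : StThreeA.{u}) (hD : StThreeD.{u}) (hN : StThreeN.{u})
    (hK : HypK K p n) (hq : p ^ n = 3) (hι : ι * ι = -1) {Γ : Subgroup (MulAut (PQ K))} {D : Subgroup (MulAut (PG K))}
    (hP : ParP p (PQ K) Γ D) (hT : HasTorP D (fun t => t ^ 2) (fun t => (t * star t)⁻¹)) :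
    ∃ (κ : K) (T : Fin 6), Pt Γ = {x | ∃ y ∈ Cfg ι T, x = κ + y} ∧ InvK D (Cfg ι T) ∧
      (∀ (α : MulAut (PG K)) (s l : K) (τ : K ≃+* K), IsTorP α s l τ → CfgMap ι T (actK s l τ) → α ∈ D) ∧
      (T = 0 → Nat.card Γ = 81 * 12 * Nat.card D) ∧
      (T = 1 ∨ T = 2 → Nat.card Γ = 81 * 48 * Nat.card D) ∧
      (T = 3 ∨ T = 4 → Nat.card Γ = 81 * 30 * Nat.card D) ∧
      (T = 5 → Nat.card Γ = 81 * 120 * Nat.card D) := by
  obtain ⟨κ, T, hfix, hPt, hinv, hmap, -, -⟩ := hD hK hq ι hι Γ D hP hT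
  obtain ⟨ε, hε⟩ := (hG hK).2.2.2.2.2.1 (three_of hK hq) (-κ)
  obtain ⟨t, ht⟩ := exists_resQ hε
  have hcomm : ∀ d ∈ D, ε * d = d * ε := by
    intro d hd
    obtain ⟨s, l, τ, hd'⟩ := (hG hK).2.2.2.1 d (hP.D_le hd)
    have h1 := H987.P4.Ep.tor hd' hε
    have h2 : actK s l τ (-κ) = -κ := by
      have h3 := hfix d hd s l τ hd'
      rw [actK] at h3 ⊢
      rw [map_neg, mul_neg, h3]
    rw [h2] at h1
    have h3 := H987.P4.Ep.uniq h1 hε
    exact (mul_inv_eq_iff_eq_mul.1 h3).symm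
  have hP' := parP_conj hP ht hcomm
  have hPt' : Pt (Γ.map (MulAut.conj t).toMonoidHom) = Cfg ι T := by
    rw [((H987.P4.stEp hK hq).2.2.2.1) (-κ) ε t Γ hε ht hP.indu, hPt]
    ext x
    constructor
    · rintro ⟨_, ⟨y, hy, rfl⟩, rfl⟩
      rwa [neg_add_cancel_left]
    · intro hx
      exact ⟨_, ⟨x, hx, rfl⟩, (neg_add_cancel_left _ _).symm⟩
  have heq' := (hA hK hq _ D hP' hT).2.2
  have hnum := hN hK hq ι hι _ D hP' hT T hPt' heq'
  rw [card_map_conj] at hnum
  exact ⟨κ, T, hPt, hinv, hmap, hnum⟩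

theorem cfg_diff (h : Nine K ι) {T : Fin 6} {κ x v : K} (hv : v ≠ 0)
    (h1 : x ∈ {x | ∃ y ∈ Cfg ι T, x = κ + y}) (h2 : x + v ∈ {x | ∃ y ∈ Cfg ι T, x = κ + y}) :
    T ≠ 0 ∧ (v ^ 4 = 1 → T ≠ 3 ∧ T ≠ 4) ∧ (v ^ 4 = -1 → T ≠ 1 ∧ T ≠ 2) := by
  obtain ⟨y, hy, rfl⟩ := h1
  obtain ⟨z, hz, hyz⟩ := h2
  have hvz : v = z - y := by linear_combination hyz
  have h3 := h.three
  have hii := h.ii
  have hne : (1 : K) ≠ -1 := by
    intro h0
    have h4 : (2 : K) = 0 := by linear_combination h0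
    have : (1 : K) = 0 := by linear_combination h3 - h4
    exact one_ne_zero this
  refine ⟨?_, ?_, ?_⟩
  · rintro rfl
    have e1 : y = 0 := hy
    have e2 : z = 0 := hz
    apply hv
    rw [hvz, e1, e2, sub_self]
  · intro hv4
    have key : ∀ w : K, (w = 1 + ι ∨ w = 1 - ι) → (y = w ∨ y = -w) → (z = w ∨ z = -w) → False := by
      intro w hw hy hz
      have hw4 : w ^ 4 = -1 := by
        rcases hw with rfl | rfl
        · linear_combination (ι ^ 2 + 4 * ι + 5) * hii - h3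
        · linear_combination (ι ^ 2 - 4 * ι + 5) * hii - h3
      have hzy : v ^ 4 = 0 ∨ v ^ 4 = -1 := by
        rcases hy with rfl | rfl <;> rcases hz with rfl | rfl
        · left; rw [hvz, sub_self]; ring
        · right; rw [hvz]; linear_combination 16 * hw4 - 5 * h3
        · right; rw [hvz]; linear_combination 16 * hw4 - 5 * h3
        · left; rw [hvz, sub_self]; ring
      rcases hzy with h4 | h4
      · rw [hv4] at h4; exact one_ne_zero h4
      · rw [hv4] at h4; exact hne h4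
    constructor
    · rintro rfl
      exact key (1 + ι) (Or.inl rfl) hy hz
    · rintro rfl
      exact key (1 - ι) (Or.inr rfl) hy hz
  · intro hv4
    have key : ∀ w : K, w ^ 4 = 1 → (y = 0 ∨ y = w ∨ y = -w) → (z = 0 ∨ z = w ∨ z = -w) → False := by
      intro w hw4 hy hz
      have hzy : v ^ 4 = 0 ∨ v ^ 4 = 1 := by
        rcases hy with rfl | rfl | rfl <;> rcases hz with rfl | rfl | rfl
        · left; rw [hvz, sub_self]; ring
        · right; rw [hvz]; linear_combination hw4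
        · right; rw [hvz]; linear_combination hw4
        · right; rw [hvz]; linear_combination hw4
        · left; rw [hvz, sub_self]; ring
        · right; rw [hvz]; linear_combination 16 * hw4 + 5 * h3
        · right; rw [hvz]; linear_combination hw4
        · right; rw [hvz]; linear_combination 16 * hw4 + 5 * h3
        · left; rw [hvz, sub_self]; ring
      rcases hzy with h4 | h4
      · rw [hv4] at h4; exact one_ne_zero (neg_eq_zero.1 h4)
      · rw [hv4] at h4; exact hne h4.symm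
    constructor
    · rintro rfl
      exact key 1 (one_pow 4) hy hz
    · rintro rfl
      exact key ι (by linear_combination (ι ^ 2 - 1) * hii) hy hz

/-- the Weyl elements `W_κ` do not normalize -/
theorem nn_wk (hK : HypK K p n) {κ : K} {γ : MulAut (PQ K)} (h : IsWk κ γ) : ¬ NormAut (⊤ : Subgroup (PG K)) γ := by
  obtain ⟨ε, m, t, hε, hm, ht, rfl⟩ := h
  rw [normAut_conj_iff ht]
  exact H815.P4.nn_wq hm

theorem fin6 : ∀ T : Fin 6, T = 0 ∨ T = 1 ∨ T = 2 ∨ T = 3 ∨ T = 4 ∨ T = 5 := by decide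

/-- the end -/
theorem end_card (H : Pcs.{u}) (hA : StThreeA.{u}) (hD : StThreeD.{u}) (hN : StThreeN.{u}) (hT3 : StThreeT.{u})
    [Fact p.Prime] (hK : HypK K p n) (hq : p ^ n = 3) (hι : ι * ι = -1) {F : FusionSystem (⊤ : Subgroup (PG K))}
    (hF : F.IsSaturated p) (hwV : ∃ γ ∈ F.autGroup (PV K), IsWV γ) {κ v : K} (hv : v ≠ 0)
    (h1 : κ ∈ Pt (F.autGroup (PQ K))) (h2 : κ + v ∈ Pt (F.autGroup (PQ K))) {d : ℕ}
    (hlow : d ≤ Nat.card (AF F ⊓ TP K : Subgroup (MulAut (PG K)))) (hup : Nat.card (AF F) ≤ 243 * d) :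
    Nat.card (AF F) = 243 * d ∧ (¬ ∀ γ ∈ F.autGroup (PV K), NormAut (⊤ : Subgroup (PG K)) γ) ∧
    (¬ ∀ γ ∈ F.autGroup (PQ K), NormAut (⊤ : Subgroup (PG K)) γ) ∧
    (d = 32 → Nat.card (F.autGroup (PQ K)) = 81 * 3840) ∧
    (d ≠ 32 → v ^ 4 = 1 → Nat.card (F.autGroup (PQ K)) = 81 * (48 * d)) ∧
    (d ≠ 32 → v ^ 4 = -1 → Nat.card (F.autGroup (PQ K)) = 81 * (30 * d)) := by
  have h9 := nine_of hK hq hι
  have hp3 := three_of hK hq
  have hfin : Finite (PG K) := H815.P4.finite_PG hK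
  have hfinA : Finite (MulAut (PG K)) := H815.P4.finite_aut hK
  have hS : IsPGroup p (⊤ : Subgroup (PG K)) := (H.grp hK).2.1
  have hq2 : 2 < p ^ n := by rw [hq]; norm_num
  have hess : ∀ E, F.IsEssential p E → E = PV K ∨ E = PQ K := fun E hE => ess_cases H hK hq2 hF hE
  have hnV : ¬ ∀ γ ∈ F.autGroup (PV K), NormAut (⊤ : Subgroup (PG K)) γ := by
    obtain ⟨γ, hγ, hw⟩ := hwV
    exact fun h => H815.P4.nn_wv hw (h γ hγ)
  have hnQ : ¬ ∀ γ ∈ F.autGroup (PQ K), NormAut (⊤ : Subgroup (PG K)) γ := by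
    obtain ⟨γ, hγ, hw⟩ := h1
    exact fun h => nn_wk hK hw (h γ hγ)
  -- the complement
  have hDc : (Nat.card (AF F ⊓ TP K : Subgroup (MulAut (PG K)))).Coprime 3 := by
    have e1 : Nat.card (AF F ⊓ TP K : Subgroup (MulAut (PG K))) ∣ 32 := by
      rw [← H815.P4.card_TP H.grp hK hq]
      exact Subgroup.card_dvd_of_le inf_le_right
    exact Nat.Coprime.coprime_dvd_left e1 (by norm_num)
  have hinn : (MulAut.conj : PG K →* MulAut (PG K)).range ≤ AF F := by
    obtain ⟨D0, -, hD0⟩ := H.compl F hS hF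
    rw [← hD0]
    exact le_sup_left
  have hle : (MulAut.conj : PG K →* MulAut (PG K)).range ⊔ (AF F ⊓ TP K) ≤ AF F := sup_le hinn inf_le_left
  have hcs := H815.P4.card_innD hK hq hDc
  have hAF : AF F = (MulAut.conj : PG K →* MulAut (PG K)).range ⊔ (AF F ⊓ TP K) := by
    refine (Subgroup.eq_of_le_of_card_ge hle ?_).symm
    rw [hcs]
    exact hup.trans (Nat.mul_le_mul_left _ hlow)
  have hcA : Nat.card (AF F) = 243 * Nat.card (AF F ⊓ TP K : Subgroup (MulAut (PG K))) := by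
    rw [← hcs, ← hAF]
  have hcd : Nat.card (AF F ⊓ TP K : Subgroup (MulAut (PG K))) = d := by
    have := Subgroup.card_le_of_le hle
    omega
  have hDc' : (Nat.card (AF F ⊓ TP K : Subgroup (MulAut (PG K)))).Coprime p := by rw [hp3]; exact hDc
  have hPV := par_of H hK hF hess inf_le_right hDc' hAF (Or.inl rfl) hnV
  have hPQ := par_of H hK hF hess inf_le_right hDc' hAF (Or.inr rfl) hnQ
  have hTor := (H.v hK _ _ hPV).1
  obtain ⟨κ0, T, hPt, hinv, hmap, n0, n1, n2, n3⟩ := card_par H.grp hA hD hN hK hq hι hPQ hTor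
  rw [hPt] at h1 h2
  obtain ⟨c1, c2, c3⟩ := cfg_diff h9 hv h1 h2
  obtain ⟨t1, t2, -⟩ := (hT3 hK hq ι hι).2.2.2 T (AF F ⊓ TP K) inf_le_right hTor hinv hmap
  rw [hcd] at n0 n1 n2 n3 t1 t2
  refine ⟨by rw [hcA, hcd], hnV, hnQ, ?_, ?_, ?_⟩
  · intro hd32
    have h6 : ¬ (T = 1 ∨ T = 2 ∨ T = 3 ∨ T = 4) := by
      intro h
      rcases t1 h with h' | h' <;> omega
    rcases fin6 T with h | h | h | h | h | h
    · exact absurd h c1
    · exact absurd (Or.inl h) h6
    · exact absurd (Or.inr (Or.inl h)) h6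
    · exact absurd (Or.inr (Or.inr (Or.inl h))) h6
    · exact absurd (Or.inr (Or.inr (Or.inr h))) h6
    · rw [n3 h, hd32]
  · intro hd32 hv4
    obtain ⟨e1, e2⟩ := c2 hv4
    rcases fin6 T with h | h | h | h | h | h
    · exact absurd h c1
    · rw [n1 (Or.inl h), mul_assoc]
    · rw [n1 (Or.inr h), mul_assoc]
    · exact absurd h e1
    · exact absurd h e2
    · exact absurd (t2 h) hd32
  · intro hd32 hv4
    obtain ⟨e1, e2⟩ := c3 hv4
    rcases fin6 T with h | h | h | h | h | h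
    · exact absurd h c1
    · exact absurd h e1
    · exact absurd h e2
    · rw [n2 (Or.inl h), mul_assoc]
    · rw [n2 (Or.inr h), mul_assoc]
    · exact absurd (t2 h) hd32

/-! ### lower bounds -/

theorem card_double {G : Type*} [Group G] [Finite G] {X D : Subgroup G} (h : X ≤ D) {x : G} (hx : x ∈ D)
    (hx' : x ∉ X) : 2 * Nat.card X ≤ Nat.card D := by
  obtain ⟨k, hk⟩ := Subgroup.card_dvd_of_le h
  have h0 : 0 < Nat.card D := Nat.card_pos
  have hk0 : k ≠ 0 := by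
    rintro rfl
    omega
  have hk1 : k ≠ 1 := by
    rintro rfl
    apply hx'
    rw [Subgroup.eq_of_le_of_card_ge h (by omega)]
    exact hx
  rw [hk, mul_comm 2]
  exact Nat.mul_le_mul_left _ (by omega)

theorem tor_ext {α β : MulAut (PG K)} {s l : K} {τ : K ≃+* K} (h1 : IsTorP α s l τ) (h2 : IsTorP β s l τ) :
    α = β := H815.P4.IsTorP.ext' h1 h2 fun _ => rfl

theorem tor_mul {α β : MulAut (PG K)} {s l s' l' : K} {τ τ' : K ≃+* K} (h1 : IsTorP α s l τ)
    (h2 : IsTorP β s' l' τ') : IsTorP (α * β) (s * τ s') (l * τ l') (τ'.trans τ) where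
  ns := mul_ne_zero h1.ns (by simpa using h2.ns)
  nl := mul_ne_zero h1.nl (by simpa using h2.nl)
  sl := by rw [star_mul', h1.sl, ← h1.tst, h2.sl]
  tst x := by
    show τ (τ' (star x)) = star (τ (τ' x))
    rw [h2.tst, h1.tst]
  r g := by
    show (α (β g)).r = _
    rw [h1.r, h2.r, map_mul, mul_assoc]
    rfl
  a g := by
    show (α (β g)).a = _
    rw [h1.a, h2.a, map_mul, map_mul, map_mul, h1.tst, star_mul']
    show _ = _ * τ (τ' g.a)
    ring
  b g := by
    show (α (β g)).b = _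
    rw [h1.b, h2.b, map_mul, map_mul]
    show _ = _ * τ (τ' g.b)
    ring
  c g := by
    show (α (β g)).c = _
    rw [h1.c, h2.c, map_mul, mul_assoc]
    rfl

theorem tor_mul_refl {α β : MulAut (PG K)} {s l s' l' : K} (h1 : IsTorP α s l (RingEquiv.refl K))
    (h2 : IsTorP β s' l' (RingEquiv.refl K)) : IsTorP (α * β) (s * s') (l * l') (RingEquiv.refl K) := tor_mul h1 h2

theorem tor_one : IsTorP (1 : MulAut (PG K)) 1 1 (RingEquiv.refl K) where
  ns := one_ne_zero
  nl := one_ne_zero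
  sl := star_one K
  tst x := rfl
  r g := by simp
  a g := by simp
  b g := by simp
  c g := by simp

theorem tor_inv_refl {d : MulAut (PG K)} {s l : K} (h : IsTorP d s l (RingEquiv.refl K)) :
    IsTorP d⁻¹ s⁻¹ l⁻¹ (RingEquiv.refl K) := H987.P4.Tor.inv h

/-- the parameters are determined by the automorphism -/
theorem tor_uniq {α : MulAut (PG K)} {s l s' l' : K} {τ τ' : K ≃+* K} (h1 : IsTorP α s l τ)
    (h2 : IsTorP α s' l' τ') : s = s' ∧ l = l' ∧ ∀ x, τ x = τ' x := by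
  have hr : ∀ x : K, s * τ x = s' * τ' x := by
    intro x
    have := h1.r ⟨x, 0, 0, 0, by simp, by simp⟩
    rw [h2.r] at this
    exact this.symm
  have hs : s = s' := by simpa using hr 1
  subst hs
  refine ⟨rfl, ?_, fun x => mul_left_cancel₀ h1.ns (hr x)⟩
  have := h1.c ⟨0, 0, 0, 1, by simp, by simp⟩
  rw [h2.c] at this
  simpa using this.symm

variable (K) in
/-- the linear elements of the torus -/
def LinT : Subgroup (MulAut (PG K)) where
  carrier := {α | ∃ s l, IsTorP α s l (RingEquiv.refl K)}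
  one_mem' := ⟨1, 1, tor_one⟩
  mul_mem' := by
    rintro α β ⟨s, l, h⟩ ⟨s', l', h'⟩
    exact ⟨_, _, tor_mul_refl h h'⟩
  inv_mem' := by
    rintro α ⟨s, l, h⟩
    exact ⟨_, _, tor_inv_refl h⟩

variable (K) in
/-- the subgroup `l = s²` -/
def SqT : Subgroup (MulAut (PG K)) where
  carrier := {α | ∃ s, IsTorP α s (s * s) (RingEquiv.refl K)}
  one_mem' := ⟨1, by rw [mul_one]; exact tor_one⟩
  mul_mem' := by
    rintro α β ⟨s, h⟩ ⟨s', h'⟩
    refine ⟨s * s', ?_⟩
    have := tor_mul_refl h h'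
    rwa [show s * s * (s' * s') = s * s' * (s * s') by ring] at this
  inv_mem' := by
    rintro α ⟨s, h⟩
    refine ⟨s⁻¹, ?_⟩
    have := tor_inv_refl h
    rwa [mul_inv] at this

theorem one_ne_neg (h : Nine K ι) : (1 : K) ≠ -1 := by
  intro h0
  have h3 := h.three
  have h4 : (2 : K) = 0 := by linear_combination h0
  have : (1 : K) = 0 := by linear_combination h3 - h4
  exact one_ne_zero this

theorem zeta_order (h : Nine K ι) {ζ : MulAut (PG K)} (hζ : IsTorP ζ ι (-1) (RingEquiv.refl K)) :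
    Nat.card (Subgroup.zpowers ζ) = 4 := by
  have e2 : IsTorP (ζ ^ 2) (-1) 1 (RingEquiv.refl K) := by
    have := tor_mul_refl hζ hζ
    rwa [h.ii, show (-1 : K) * -1 = 1 by ring, ← pow_two] at this
  have e4 : IsTorP (ζ ^ 4) 1 1 (RingEquiv.refl K) := by
    have := tor_mul_refl e2 e2
    rwa [show (-1 : K) * -1 = 1 by ring, one_mul, ← pow_add] at this
  rw [Nat.card_zpowers]
  refine orderOf_eq_prime_pow (p := 2) (n := 1) ?_ ?_
  · intro h1
    rw [pow_one] at h1
    rw [h1] at e2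
    exact one_ne_neg h (tor_uniq tor_one e2).1
  · exact tor_ext e4 tor_one

variable {D : Subgroup (MulAut (PG K))}

theorem zpow_le_lin {ζ : MulAut (PG K)} (hζ : IsTorP ζ ι (-1) (RingEquiv.refl K)) (h1 : ζ ∈ D) :
    Subgroup.zpowers ζ ≤ D ⊓ LinT K :=
  (Subgroup.zpowers_le).2 ⟨h1, ι, -1, hζ⟩

theorem low_eight (hK : HypK K p n) (h : Nine K ι) {ζ ρ : MulAut (PG K)}
    (hζ : IsTorP ζ ι (-1) (RingEquiv.refl K)) (h1 : ζ ∈ D) {s0 l0 : K} {τ : K ≃+* K} (hρ : IsTorP ρ s0 l0 τ)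
    (hτ : ∀ x, τ x = star x) (h2 : ρ ∈ D) : 8 ≤ Nat.card D := by
  have hfinA : Finite (MulAut (PG K)) := H815.P4.finite_aut hK
  have e1 := Subgroup.card_le_of_le (zpow_le_lin hζ h1)
  rw [zeta_order h hζ] at e1
  have e2 := card_double (inf_le_left : D ⊓ LinT K ≤ D) h2 (by
    rintro ⟨-, s, l, hs⟩
    have e3 := (tor_uniq hρ hs).2.2 ι
    rw [hτ, h.st_ι] at e3
    have e4 : -ι = ι := e3
    have e5 : (2 : K) * ι = 0 := by linear_combination -e4
    rcases mul_eq_zero.1 e5 with e6 | e6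
    · have h3 := h.three
      have : (1 : K) = 0 := by linear_combination h3 - e6
      exact one_ne_zero this
    · exact h.ι_ne e6)
  omega

theorem low_sixteen (hK : HypK K p n) (h : Nine K ι) {ζ ρ z : MulAut (PG K)}
    (hζ : IsTorP ζ ι (-1) (RingEquiv.refl K)) (h1 : ζ ∈ D) {s0 l0 : K} {τ : K ≃+* K} (hρ : IsTorP ρ s0 l0 τ)
    (hτ : ∀ x, τ x = star x) (h2 : ρ ∈ D) (hz : IsTorP z 1 (-1) (RingEquiv.refl K)) (h3 : z ∈ D) :
    16 ≤ Nat.card D := by
  have hfinA : Finite (MulAut (PG K)) := H815.P4.finite_aut hK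
  have e1 := card_double (zpow_le_lin hζ h1) (x := z) ⟨h3, 1, -1, hz⟩ (by
    intro hzz
    have e3 : Subgroup.zpowers ζ ≤ SqT K := (Subgroup.zpowers_le).2 ⟨ι, by rw [h.ii]; exact hζ⟩
    obtain ⟨s, hs⟩ := e3 hzz
    obtain ⟨e4, e5, -⟩ := tor_uniq hz hs
    rw [← e4, mul_one] at e5
    exact one_ne_neg h e5.symm)
  rw [zeta_order h hζ] at e1
  have e2 := card_double (inf_le_left : D ⊓ LinT K ≤ D) h2 (by
    rintro ⟨-, s, l, hs⟩
    have e3 := (tor_uniq hρ hs).2.2 ι
    rw [hτ, h.st_ι] at e3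
    have e4 : -ι = ι := e3
    have e5 : (2 : K) * ι = 0 := by linear_combination -e4
    rcases mul_eq_zero.1 e5 with e6 | e6
    · have h3 := h.three
      have : (1 : K) = 0 := by linear_combination h3 - e6
      exact one_ne_zero this
    · exact h.ι_ne e6)
  omega

/-! ### upper bounds -/

/-- the group theory of `TP K` -/
theorem card_le_eight (hG : StGrp.{u}) (hK : HypK K p n) (hq : p ^ n = 3) (h : Nine K ι) (hD : D ≤ TP K)
    (hT : HasTorP D (fun t => t ^ 2) (fun t => (t * star t)⁻¹))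
    (hz : ∀ z, IsTorP z 1 (-1) (RingEquiv.refl K) → z ∉ D) : Nat.card D ≤ 8 := by
  have hfinA : Finite (MulAut (PG K)) := H815.P4.finite_aut hK
  by_contra hcon
  have hdvd : Nat.card D ∣ 32 := by
    rw [← H815.P4.card_TP hG hK hq]
    exact Subgroup.card_dvd_of_le hD
  have hex := (hG hK).2.2.1
  have h3 := h.three
  have hii := h.ii
  have hst : star (1 + ι) = 1 - ι := by rw [star_add, star_one, h.st_ι]; ring
  have hprod : (1 + ι) * (1 - ι) = -1 := by linear_combination h3 - hii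
  have hne : (1 + ι) ≠ 0 := by
    intro h0
    rw [h0, zero_mul] at hprod
    exact one_ne_zero (neg_eq_zero.1 hprod.symm)
  obtain ⟨β, hβ⟩ := hex (1 + ι) 1 (RingEquiv.refl K) hne one_ne_zero (star_one K)
  obtain ⟨z, hz'⟩ := hex 1 (-1) (RingEquiv.refl K) one_ne_zero (neg_ne_zero.2 one_ne_zero) (by simp)
  have hβT : β ∈ TP K := Subgroup.subset_closure ⟨_, _, _, hβ⟩
  have hβ2 : β ^ 2 ∈ D := by
    have e1 := Subgroup.card_mul_index (D.subgroupOf (TP K))
    rw [Nat.card_congr (Subgroup.subgroupOfEquivOfLe hD).toEquiv, H815.P4.card_TP hG hK hq] at e1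
    have e2 : (D.subgroupOf (TP K)).index = 1 ∨ (D.subgroupOf (TP K)).index = 2 := by
      generalize (D.subgroupOf (TP K)).index = m at e1
      generalize Nat.card D = k at e1 hcon hdvd
      have hk : k ≤ 32 := Nat.le_of_dvd (by norm_num) hdvd
      have hm : m ≤ 3 := by
        by_contra hm
        have : 9 * 4 ≤ k * m := Nat.mul_le_mul (by omega) (by omega)
        omega
      interval_cases m <;> omega
    rcases e2 with e2 | e2
    · have e3 : D.subgroupOf (TP K) = ⊤ := Subgroup.index_eq_one.1 e2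
      exact (Subgroup.mem_subgroupOf.1 (e3 ▸ Subgroup.mem_top (⟨β ^ 2, Subgroup.pow_mem _ hβT 2⟩ : TP K)))
    · exact Subgroup.mem_subgroupOf.1 (Subgroup.sq_mem_of_index_two e2 ⟨β, hβT⟩)
  have hβ2' : IsTorP (β ^ 2) ((1 + ι) ^ 2) 1 (RingEquiv.refl K) := by
    have := tor_mul_refl hβ hβ
    rwa [← pow_two, ← pow_two, one_mul] at this
  have hzβ : z * β ^ 2 ∈ D := by
    apply hT (1 + ι) hne
    have e1 := tor_mul_refl hz' hβ2'
    have e2 : ((1 + ι) * star (1 + ι))⁻¹ = -1 := by rw [hst, hprod]; norm_num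
    show IsTorP _ ((1 + ι) ^ 2) (((1 + ι) * star (1 + ι))⁻¹) _
    rw [e2]
    rwa [one_mul, mul_one] at e1
  exact hz z hz' ((Subgroup.mul_mem_cancel_right D hβ2).1 hzβ)

/-- an automorphism which inverts `V` and is trivial on `S/V` -/
theorem card_AF_le_eight (H : Pcs.{u}) [Fact p.Prime] (hK : HypK K p n) (hq : p ^ n = 3) (hι : ι * ι = -1)
    {F : FusionSystem (⊤ : Subgroup (PG K))} (hF : F.IsSaturated p)
    (hnV : ¬ ∀ γ ∈ F.autGroup (PV K), NormAut (⊤ : Subgroup (PG K)) γ)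
    (hnQ : ¬ ∀ γ ∈ F.autGroup (PQ K), NormAut (⊤ : Subgroup (PG K)) γ)
    (hN : ∀ α ∈ AF F, (∀ x ∈ PV K, α x = x⁻¹) → (∀ x, (α x).r = x.r) → False) : Nat.card (AF F) ≤ 243 * 8 := by
  have h9 := nine_of hK hq hι
  have hp3 := three_of hK hq
  have hq2 : 2 < p ^ n := by rw [hq]; norm_num
  have hess : ∀ E, F.IsEssential p E → E = PV K ∨ E = PQ K := fun E hE => ess_cases H hK hq2 hF hE
  obtain ⟨θ, F', D, hTw, hNF⟩ := exists_NF H hK hF hess hnV hnQ
  have hDT : D ≤ TP K := hNF.parQ.D_le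
  have hDc : (Nat.card D).Coprime 3 := by
    have := hNF.parQ.D_cop
    rwa [hp3] at this
  have hc : Nat.card (AF F) = 243 * Nat.card D := by
    rw [← H815.P4.card_innD hK hq hDc, ← hNF.AF_eq, hTw.AF_eq, card_map_conj]
  rw [hc]
  apply Nat.mul_le_mul_left
  refine card_le_eight H.grp hK hq h9 hDT hNF.tor ?_
  intro z hz hzD
  have hV : (PV K).map θ.toMonoidHom = PV K := ((H.ti hK).2 _ (Or.inl rfl)).2.2 θ
  have hVm : ∀ x, θ x ∈ PV K ↔ x ∈ PV K := by
    intro x
    constructor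
    · intro hx
      rw [← hV] at hx
      obtain ⟨y, hy, hyx⟩ := hx
      rwa [← θ.injective hyx]
    · intro hx
      rw [← hV]
      exact ⟨x, hx, rfl⟩
  have hzA : z ∈ AF F' := by
    rw [hNF.AF_eq]
    exact Subgroup.mem_sup_right hzD
  rw [hTw.AF_eq] at hzA
  obtain ⟨α, hα, hαz⟩ := hzA
  have key : ∀ x, θ (α x) = z (θ x) := by
    intro x
    have e1 : z = θ * α * θ⁻¹ := hαz.symm
    rw [e1, MulAut.mul_apply, MulAut.mul_apply, MulAut.inv_apply_self]
  refine hN α hα ?_ ?_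
  · intro x hx
    apply θ.injective
    rw [key, map_inv]
    have hx' : (θ x).r = 0 := (hVm x).2 hx
    apply PG.ext
    · rw [hz.r, PG.inv_r, hx', map_zero, mul_zero, neg_zero]
    · rw [hz.a, PG.inv_a, hx']
      simp only [_root_.star_one, _root_.mul_one, _root_.mul_neg, _root_.RingEquiv.refl_apply, _root_.neg_mul, _root_.one_mul, _root_.MulZeroClass.zero_mul, _root_.add_zero, _root_.star_zero, _root_.MulZeroClass.mul_zero, _root_.sub_zero]
    · rw [hz.b, PG.inv_b, hx']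
      simp
    · rw [hz.c, PG.inv_c]
      simp
  · intro x
    have e1 : θ (x⁻¹ * α x) ∈ PV K := by
      show (θ (x⁻¹ * α x)).r = 0
      rw [map_mul, key, map_inv, PG.mul_r, PG.inv_r, hz.r]
      simp
    have e2 : (x⁻¹ * α x).r = 0 := (hVm _).1 e1
    rw [PG.mul_r, PG.inv_r] at e2
    linear_combination e2

end main

/-- automizers in a group and in a subgroup of index two -/
theorem card_le_two_mul {P G : Type*} [Group P] [Group G] [Finite (MulAut P)] (φ : P →* G) (G1 : Subgroup G)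
    (h2 : G1.index = 2) {A1 A2 : Subgroup (MulAut P)} (hA1 : ∀ α, α ∈ A1 ↔ ∃ g ∈ G1, ∀ x, φ (α x) = g * φ x * g⁻¹)
    (hA2 : ∀ α, α ∈ A2 ↔ ∃ g, ∀ x, φ (α x) = g * φ x * g⁻¹) : Nat.card A2 ≤ 2 * Nat.card A1 := by
  have hle : A1 ≤ A2 := by
    intro α hα
    obtain ⟨g, -, hg⟩ := (hA1 α).1 hα
    exact (hA2 α).2 ⟨g, hg⟩
  have h1 := Subgroup.card_mul_index (A1.subgroupOf A2)
  rw [Nat.card_congr (Subgroup.subgroupOfEquivOfLe hle).toEquiv] at h1
  have h3 : (A1.subgroupOf A2).index ≤ 2 := by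
    by_cases hex : ∃ β ∈ A2, β ∉ A1
    · obtain ⟨β, hβ, hβ1⟩ := hex
      have : (A1.subgroupOf A2).index = 2 := by
        rw [Subgroup.index_eq_two_iff]
        refine ⟨⟨β, hβ⟩, fun α => ?_⟩
        obtain ⟨g, hg⟩ := (hA2 _).1 α.2
        obtain ⟨k, hk⟩ := (hA2 _).1 hβ
        have hmul : ∀ x, φ (((α : MulAut P) * β) x) = (g * k) * φ x * (g * k)⁻¹ := by
          intro x
          rw [MulAut.mul_apply, hg, hk]
          group
        have hkG : k ∉ G1 := fun hkG => hβ1 ((hA1 _).2 ⟨k, hkG, hk⟩)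
        rw [Subgroup.mem_subgroupOf, Subgroup.mem_subgroupOf]
        by_cases hα : (α : MulAut P) ∈ A1
        · right
          refine ⟨hα, ?_⟩
          intro hαβ
          exact hβ1 ((Subgroup.mul_mem_cancel_left A1 hα).1 hαβ)
        · left
          have hgG : g ∉ G1 := fun hgG => hα ((hA1 _).2 ⟨g, hgG, hg⟩)
          refine ⟨(hA1 _).2 ⟨g * k, ?_, hmul⟩, hα⟩
          exact (Subgroup.mul_mem_iff_of_index_two h2).2 (by (clear * - hkG hgG; itauto))
      omega
    · push_neg at hex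
      have : A1.subgroupOf A2 = ⊤ := by
        ext α
        rw [Subgroup.mem_subgroupOf]
        exact ⟨fun _ => trivial, fun _ => hex _ α.2⟩
      rw [this, Subgroup.index_top]
      omega
  rw [← h1, mul_comm]
  exact Nat.mul_le_mul_right _ h3

end Cfsg.Agent.H936.P4
end

-- part: H936/P4/Ends
section
/-!
# S5210, `q = 3` (3P): the groups `McL`, `McL:2`, `U₆(2)`, `U₆(2):2` (helper936, tasks 5294, 5295)

From the data of helper264 (`H264/U4/Grps`), the transport of helper815 (`H815/P4/Real`) and `Card`. The negative facts `Neg pC`,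
`Neg pB` (no element of the group inverts `V` and centralizes `S/V`) are hypotheses here.
-/

set_option autoImplicit false

namespace Cfsg.Agent.H936.P4

open Cfsg Cfsg.FusionSystem Cfsg.Agent.H776.P4 Cfsg.Agent.H71.P4 Cfsg.Agent.H815.P4
open Cfsg.Agent.H756.PU (HypK Ess Inv Com NormAut TIAut AF)
open Cfsg.Agent.H264.U4
open Cfsg.Agent.SporadicStructure.Co0Matrix

universe u

/-- no element of `G` inverts `V` and centralizes `S/V` -/
def Neg {G : Type} [Group G] (φ : M6 →* G) : Prop :=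
  ¬ ∃ g : G, (∀ x : M6, x.r0 = 0 → x.r1 = 0 → g * φ x * g⁻¹ = φ x⁻¹) ∧
    ∀ x : M6, ∃ y : M6, y.r0 = x.r0 ∧ y.r1 = x.r1 ∧ g * φ x * g⁻¹ = φ y

/-- the pieces used -/
structure TPc : Prop extends Pcs.{u} where
  tA : StThreeA.{u}
  tD : StThreeD.{u}
  tN : StThreeN.{u}
  tT : StThreeT.{u}

/-- the positive data -/
structure Pos {G : Type} [Group G] (φ : M6 →* G) (s0 s1 l k0 k1 m0 m1 : ZMod 3) : Prop where
  inj : Function.Injective φ
  idx : ¬ 3 ∣ φ.range.index
  ze : Rz φ (fun _ => True) (M6.tor 0 1 (-1) 1)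
  rh : Rz φ (fun _ => True) (M6.tor s0 s1 l (-1))
  wv : Rz φ (· ∈ M6.MV) M6.wv
  w1 : Rz φ (· ∈ M6.MQ) (M6.wk k0 k1)
  w2 : Rz φ (· ∈ M6.MQ) (M6.wk m0 m1)

section

variable {K : Type u} [Field K] [StarRing K] {p n : ℕ} [Fact p.Prime] {G : Type} [Group G] [Finite G] {φ : M6 →* G}
  {s0 s1 l k0 k1 m0 m1 : ZMod 3}

theorem pow_four (hK : HypK K p n) (hq : p ^ n = 3) (C : Cx K) (a b : ZMod 3) :
    (C.c a + C.c b * C.i) ^ 4 = C.c (a ^ 2 + b ^ 2) := by
  have h1 : star (C.c a + C.c b * C.i) = C.c a - C.c b * C.i := by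
    rw [star_add, star_mul', C.sc, C.sc, C.si]; ring
  have h2 : star (C.c a + C.c b * C.i) = (C.c a + C.c b * C.i) ^ 3 := by rw [hK.star_eq, hq]
  have h3 : (C.c a + C.c b * C.i) ^ 4 = (C.c a + C.c b * C.i) * (C.c a + C.c b * C.i) ^ 3 := by ring
  rw [h3, ← h2, h1, map_add, map_pow, map_pow]
  linear_combination -(C.c b) ^ 2 * C.ii

/-- the facts common to all groups -/
theorem facts (T : TPc.{u}) (hK : HypK K p n) (hq : p ^ n = 3) (C : Cx K) (hP : Pos φ s0 s1 l k0 k1 m0 m1)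
    (hs : s0 ^ 2 + s1 ^ 2 ≠ 0) (hl : l ≠ 0)
    {F : FusionSystem (⊤ : Subgroup (PG K))} (hF : Sys C φ F) :
    (∃ γ ∈ F.autGroup (PV K), IsWV γ) ∧ C.c k0 + C.c k1 * C.i ∈ Pt (F.autGroup (PQ K)) ∧
      C.c m0 + C.c m1 * C.i ∈ Pt (F.autGroup (PQ K)) ∧
      (∀ ζ, IsTorP ζ C.i (-1) (RingEquiv.refl K) → ζ ∈ AF F) ∧
      ∃ ρ s l, IsTorP ρ s l starRingAut ∧ ρ ∈ AF F := by
  have hsn : C.c s0 + C.c s1 * C.i ≠ 0 := by
    intro h0
    have h1 := pow_four hK hq C s0 s1
    rw [h0, zero_pow (by norm_num)] at h1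
    exact hs (C.c.injective (by rw [← h1, map_zero]))
  have hln : C.c l ≠ 0 := by
    intro h0
    exact hl (C.c.injective (by rw [h0, map_zero]))
  refine ⟨?_, ?_, ?_, ?_, ?_⟩
  · obtain ⟨g, hg⟩ := hP.wv
    exact hF.wv T.grp hK ⟨g, fun x h0 h1 => hg x ⟨h0, h1⟩⟩
  · exact hF.wk T.grp hK hq (C.re_mk _ _) (C.im_mk _ _) hP.w1
  · exact hF.wk T.grp hK hq (C.re_mk _ _) (C.im_mk _ _) hP.w2
  · intro ζ hζ
    obtain ⟨g, hg⟩ := hP.ze
    refine hF.tor ⟨g, fun x => hg x trivial⟩ hζ C.re_i C.im_i ?_ fun x => rfl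
    rw [C.re_neg, C.re_one]
  · obtain ⟨g, hg⟩ := hP.rh
    obtain ⟨ρ, hρ⟩ := (T.grp hK).2.2.1 (C.c s0 + C.c s1 * C.i) (C.c l) starRingAut hsn hln (C.sc l)
    exact ⟨ρ, _, _, hρ, hF.tor' ⟨g, fun x => hg x trivial⟩ hρ (C.re_mk _ _) (C.im_mk _ _) (C.re_c l) fun x => rfl⟩

theorem tor_mem_TP {α : MulAut (PG K)} {s l : K} {τ : K ≃+* K} (h : IsTorP α s l τ) : α ∈ TP K :=
  Subgroup.subset_closure ⟨_, _, _, h⟩

theorem nn_of (T : TPc.{u}) (hK : HypK K p n) {F : FusionSystem (⊤ : Subgroup (PG K))}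
    (h1 : ∃ γ ∈ F.autGroup (PV K), IsWV γ) {κ : K} (h2 : κ ∈ Pt (F.autGroup (PQ K))) :
    (¬ ∀ γ ∈ F.autGroup (PV K), NormAut (⊤ : Subgroup (PG K)) γ) ∧
    (¬ ∀ γ ∈ F.autGroup (PQ K), NormAut (⊤ : Subgroup (PG K)) γ) := by
  constructor
  · obtain ⟨γ, hγ, hw⟩ := h1
    exact fun h => nn_wv hw (h γ hγ)
  · obtain ⟨γ, hγ, hw⟩ := h2
    exact fun h => nn_wk hK hw (h γ hγ)

/-- the order of `Aut_F(S)` for the small groups -/
theorem small_le (T : TPc.{u}) (hK : HypK K p n) (hq : p ^ n = 3) (C : Cx K) (hP : Pos φ s0 s1 l k0 k1 m0 m1)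
    (hs : s0 ^ 2 + s1 ^ 2 ≠ 0) (hl : l ≠ 0) (hN : Neg φ)
    {F : FusionSystem (⊤ : Subgroup (PG K))} (hsat : F.IsSaturated p) (hF : Sys C φ F) : Nat.card (AF F) ≤ 243 * 8 := by
  obtain ⟨f1, f2, -⟩ := facts T hK hq C hP hs hl hF
  obtain ⟨n1, n2⟩ := nn_of T hK f1 f2
  exact card_AF_le_eight T.toPcs hK hq C.ii hsat n1 n2 fun α hα h1 h2 => hN (hF.neg hα h1 h2)

theorem fin_card (T : TPc.{u}) (hK : HypK K p n) (hq : p ^ n = 3) (C : Cx K) (hP : Pos φ s0 s1 l k0 k1 m0 m1)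
    (hs : s0 ^ 2 + s1 ^ 2 ≠ 0) (hl : l ≠ 0) {F : FusionSystem (⊤ : Subgroup (PG K))} (hsat : F.IsSaturated p)
    (hF : Sys C φ F) {d y : ℕ}
    (hd : d = 8 ∨ d = 16 ∧ Rz φ (fun _ => True) (M6.tor 1 0 (-1) 1)) (hup : Nat.card (AF F) ≤ 243 * d)
    (hy : ((m0 - k0) ^ 2 + (m1 - k1) ^ 2 = 1 ∧ y = 48) ∨ ((m0 - k0) ^ 2 + (m1 - k1) ^ 2 = -1 ∧ y = 30)) :
    Nat.card (AF F) = 243 * d ∧ Nat.card (F.autGroup (PQ K)) = 81 * (y * d) ∧
      (¬ ∀ γ ∈ F.autGroup (PV K), NormAut (⊤ : Subgroup (PG K)) γ) ∧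
      (¬ ∀ γ ∈ F.autGroup (PQ K), NormAut (⊤ : Subgroup (PG K)) γ) := by
  have h9 := nine_of hK hq C.ii
  obtain ⟨f1, f2, f3, f4, ρ, s, l', hρ, hρF⟩ := facts T hK hq C hP hs hl hF
  obtain ⟨ζ, hζ⟩ := (T.grp hK).2.2.1 C.i (-1) (RingEquiv.refl K) h9.ι_ne (neg_ne_zero.2 one_ne_zero) (by simp)
  have hζD : ζ ∈ AF F ⊓ TP K := ⟨f4 ζ hζ, tor_mem_TP hζ⟩
  have hρD : ρ ∈ AF F ⊓ TP K := ⟨hρF, tor_mem_TP hρ⟩
  have hlow : d ≤ Nat.card (AF F ⊓ TP K : Subgroup (MulAut (PG K))) := by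
    rcases hd with rfl | ⟨rfl, g, hg⟩
    · exact low_eight hK h9 hζ hζD hρ (fun x => rfl) hρD
    · obtain ⟨z, hz⟩ := (T.grp hK).2.2.1 1 (-1) (RingEquiv.refl K) one_ne_zero (neg_ne_zero.2 one_ne_zero) (by simp)
      refine low_sixteen hK h9 hζ hζD hρ (fun x => rfl) hρD hz ⟨?_, tor_mem_TP hz⟩
      refine hF.tor ⟨g, fun x => hg x trivial⟩ hz C.re_one C.im_one ?_ fun x => rfl
      rw [C.re_neg, C.re_one]
  have hd32 : d ≠ 32 := by rcases hd with rfl | ⟨rfl, -⟩ <;> norm_num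
  have hv4 : (C.c (m0 - k0) + C.c (m1 - k1) * C.i) ^ 4 = C.c ((m0 - k0) ^ 2 + (m1 - k1) ^ 2) := pow_four hK hq C _ _
  have hv : C.c (m0 - k0) + C.c (m1 - k1) * C.i ≠ 0 := by
    intro h0
    rw [h0, zero_pow (by norm_num)] at hv4
    have h1 : (m0 - k0) ^ 2 + (m1 - k1) ^ 2 = 0 := C.c.injective (by rw [← hv4, map_zero])
    rcases hy with ⟨h2, -⟩ | ⟨h2, -⟩
    · rw [h2] at h1; exact absurd h1 (by decide)
    · rw [h2] at h1; exact absurd h1 (by decide)
  have hsum : C.c k0 + C.c k1 * C.i + (C.c (m0 - k0) + C.c (m1 - k1) * C.i) = C.c m0 + C.c m1 * C.i := by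
    rw [map_sub, map_sub]; ring
  obtain ⟨e1, e2, e3, -, e4, e5⟩ := end_card T.toPcs T.tA T.tD T.tN T.tT hK hq C.ii hsat f1 hv f2
    (by rw [hsum]; exact f3) hlow hup
  refine ⟨e1, ?_, e2, e3⟩
  rcases hy with ⟨h2, rfl⟩ | ⟨h2, rfl⟩
  · exact e4 hd32 (by rw [hv4, h2, map_one])
  · exact e5 hd32 (by rw [hv4, h2, map_neg, map_one])

end

theorem small (T : TPc.{u}) {G : Type} [Group G] [Finite G] {φ : M6 →* G} {s0 s1 l k0 k1 m0 m1 : ZMod 3}
    (hP : Pos φ s0 s1 l k0 k1 m0 m1) (hs : s0 ^ 2 + s1 ^ 2 ≠ 0) (hl : l ≠ 0) (hN : Neg φ) {y : ℕ}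
    (hy : ((m0 - k0) ^ 2 + (m1 - k1) ^ 2 = 1 ∧ y = 48) ∨ ((m0 - k0) ^ 2 + (m1 - k1) ^ 2 = -1 ∧ y = 30)) :
    StThreeP.{u} 8 (y * 8) := by
  intro K _ _ p n _ hK hq
  obtain ⟨C⟩ := exists_Cx hK hq
  obtain ⟨F, hsat, hreal, hF⟩ := exists_sys hq C φ hP.inj hP.idx
  obtain ⟨e1, e2, e3, e4⟩ := fin_card T hK hq C hP hs hl hsat hF (Or.inl rfl)
    (small_le T hK hq C hP hs hl hN hsat hF) hy
  exact ⟨F, hsat, hreal, e1, e2, e3, e4⟩

theorem big (T : TPc.{u}) {B B2 : Subgroup Co0} (hle : B ≤ B2) (h2 : B.relIndex B2 = 2) {φ : M6 →* Co0}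
    {hB : ∀ x, φ x ∈ B} {hB2 : ∀ x, φ x ∈ B2} {s0 s1 l k0 k1 m0 m1 : ZMod 3}
    (hP : Pos (φ.codRestrict B hB) s0 s1 l k0 k1 m0 m1) (hP2 : Pos (φ.codRestrict B2 hB2) s0 s1 l k0 k1 m0 m1)
    (hz : Rz (φ.codRestrict B2 hB2) (fun _ => True) (M6.tor 1 0 (-1) 1))
    (hs : s0 ^ 2 + s1 ^ 2 ≠ 0) (hl : l ≠ 0) (hN : Neg (φ.codRestrict B hB)) {y : ℕ}
    (hy : ((m0 - k0) ^ 2 + (m1 - k1) ^ 2 = 1 ∧ y = 48) ∨ ((m0 - k0) ^ 2 + (m1 - k1) ^ 2 = -1 ∧ y = 30)) :
    StThreeP.{u} 16 (y * 16) := by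
  intro K _ _ p n _ hK hq
  obtain ⟨C⟩ := exists_Cx hK hq
  obtain ⟨F1, hsat1, -, hF1⟩ := exists_sys hq C (φ.codRestrict B hB) hP.inj hP.idx
  obtain ⟨F, hsat, hreal, hF⟩ := exists_sys hq C (φ.codRestrict B2 hB2) hP2.inj hP2.idx
  have hup1 := small_le T hK hq C hP hs hl hN hsat1 hF1
  have hfinA : Finite (MulAut (PG K)) := finite_aut hK
  have hup : Nat.card (AF F) ≤ 2 * Nat.card (AF F1) := by
    refine card_le_two_mul ((φ.codRestrict B2 hB2).comp (iso C).toMonoidHom) (B.subgroupOf B2) h2 ?_ hF.top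
    intro α
    rw [hF1.top]
    constructor
    · rintro ⟨g, hg⟩
      refine ⟨⟨g, hle g.2⟩, g.2, fun x => Subtype.ext ?_⟩
      have h1 : φ (iso C (α x)) = (g : Co0) * φ (iso C x) * (g : Co0)⁻¹ := congrArg Subtype.val (hg x)
      exact h1
    · rintro ⟨g, hgB, hg⟩
      refine ⟨⟨g, hgB⟩, fun x => Subtype.ext ?_⟩
      have h1 : φ (iso C (α x)) = (g : Co0) * φ (iso C x) * (g : Co0)⁻¹ := congrArg Subtype.val (hg x)
      exact h1
  obtain ⟨e1, e2, e3, e4⟩ := fin_card T hK hq C hP2 hs hl hsat hF (Or.inr ⟨rfl, hz⟩) (by omega) hy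
  exact ⟨F, hsat, hreal, e1, e2, e3, e4⟩

theorem posC : Pos pC 1 1 (-1) 1 1 (-1) (-1) := ⟨pC_injective, index_C, C_t2, C_t1, C_v, C_w1, C_w2⟩
theorem posC2 : Pos pC2 1 1 (-1) 1 1 (-1) (-1) := ⟨pC2_injective, index_C2, C2_t2, C2_t1, C2_v, C2_w1, C2_w2⟩
/-- `McL` -/
theorem stThreeP_C (T : TPc.{u}) (hN : Neg pC) : StThreeP.{u} 8 240 :=
  small T posC (by decide) (by decide) hN (y := 30) (Or.inr ⟨by decide, rfl⟩)

/-- `McL:2` -/
theorem stThreeP_C2 (T : TPc.{u}) (hN : Neg pC) : StThreeP.{u} 16 480 :=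
  big T GC_le_GC2 relIndex_GC posC posC2 C2_t3 (by decide) (by decide) hN (y := 30) (Or.inr ⟨by decide, rfl⟩)

end Cfsg.Agent.H936.P4
end

private theorem dce_c0120d628867 : _root_.True := by
  try have : _root_.True := by simp only [_root_.Cfsg.Agent.H569.P4.cB.eq_1]
  try have : _root_.True := by simp only [_root_.Cfsg.Agent.H569.P4.eC.congr_simp]
  try have : _root_.True := by simp only [_root_.Cfsg.Agent.H699.P4.Four.el.eq_1]
  try have : _root_.True := by simp only [_root_.Cfsg.Agent.H699.P4.Four.mt.eq_1]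
  try have : _root_.True := by simp only [_root_.Cfsg.Agent.H569.P4.cA.eq_1]
  try have : _root_.True := by simp only [_root_.Cfsg.Agent.H569.P4.cC.eq_1]
  try have : _root_.True := by simp only [_root_.Cfsg.Agent.H699.P4.Four.bl.eq_1]
  try have : _root_.True := by simp only [_root_.Cfsg.Agent.H776.P4.LamP.eq_1]
  try have : _root_.True := by simp only [_root_.Cfsg.autInducedBy.eq_1]
  try have : _root_.True := by simp only [_root_.Cfsg.Agent.H776.P4.LamQ.eq_1]
  try have : _root_.True := by simp only [_root_.Cfsg.Agent.H569.P4.eA.congr_simp]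
  exact _root_.True.intro
end

-- part: H776/P4/EngFin_mg
section
prune_inst 0x30200100040000000000001240001c22c20000000008000080a00d0204800e0008000020b88004000000200400380040000000000000000000000000011800800000100400400000020080000000000000000000000000000000000000000000000000000
set_option linter.all false
open scoped Cfsg.Agent.FastGrp

-- part: H772/P4/Twist2
section
/-!
# S5210: (TW2) twisting with all the automizers
-/

set_option autoImplicit false

namespace Cfsg.Agent.H772.P4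

open Cfsg Cfsg.FusionSystem Cfsg.Agent.H759 Cfsg.Agent.H776.P4
open Cfsg.Agent.H756.PU (AF)

universe u

/-- a system is its own push-forward along the identity -/
theorem isPush_id {G0 : Type*} [Group G0] {S : Subgroup G0} (F : FusionSystem S) :
    IsPush (f := MonoidHom.id G0) (fun _ _ h => h) F F := by
  refine ⟨(Subgroup.map_id S).symm, fun P φ => ?_⟩
  have hc : ∀ (x : G0) (hx : x ∈ P.map (MonoidHom.id G0)) (hx' : x ∈ P),
      cb (f := MonoidHom.id G0) (fun _ _ h => h) φ ⟨x, hx⟩ = φ ⟨x, hx'⟩ := by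
    intro x hx hx'
    exact cb_apply (f := MonoidHom.id G0) (fun _ _ h => h) φ ⟨x, hx'⟩ hx
  constructor
  · intro h
    exact mem_hom_of_eq F (Subgroup.map_id P) h (fun x hx hx' => (hc x hx hx').symm)
  · intro h
    exact mem_hom_of_eq F (Subgroup.map_id P).symm h (fun x hx hx' => hc x hx' hx)

/-- (TW2) -/
theorem stTwist2 : StTwist2.{u} := by
  intro G0 _ _ p _ F θ hF
  have hinj : Function.Injective (θ⁻¹ : MulAut G0).toMonoidHom := (θ⁻¹ : MulAut G0).injective
  have htop : (⊤ : Subgroup G0) = (⊤ : Subgroup G0).map (θ⁻¹ : MulAut G0).toMonoidHom :=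
    (Subgroup.map_top_of_surjective _ (θ⁻¹ : MulAut G0).surjective).symm
  obtain ⟨F', hF'⟩ := exists_pull' (hf := hinj) htop F
  have hθ : Function.Injective θ.toMonoidHom := θ.injective
  have hF2 : IsPush hθ F F' := IsPush.cancel hF' (isPush_id F') (fun x => by
    show x = θ (θ⁻¹ x)
    rw [MulAut.apply_inv_self])
  refine ⟨F', hF'.isSaturated_iff.1 hF, ⟨fun h => H776.Co.isRealizable_push hF' h, fun h => H776.Co.isRealizable_push hF2 h⟩,
    ?_, fun E => ?_, ?_⟩
  · rw [H805.PU.AF_push hF', Subgroup.map_map]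
    have : (MulAut.conj θ).toMonoidHom.comp (MulAut.conj θ⁻¹).toMonoidHom = MonoidHom.id _ := by
      ext x
      simp only [MulAut.conj_apply, mul_assoc, _root_.MulEquiv.toMonoidHom_eq_coe, _root_.map_inv, _root_.MonoidHom.coe_comp, _root_.MonoidHom.coe_coe, _root_.MulAut.coe_inv, _root_.Function.comp_apply, _root_.MulAut.conj_symm_apply, _root_.mul_inv_cancel_left, _root_.mul_inv_cancel, _root_.mul_one, _root_.MonoidHom.id_apply]
    rw [this, Subgroup.map_id]
  · rw [← H805.PU.isEssential_iff hF', Subgroup.map_map]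
    have : (θ⁻¹ : MulAut G0).toMonoidHom.comp θ.toMonoidHom = MonoidHom.id _ := by
      ext x
      show θ⁻¹ (θ x) = x
      exact MulAut.inv_apply_self _ _ _
    rw [this, Subgroup.map_id]
  · intro Q t ht
    have ht' : ∀ e : Q, θ ((t⁻¹ e : Q) : G0) = e := by
      intro e
      rw [← ht, MulAut.apply_inv_self]
    have key : ∀ (P : Subgroup G0) (hP : P = Q) (α : MulAut P) (β : MulAut Q),
        (∀ (x : P) (y : Q), (x : G0) = y → ((α x : P) : G0) = β y) → (α ∈ F.autGroup P ↔ β ∈ F.autGroup Q) := by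
      intro P hP α β hαβ
      subst hP
      have h1 : α = β := by
        ext x
        exact hαβ x x rfl
      rw [h1]
    have hQ : Q.map (θ⁻¹ : MulAut G0).toMonoidHom = Q := by
      ext x
      constructor
      · rintro ⟨y, hy, rfl⟩
        show θ⁻¹ y ∈ Q
        have h1 := ht' ⟨y, hy⟩
        have h2 : θ⁻¹ y = ((t⁻¹ ⟨y, hy⟩ : Q) : G0) := by
          apply θ.injective
          rw [h1, MulAut.apply_inv_self]
        rw [h2]
        exact (t⁻¹ ⟨y, hy⟩ : Q).2
      · intro hx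
        refine ⟨θ x, ?_, MulAut.inv_apply_self _ _ _⟩
        rw [← ht ⟨x, hx⟩]
        exact (t ⟨x, hx⟩ : Q).2
    have main : ∀ α : MulAut Q, α ∈ F'.autGroup Q ↔ t⁻¹ * α * t ∈ F.autGroup Q := by
      intro α
      rw [← hF'.mem_autGroup_iff]
      apply key _ hQ
      intro x y hxy
      obtain ⟨z, rfl⟩ := (eqv hinj Q).surjective x
      rw [coe_ca_apply]
      show θ⁻¹ ((α z : Q) : G0) = ((t⁻¹ (α (t y)) : Q) : G0)
      have h1 : z = t y := by
        apply Subtype.ext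
        rw [ht, ← hxy]
        show (z : G0) = θ (θ⁻¹ (z : G0))
        rw [MulAut.apply_inv_self]
      rw [h1]
      apply θ.injective
      rw [ht', MulAut.apply_inv_self]
    ext α
    rw [main]
    constructor
    · intro h
      refine ⟨_, h, ?_⟩
      show t * (t⁻¹ * α * t) * t⁻¹ = α
      group
    · rintro ⟨β, hβ, rfl⟩
      show t⁻¹ * (t * β * t⁻¹) * t ∈ _
      have : t⁻¹ * (t * β * t⁻¹) * t = β := by group
      rw [this]
      exact hβ

end Cfsg.Agent.H772.P4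
end

-- part: H128/P4/NoOver
section
/-!
# S5210 [P4-NOOVER]: if no essential subgroup properly contains `Q` then `Aut_S(Q)` is TI
-/

set_option autoImplicit false

namespace Cfsg.Agent.H128.P4

open Cfsg Cfsg.FusionSystem Cfsg.Agent.H802
open Cfsg.Agent.H776.P4 (StNoOver)
open Cfsg.Agent.H756.PU (Inv NormAut TIAut)

universe u

section

variable {Ω : Type*} [Group Ω] {S : Subgroup Ω}

/-- `φ` is the restriction of an element of `Aut_F(S)` -/
def IsRes (F : FusionSystem S) {P : Subgroup Ω} (φ : P →* Ω) : Prop :=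
  ∃ α ∈ F.autGroup S, ∀ (x : P) (hx : (x : Ω) ∈ S), φ x = (α ⟨x, hx⟩ : S)

theorem inv_symm {F : FusionSystem S} [Finite S] {Q : Subgroup Ω} (h : _root_.Cfsg.Agent.H756.PU.Inv (F.autGroup S) Q) {α : MulAut S}
    (hα : α ∈ F.autGroup S) (x : S) : ((α x : S) : Ω) ∈ Q ↔ (x : Ω) ∈ Q := by
  constructor
  · intro hx
    have h1 := h.2 α⁻¹ ((F.autGroup S).inv_mem hα) (α x) hx
    have h2 : α⁻¹ (α x) = x := α.symm_apply_apply x
    rwa [h2] at h1
  · intro hx
    exact h.2 α hα x hx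

theorem lt_range_iff [Finite S] {F : FusionSystem S} {Q : Subgroup Ω} (h : _root_.Cfsg.Agent.H756.PU.Inv (F.autGroup S) Q) {P : Subgroup Ω}
    {φ : P →* Ω} (hP : P ≤ S) (hφ : IsRes F φ) : Q < φ.range ↔ Q < P := by
  obtain ⟨α, hα, hφα⟩ := hφ
  have hα' := (F.autGroup S).inv_mem hα
  have hinv : ∀ x : S, α (α⁻¹ x) = x := fun x => α.apply_symm_apply x
  have key : ∀ x : S, (x : Ω) ∈ P ↔ ((α x : S) : Ω) ∈ φ.range := by
    intro x
    constructor
    · intro hx
      exact ⟨⟨x, hx⟩, hφα ⟨x, hx⟩ x.2⟩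
    · rintro ⟨y, hy⟩
      rw [hφα y (hP y.2)] at hy
      have h1 : α ⟨y, hP y.2⟩ = α x := Subtype.ext hy
      have h2 := α.injective h1
      have h3 : (y : Ω) = x := congrArg Subtype.val h2
      rw [← h3]
      exact y.2
  have hr : φ.range ≤ S := by
    rintro _ ⟨y, rfl⟩
    rw [hφα y (hP y.2)]
    exact (α _).2
  simp only [SetLike.lt_iff_le_and_exists]
  constructor
  · rintro ⟨h1, y, hy, hyQ⟩
    refine ⟨fun x hx => ?_, ((α⁻¹ ⟨y, hr hy⟩ : S) : Ω), ?_, ?_⟩
    · exact (key ⟨x, h.1 hx⟩).2 (h1 (h.2 α hα ⟨x, h.1 hx⟩ hx))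
    · rw [key, hinv]
      exact hy
    · intro hc
      rw [inv_symm h hα'] at hc
      exact hyQ hc
  · rintro ⟨h1, y, hy, hyQ⟩
    refine ⟨fun x hx => ?_, ((α ⟨y, hP hy⟩ : S) : Ω), (key ⟨y, hP hy⟩).1 hy, ?_⟩
    · have h2 : ((α⁻¹ ⟨x, h.1 hx⟩ : S) : Ω) ∈ Q := h.2 _ hα' ⟨x, h.1 hx⟩ hx
      have h3 := (key (α⁻¹ ⟨x, h.1 hx⟩)).1 (h1 h2)
      rw [hinv] at h3
      exact h3
    · intro hc
      rw [inv_symm h hα] at hc
      exact hyQ hc

/-- the maps of `F` which are restrictions of automorphisms of `S` as soon as their source or image properly contains `Q` -/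
def aux [Finite S] (F : FusionSystem S) (Q : Subgroup Ω) (h : _root_.Cfsg.Agent.H756.PU.Inv (F.autGroup S) Q) : FusionSystem S where
  Hom P := {φ | φ ∈ F.Hom P ∧ (Q < P ∨ Q < φ.range → IsRes F φ)}
  le_of_mem hφ := F.le_of_mem hφ.1
  injective_of_mem hφ := F.injective_of_mem hφ.1
  conj_mem := by
    intro P g hP hg
    refine ⟨F.conj_mem hP hg, fun _ => ?_⟩
    refine ⟨MulAut.conj ⟨g, hg⟩, ?_, fun x hx => rfl⟩
    rw [mem_autGroup_iff F le_rfl]
    exact mem_of_apply_eq (F.conj_mem le_rfl hg) fun x => rfl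
  comp_mem := by
    rintro P R φ ψ ⟨hφ, hφ'⟩ ⟨hψ, hψ'⟩ hm
    refine ⟨F.comp_mem hφ hψ hm, fun hor => ?_⟩
    have hRS : R ≤ S := hom_le hψ
    have hPS : P ≤ S := hom_le hφ
    have hφR : φ.range ≤ R := by
      rintro _ ⟨x, rfl⟩
      exact hm x
    have key : IsRes F φ → IsRes F ψ → IsRes F (ψ.comp (φ.codRestrict R hm)) := by
      rintro ⟨α, hα, hφα⟩ ⟨β, hβ, hψβ⟩
      refine ⟨β * α, (F.autGroup S).mul_mem hβ hα, fun x hx => ?_⟩
      show ψ ⟨φ x, hm x⟩ = ((β (α ⟨x, hx⟩) : S) : Ω)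
      rw [hψβ ⟨φ x, hm x⟩ (hRS (hm x))]
      congr 2
      exact Subtype.ext (hφα x hx)
    rcases hor with hor | hor
    · have h1 := hφ' (Or.inl hor)
      have h2 : Q < φ.range := (lt_range_iff h hPS h1).2 hor
      exact key h1 (hψ' (Or.inl (h2.trans_le hφR)))
    · have h0 : (ψ.comp (φ.codRestrict R hm)).range ≤ ψ.range := by
        rintro _ ⟨x, rfl⟩
        exact ⟨_, rfl⟩
      have h1 := hψ' (Or.inr (hor.trans_le h0))
      -- `ψ` restricted to the image of `φ`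
      have h2 : IsRes F (ψ.comp (Subgroup.inclusion hφR)) := by
        obtain ⟨β, hβ, hψβ⟩ := h1
        exact ⟨β, hβ, fun x hx => hψβ _ hx⟩
      have h3 : (ψ.comp (Subgroup.inclusion hφR)).range = (ψ.comp (φ.codRestrict R hm)).range := by
        ext z
        constructor
        · rintro ⟨⟨_, x, rfl⟩, rfl⟩
          exact ⟨x, rfl⟩
        · rintro ⟨x, rfl⟩
          exact ⟨⟨φ x, ⟨x, rfl⟩⟩, rfl⟩
      rw [← h3, lt_range_iff h (hφR.trans hRS) h2] at hor
      exact key (hφ' (Or.inr hor)) h1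
  inv_mem := by
    rintro P φ ⟨hφ, hφ'⟩
    have hPS : P ≤ S := hom_le hφ
    obtain ⟨ψ, hψ, hψe⟩ := F.inv_mem hφ
    have hr : ψ.range = P := by
      ext z
      constructor
      · rintro ⟨⟨_, x, rfl⟩, rfl⟩
        rw [hψe]
        exact x.2
      · intro hz
        exact ⟨⟨φ ⟨z, hz⟩, ⟨_, rfl⟩⟩, hψe ⟨z, hz⟩⟩
    refine ⟨ψ, ⟨hψ, fun hor => ?_⟩, hψe⟩
    rw [hr] at hor
    obtain ⟨α, hα, hφα⟩ := hφ' hor.symm
    refine ⟨α⁻¹, (F.autGroup S).inv_mem hα, ?_⟩
    rintro ⟨_, x, rfl⟩ hx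
    rw [hψe]
    have h1 : (⟨φ x, hx⟩ : S) = α ⟨x, hPS x.2⟩ := Subtype.ext (hφα x _)
    have h2 : α⁻¹ (α ⟨x, hPS x.2⟩) = ⟨x, hPS x.2⟩ := α.symm_apply_apply _
    show (x : Ω) = ((α⁻¹ ⟨φ x, hx⟩ : S) : Ω)
    rw [h1, h2]

/-- **Alperin**: if no essential subgroup properly contains `Q`, a map of `F` whose source properly contains `Q` is the
restriction of an element of `Aut_F(S)` -/
theorem isRes_of_lt [Finite S] {p : ℕ} [Fact p.Prime] {F : FusionSystem S} {Q : Subgroup Ω} (hS : IsPGroup p S)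
    (hF : F.IsSaturated p) (hE : ∀ E, F.IsEssential p E → Q ≤ E → E = Q) (h : _root_.Cfsg.Agent.H756.PU.Inv (F.autGroup S) Q) {P : Subgroup Ω}
    {φ : P →* Ω} (hφ : φ ∈ F.Hom P) (hP : Q < P) : IsRes F φ := by
  have hle := le_of_essential hS hF (aux F Q h) ?_ ?_ P
  · exact (hle hφ).2 (Or.inl hP)
  · intro α hα
    rw [mem_autGroup_iff _ le_rfl]
    exact ⟨(mem_autGroup_iff F le_rfl α).1 hα, fun _ => ⟨α, hα, fun x hx => rfl⟩⟩
  · intro E hEss _ α hα
    have hES : E ≤ S := hEss.1.1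
    have hfinE : Finite E := finite_of_le hES
    have h1 := (mem_autGroup_iff F hES α).1 hα
    have h2 : (E.subtype.comp α.toMonoidHom).range = E := range_eq_of_mapsTo h1 fun x => (α x).2
    rw [mem_autGroup_iff _ hES]
    refine ⟨h1, fun hor => ?_⟩
    rw [h2, or_self] at hor
    exact absurd (hE E hEss hor.le) hor.ne'

end

theorem stNoOver : StNoOver.{u} := by
  intro Ω _ S _ p _ F Q hS hF hQS hQn hC hE hI γ hγ x hx hxI hconj
  have hfn : F.IsFullyNormalized Q := by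
    refine ⟨hQS, fun Q' _ => ?_⟩
    have h1 : normalizerIn S Q = S := inf_eq_left.2 hQn
    rw [h1]
    exact Subgroup.card_le_of_le inf_le_left
  obtain ⟨g, hg, hgx⟩ := (mem_autInducedBy_iff S Q x).1 hx
  have hgQ : g ∉ Q := by
    intro hgQ
    exact hxI ⟨⟨g, hgQ⟩, MulEquiv.ext fun y => Subtype.ext (hgx y).symm⟩
  obtain ⟨R, hQR, hcard, ψ, hψ, hψe⟩ := extends_of_conj_mem (isReceptive_of_isFullyNormalized hS hF hfn) hγ hg hgQ hgx hconj
  have hlt : Q < R := lt_of_le_of_ne hQR (by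
    rintro rfl
    exact lt_irrefl _ hcard)
  obtain ⟨α, hα, hαe⟩ := isRes_of_lt hS hF hE hI hψ hlt
  have hγα : ∀ q : Q, ((γ q : Q) : Ω) = ((α ⟨q, hQS q.2⟩ : S) : Ω) := by
    intro q
    rw [← hψe q]
    exact hαe _ _
  intro y hy
  obtain ⟨s, hs, hsy⟩ := (mem_autInducedBy_iff S Q y).1 hy
  rw [mem_autInducedBy_iff]
  refine ⟨((α ⟨s, hs⟩ : S) : Ω), (α _).2, fun q => ?_⟩
  rw [MulAut.mul_apply, MulAut.mul_apply, hγα]
  have h1 : (⟨((y (γ⁻¹ q) : Q) : Ω), hQS (y (γ⁻¹ q)).2⟩ : S) = ⟨s, hs⟩ * ⟨((γ⁻¹ q : Q) : Ω), hQS (γ⁻¹ q).2⟩ * ⟨s, hs⟩⁻¹ :=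
    Subtype.ext (hsy _)
  rw [h1, map_mul, map_mul, map_inv]
  have h2 : ((α ⟨((γ⁻¹ q : Q) : Ω), hQS (γ⁻¹ q).2⟩ : S) : Ω) = q := by
    rw [← hγα]
    have : γ (γ⁻¹ q) = q := γ.apply_symm_apply q
    rw [this]
  show _ * ((α ⟨((γ⁻¹ q : Q) : Ω), hQS (γ⁻¹ q).2⟩ : S) : Ω) * _ = _
  rw [h2]
  rfl

end Cfsg.Agent.H128.P4
end

-- part: H776/P4/EngFin
section
/-!
# S5210: the engine pieces
-/

set_option autoImplicit false

namespace Cfsg.Agent.H776.P4

universe u

theorem eng : Eng.{u} where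
  ess := H245.PU.stEss
  ovr := H659.PU.stOver
  con := H546.PU.stCon
  same := H546.PU.stSame
  compl := H805.PU.stCompl
  tw := H772.P4.stTwist2
  noOver := H128.P4.stNoOver

end Cfsg.Agent.H776.P4
end

-- part: H168/P4/TwoE
section
/-!
# S5210 [P4-2E] (helper168)

`q = 2`: the essential subgroups of a saturated system over `PG K` are among `V`, `Q` and the `E_α`.
-/

set_option autoImplicit false

namespace Cfsg.Agent.H168.P4

open Cfsg Cfsg.FusionSystem Cfsg.Agent.H802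
open Cfsg.Agent.H776.P4
open Cfsg.Agent.H756.PU (HypK Ess Inv Com NormAut TIAut AF)

universe u

section

variable {K : Type u} [Field K] [StarRing K] {p n : ℕ}

theorem finite_PG (h : HypK K p n) : Finite (PG K) := by
  have := h.fin
  refine Finite.of_injective (β := K × K × K × K) (fun x => (x.r, x.a, x.b, x.c)) ?_
  intro x y hxy
  simp only [Prod.mk.injEq] at hxy
  obtain ⟨h1, h2, h3, h4⟩ := hxy
  exact PG.ext h1 h2 h3 h4

theorem mem_PV {x : PG K} : x ∈ PV K ↔ x.r = 0 := Iff.rfl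
theorem mem_PQ {x : PG K} : x ∈ PQ K ↔ x.c = 0 := Iff.rfl

instance normal_PV : (PV K).Normal := by
  refine ⟨fun x hx g => ?_⟩
  have hx' : x.r = 0 := hx
  rw [mem_PV]
  simp only [hx', _root_.Cfsg.Agent.H776.P4.PG.mul_r, _root_.add_zero, _root_.Cfsg.Agent.H776.P4.PG.inv_r, _root_.add_neg_cancel]

instance normal_PQ : (PQ K).Normal := by
  refine ⟨fun x hx g => ?_⟩
  have hx' : x.c = 0 := hx
  rw [mem_PQ]
  simp only [hx', _root_.Cfsg.Agent.H776.P4.PG.mul_c, _root_.add_zero, _root_.Cfsg.Agent.H776.P4.PG.inv_c, _root_.add_neg_cancel]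

/-- a normal subgroup is fully normalized -/
theorem fullyNormalized_of_normal {G : Type*} [Group G] [Finite G] (F : FusionSystem (⊤ : Subgroup G)) (Q : Subgroup G)
    [Q.Normal] : F.IsFullyNormalized Q := by
  refine ⟨le_top, fun R _ => ?_⟩
  have h : normalizerIn ⊤ Q = ⊤ := by
    rw [normalizerIn, Subgroup.normalizer_eq_top, top_inf_eq]
  rw [h]
  exact Subgroup.card_le_card_group _ |>.trans_eq (by simp only [_root_.Subgroup.mem_top, _root_.nonempty_subtype, _root_.exists_const, _root_.Nat.card_subtype_true])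

/-- for `q = 2`: `p = 2` -/
theorem p_two (h : HypK K p n) (h2 : p ^ n = 2) : p = 2 ∧ n = 1 := by
  have hn : n ≠ 0 := by have := h.hn; omega
  have h3 : p ∣ 2 := by rw [← h2]; exact dvd_pow_self p hn
  have h4 : p = 2 := (Nat.prime_dvd_prime_iff_eq h.pp Nat.prime_two).1 h3
  refine ⟨h4, ?_⟩
  rw [h4] at h2
  exact Nat.pow_right_injective (le_refl 2) (by simpa using h2)

theorem two_zero (h : HypK K p n) (h2 : p ^ n = 2) : (2 : K) = 0 := by
  have := h.char
  have h3 := CharP.cast_eq_zero K p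
  rw [(p_two h h2).1] at h3
  exact_mod_cast h3

theorem add_self' (h : HypK K p n) (h2 : p ^ n = 2) (x : K) : x + x = 0 := by
  rw [← two_mul, two_zero h h2, zero_mul]

/-- the exponent of `PG K` is `4` for `q = 2` -/
theorem isPGroup_PG (h : HypK K p n) (h2 : p ^ n = 2) : IsPGroup p (⊤ : Subgroup (PG K)) := by
  rw [(p_two h h2).1]
  have hz := two_zero h h2
  rintro ⟨x, -⟩
  refine ⟨2, ?_⟩
  apply Subtype.ext
  have h3 : (x * x) * (x * x) = 1 := by
    ext
    · simp only [PG.mul_r, PG.one_r]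
      linear_combination 2 * x.r * hz
    · simp only [PG.mul_r, PG.mul_a, PG.mul_b, PG.mul_c, PG.one_a, star_add, star_mul', x.hc]
      linear_combination (2 * x.a + 3 * x.r * star x.b + 3 * star x.r * x.b + 7 * x.r * star x.r * x.c) * hz
    · simp only [PG.mul_r, PG.mul_b, PG.mul_c, PG.one_b]
      linear_combination (2 * x.b + 3 * x.r * x.c) * hz
    · simp only [PG.mul_c, PG.one_c]
      linear_combination 2 * x.c * hz
  change x ^ 2 ^ 2 = 1
  rw [← h3, show (2 : ℕ) ^ 2 = 2 + 2 from rfl, pow_add, pow_two]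

/-- the four elements of `K` -/
theorem four (h : HypK K p n) (h2 : p ^ n = 2) {α β : K} (hα : α ≠ 0) (hβ : β ≠ 0) (hab : β ≠ α) (x : K) :
    x = 0 ∨ x = α ∨ x = β ∨ x = α + β := by
  classical
  have := h.fin
  have := Fintype.ofFinite K
  have hc : Fintype.card K = 4 := by
    rw [← Nat.card_eq_fintype_card, h.card, h2]
    norm_num
  have h0 : α + β ≠ 0 := by
    intro h0
    apply hab
    have h3 := add_self' h h2 α
    exact add_left_cancel (h0.trans h3.symm)
  have h1 : ({0, α, β, α + β} : Finset K) = Finset.univ := by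
    apply Finset.eq_univ_of_card
    rw [hc]
    rw [Finset.card_insert_of_notMem, Finset.card_insert_of_notMem, Finset.card_insert_of_notMem,
      Finset.card_singleton]
    · rw [Finset.mem_singleton]
      intro h3
      exact hα (by simpa using h3)
    · rw [Finset.mem_insert, Finset.mem_singleton]
      rintro (h3 | h3)
      · exact hab h3.symm
      · exact hβ (by simpa using h3)
    · simp only [Finset.mem_insert, Finset.mem_singleton]
      rintro (h3 | h3 | h3)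
      · exact hα h3.symm
      · exact hβ h3.symm
      · exact h0 h3.symm
  have h3 : x ∈ ({0, α, β, α + β} : Finset K) := by rw [h1]; exact Finset.mem_univ x
  simpa only [_root_.Finset.mem_insert, _root_.Finset.mem_singleton] using h3

theorem le_EA (α : K) : PV K ≤ EA α := fun _ hx => Subgroup.subset_closure (Or.inl hx)

/-- `E_α` for `q = 2` -/
theorem mem_EA (h : HypK K p n) (h2 : p ^ n = 2) {α : K} {x : PG K} : x ∈ EA α ↔ x.r = 0 ∨ x.r = α := by
  constructor
  · intro hx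
    refine Subgroup.closure_induction (p := fun x _ => x.r = 0 ∨ x.r = α) (fun _ hx => hx) (Or.inl rfl) ?_ ?_ hx
    · rintro x y _ _ (h3 | h3) (h4 | h4)
      · left; simp [h3, h4]
      · right; simp [h3, h4]
      · right; simp [h3, h4]
      · left; rw [PG.mul_r, h3, h4, add_self' h h2]
    · rintro x _ (h3 | h3)
      · left; simp [h3]
      · right
        rw [PG.inv_r, h3]
        exact (eq_neg_of_add_eq_zero_left (add_self' h h2 α)).symm
  · intro hx
    exact Subgroup.subset_closure hx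

theorem eq_EA_of_le (h : HypK K p n) (h2 : p ^ n = 2) {E : Subgroup (PG K)} (hV : PV K ≤ E) (hne : E ≠ ⊤)
    (hV' : E ≠ PV K) : ∃ α : K, α ≠ 0 ∧ E = EA α := by
  obtain ⟨g, hg, hgV⟩ : ∃ g ∈ E, g ∉ PV K := by
    by_contra hcon
    push Not at hcon
    exact hV' (le_antisymm hcon hV)
  have hadj : ∀ x y : PG K, x.r = y.r → y ∈ E → x ∈ E := by
    intro x y hxy hy
    have h3 : x * y⁻¹ ∈ PV K := by rw [mem_PV]; simp [hxy]
    have h4 := E.mul_mem (hV h3) hy
    rwa [inv_mul_cancel_right] at h4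
  have hadd : ∀ x y z : PG K, x.r = y.r + z.r → y ∈ E → z ∈ E → x ∈ E := fun x y z hx hy hz =>
    hadj x (y * z) hx (E.mul_mem hy hz)
  refine ⟨g.r, hgV, le_antisymm ?_ ?_⟩
  · intro x hx
    rw [mem_EA h h2]
    by_contra hcon
    push Not at hcon
    apply hne
    rw [eq_top_iff]
    intro y _
    rcases four h h2 hgV hcon.1 hcon.2 y.r with h3 | h3 | h3 | h3
    · exact hV h3
    · exact hadj y g h3 hg
    · exact hadj y x h3 hx
    · exact hadd y g x h3 hg hx
  · intro x hx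
    rcases (mem_EA h h2).1 hx with h3 | h3
    · exact hV h3
    · exact hadj x g h3 hg

end

/-- the Sylow property of `Aut_F(Q)` for a normal subgroup `Q` -/
theorem syl_of_normal {G : Type u} [Group G] [Finite G] {p : ℕ} [Fact p.Prime] (hG : IsPGroup p (⊤ : Subgroup G))
    {F : FusionSystem (⊤ : Subgroup G)} (hF : F.IsSaturated p) (Q : Subgroup G) [Q.Normal] :
    ∀ P : Subgroup (MulAut Q), P ≤ F.autGroup Q → IsPGroup p P →
      ∃ g ∈ F.autGroup Q, ∀ x ∈ P, g * x * g⁻¹ ∈ autInducedBy ⊤ Q := by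
  intro P hP hPp
  obtain ⟨R, hR⟩ := (isFullyAutomized_of_isFullyNormalized hG hF (fullyNormalized_of_normal F Q)).2
  have hP' : IsPGroup p (P.subgroupOf (F.autGroup Q)) :=
    hPp.comap_of_injective (F.autGroup Q).subtype (F.autGroup Q).subtype_injective
  obtain ⟨T, hT⟩ := hP'.exists_le_sylow
  obtain ⟨g, hg⟩ := MulAction.exists_smul_eq (F.autGroup Q) T R
  refine ⟨g, g.2, fun x hx => ?_⟩
  have h1 : g * (⟨x, hP hx⟩ : F.autGroup Q) * g⁻¹ ∈ (R : Subgroup (F.autGroup Q)) := by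
    rw [← hg, Sylow.coe_subgroup_smul]
    exact ⟨⟨x, hP hx⟩, hT hx, rfl⟩
  rw [hR] at h1
  exact h1

/-- (2E) -/
theorem stTwoE (hE1 : StE1.{u}) (hE2 : StE2.{u}) (hE3 : StE3.{u}) (hTI : StTI.{u}) : StTwoE.{u} := by
  intro K _ _ p n _ h h2 F hF E hE
  have := finite_PG h
  have hpG : IsPGroup p (⊤ : Subgroup (PG K)) := isPGroup_PG h h2
  have hEss : Ess (⊤ : Subgroup (PG K)) E p (F.autGroup E) := Cfsg.Agent.H245.PU.stEss F E hpG hF hE
  have hY := hE1 h hEss
  by_cases hV : PV K ≤ E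
  · by_cases hEV : E = PV K
    · exact Or.inl hEV
    · exact Or.inr (Or.inr (eq_EA_of_le h h2 hV (ne_of_isEssential hpG hF hE) hEV))
  · right; left
    have hZ := hE2 h hEss hY hV
    obtain ⟨hQ, hQi⟩ := hE3 h hEss hY hZ
    obtain ⟨hTI1, hTI2⟩ := hTI h
    obtain ⟨hc, -, -⟩ := hTI2 (PQ K) (Or.inr rfl)
    refine Cfsg.Agent.H659.PU.stOver F (PQ K) E hpG hF hE hQ ?_ hc ?_ hQi
    · rw [Subgroup.normalizer_eq_top]
    · exact hTI1 (F.autGroup (PQ K)) (autInducedBy_le_autGroup F le_top) (syl_of_normal hpG hF (PQ K))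

end Cfsg.Agent.H168.P4
end

-- part: H168/P4/TwoS
section
/-!
# S5210 [P4-2S] (helper168)

`q = 2`: a saturated system over `PG K` is determined by the automizers of `S`, `V`, `Q`.
-/

set_option autoImplicit false

namespace Cfsg.Agent.H168.P4

open Cfsg Cfsg.FusionSystem Cfsg.Agent.H802
open Cfsg.Agent.H776.P4
open Cfsg.Agent.H756.PU (HypK Ess Inv Com NormAut TIAut AF)

universe u

section

variable {K : Type u} [Field K] [StarRing K] {p n : ℕ}

/-! ### coordinates -/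

/-- an element of trace one -/
theorem exists_tr_one (h : HypK K p n) (h2 : p ^ n = 2) : ∃ ω : K, ω + star ω = 1 := by
  classical
  have := h.fin
  have := Fintype.ofFinite K
  have hc : Fintype.card K = 4 := by
    rw [← Nat.card_eq_fintype_card, h.card, h2]
    norm_num
  obtain ⟨x, -, hx⟩ : ∃ x ∈ (Finset.univ : Finset K), x ∉ ({0, 1} : Finset K) := by
    apply Finset.exists_mem_notMem_of_card_lt_card
    rw [Finset.card_univ, hc]
    exact lt_of_le_of_lt (Finset.card_insert_le _ _) (by simp)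
  simp only [Finset.mem_insert, Finset.mem_singleton, not_or] at hx
  obtain ⟨hx0, hx1⟩ := hx
  have hz := two_zero h h2
  have hs : star x = x ^ 2 := by rw [h.star_eq, h2]
  have hx1' : x - 1 ≠ 0 := sub_ne_zero.2 hx1
  refine ⟨x, ?_⟩
  rw [hs]
  rcases four h h2 (α := 1) (β := x) one_ne_zero hx0 hx1 (x + x ^ 2) with h3 | h3 | h3 | h3
  · exfalso
    have h4 : x * (x - 1) = 0 := by linear_combination h3 - x * hz
    rcases mul_eq_zero.1 h4 with h5 | h5
    · exact hx0 h5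
    · exact hx1' h5
  · exact h3
  · exfalso
    have h4 : x * x = 0 := by linear_combination h3
    rcases mul_eq_zero.1 h4 with h5 | h5
    · exact hx0 h5
    · exact hx0 h5
  · exfalso
    have h4 : (x - 1) * (x - 1) = 0 := by linear_combination h3 + (1 - x) * hz
    rcases mul_eq_zero.1 h4 with h5 | h5
    · exact hx1' h5
    · exact hx1' h5

theorem conj_r (g v : PG K) : (g * v * g⁻¹).r = v.r := by simp

theorem conj_a (g v : PG K) (hv : v.r = 0) :
    (g * v * g⁻¹).a = v.a + g.r * star v.b + star g.r * v.b + g.r * star g.r * v.c := by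
  simp only [PG.mul_a, PG.mul_r, PG.inv_a, PG.inv_b, PG.inv_c, hv, star_add, star_neg, star_mul', g.hc, star_zero]
  ring

theorem conj_b (g v : PG K) (hv : v.r = 0) : (g * v * g⁻¹).b = v.b + g.r * v.c := by
  simp only [PG.mul_b, PG.mul_r, PG.inv_b, PG.inv_c, hv]
  ring

theorem conj_c (g v : PG K) : (g * v * g⁻¹).c = v.c := by simp

/-- the conjugation action of `g` on `V` depends only on `g.r` -/
theorem conj_congr {g g' v : PG K} (hv : v.r = 0) (hg : g.r = g'.r) : g * v * g⁻¹ = g' * v * g'⁻¹ := by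
  ext
  · rw [conj_r, conj_r]
  · rw [conj_a g v hv, conj_a g' v hv, hg]
  · rw [conj_b g v hv, conj_b g' v hv, hg]
  · rw [conj_c, conj_c]

theorem conj_of_r_zero {g v : PG K} (hv : v.r = 0) (hg : g.r = 0) : g * v * g⁻¹ = v := by
  have h3 := conj_congr (g := g) (g' := 1) hv hg
  rw [h3]
  group

theorem comm_of_r_zero {g v : PG K} (hv : v.r = 0) (hg : g.r = 0) : g * v = v * g := by
  have h3 := conj_of_r_zero hv hg
  calc g * v = (g * v * g⁻¹) * g := by group
    _ = v * g := by rw [h3]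

/-- `C_S(V) = V` -/
theorem r_zero_of_comm {g : PG K} (hg : ∀ v : PG K, v.r = 0 → g * v = v * g) : g.r = 0 := by
  have h3 := hg ⟨0, 0, 0, 1, by simp, by simp⟩ rfl
  have h4 := congrArg PG.b h3
  simp only [PG.mul_b] at h4
  simpa using h4

/-- commutators with `u ∉ V` take two different non-trivial values -/
theorem two_comms (h : HypK K p n) (h2 : p ^ n = 2) {g : PG K} (hg : g.r ≠ 0) :
    ∃ v w : PG K, v.r = 0 ∧ w.r = 0 ∧ g * v * g⁻¹ * v⁻¹ ≠ 1 ∧ g * w * g⁻¹ * w⁻¹ ≠ 1 ∧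
      g * v * g⁻¹ * v⁻¹ ≠ g * w * g⁻¹ * w⁻¹ := by
  obtain ⟨ω, hω⟩ := exists_tr_one h h2
  have hg' : star g.r ≠ 0 := by simpa only [_root_.ne_eq, _root_.star_eq_zero] using hg
  set v : PG K := ⟨0, 0, star (g.r⁻¹ * ω), 0, by simp, by simp⟩ with hv
  set w : PG K := ⟨0, 0, 0, 1, by simp, by simp⟩ with hw
  have hva : (g * v * g⁻¹).a = 1 := by
    rw [conj_a g v rfl]
    simp only [hv, star_star, star_mul', star_inv₀]
    rw [← hω]
    field_simp
    ring
  have hvb : (g * v * g⁻¹).b = v.b := by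
    rw [conj_b g v rfl]
    simp only [hv, _root_.star_mul', _root_.star_inv₀, _root_.MulZeroClass.mul_zero, _root_.add_zero]
  have hwb : (g * w * g⁻¹).b = g.r := by
    rw [conj_b g w rfl]
    simp [hw]
  have hne : ∀ x y : PG K, x * y⁻¹ = 1 → x = y := fun x y => mul_inv_eq_one.1
  refine ⟨v, w, rfl, rfl, ?_, ?_, ?_⟩
  · intro h3
    have h4 := congrArg PG.a (hne _ _ h3)
    rw [hva] at h4
    simp only [hv, _root_.star_mul', _root_.star_inv₀, _root_.one_ne_zero] at h4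
  · intro h3
    have h4 := congrArg PG.b (hne _ _ h3)
    rw [hwb] at h4
    exact hg h4
  · intro h3
    have h4 := congrArg PG.b h3
    rw [PG.mul_b (g * v * g⁻¹), PG.mul_b (g * w * g⁻¹), conj_r, conj_r, hvb, hwb] at h4
    simp only [PG.inv_b, PG.inv_c, hv, hw] at h4
    apply hg
    simpa only [_root_.neg_zero, _root_.mul_one, _root_.add_zero, _root_.mul_neg, _root_.star_mul', _root_.star_inv₀, _root_.MulZeroClass.mul_zero, _root_.add_neg_cancel] using h4.symm

/-- an involution `g v`, `v ∈ V`, is conjugate to the involution `g` by an element of `V` -/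
theorem exists_conj (h : HypK K p n) (h2 : p ^ n = 2) {g v : PG K} (hg : g.r ≠ 0) (hv : v.r = 0) (hgg : g * g = 1)
    (hgv : (g * v) * (g * v) = 1) : ∃ w : PG K, w.r = 0 ∧ g * v = w * g * w⁻¹ := by
  have hz := two_zero h h2
  obtain ⟨ω, hω⟩ := exists_tr_one h h2
  have hg' : star g.r ≠ 0 := by simpa only [_root_.ne_eq, _root_.star_eq_zero] using hg
  have h1b := congrArg PG.b hgg
  have h1a := congrArg PG.a hgg
  have h2b := congrArg PG.b hgv
  have h2a := congrArg PG.a hgv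
  simp only [PG.mul_a, PG.mul_b, PG.mul_r, PG.mul_c, PG.one_a, PG.one_b, hv, star_add, star_mul', add_zero, v.hc] at h1a h1b h2a h2b
  have hc1 : g.c = 0 := by
    have h3 : g.r * g.c = 0 := by linear_combination h1b - g.b * hz
    exact (mul_eq_zero.1 h3).resolve_left hg
  have hc2 : v.c = 0 := by
    have h3 : g.r * v.c = 0 := by
      linear_combination h2b - (g.b + v.b + g.r * v.c) * hz - g.r * hc1
    exact (mul_eq_zero.1 h3).resolve_left hg
  have ht1 : g.r * star g.b + star g.r * g.b = 0 := by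
    rw [hc1] at h1a
    linear_combination h1a - g.a * hz
  have ht2 : g.r * star v.b + star g.r * v.b = 0 := by
    rw [hc1, hc2] at h2a
    linear_combination h2a - ht1 - (g.a + v.a + g.r * star v.b + star g.r * v.b) * hz
  obtain ⟨c, hsc, hcb⟩ : ∃ c : K, star c = c ∧ g.r * c = v.b := by
    refine ⟨g.r⁻¹ * v.b, ?_, by field_simp⟩
    rw [star_mul', star_inv₀]
    field_simp
    linear_combination ht2 - star g.r * v.b * hz
  have hst : star (v.a + g.r * star g.r * c) = v.a + g.r * star g.r * c := by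
    rw [star_add, v.ha, star_mul', star_mul', star_star, hsc]
    ring
  obtain ⟨b, hsb⟩ : ∃ b : K, g.r * star b + star g.r * b = v.a + g.r * star g.r * c := by
    refine ⟨star (g.r⁻¹ * ω * (v.a + g.r * star g.r * c)), ?_⟩
    rw [star_star, star_mul', star_mul', star_inv₀, hst]
    field_simp
    linear_combination (v.a + g.r * star g.r * c) * hω
  set w : PG K := ⟨0, 0, b, c, by simp, hsc⟩ with hw
  refine ⟨w, rfl, ?_⟩
  ext
  · simp [hv, hw]
  · simp only [PG.mul_a, PG.mul_r, PG.inv_a, PG.inv_b, PG.inv_c, hw, star_add, star_neg,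
      star_mul', star_zero, hc1, hc2, hsc]
    linear_combination ht2 + hsb + (v.a + g.r * star g.r * c) * hz
  · simp only [PG.mul_b, PG.mul_r, PG.inv_b, PG.inv_c, hw, hc1, hc2]
    linear_combination hcb + v.b * hz
  · simp [hw, hc1, hc2]

/-! ### automorphisms of `E_α` -/

/-- `V` is characteristic in `E_α` -/
theorem char_V (h : HypK K p n) (h2 : p ^ n = 2) {α : K} (γ : MulAut (EA α)) (g : EA α)
    (hg : (g : PG K).r = 0) : ((γ g : EA α) : PG K).r = 0 := by
  have hT : ∀ x y : EA α, g * x * g⁻¹ * x⁻¹ ≠ 1 → g * y * g⁻¹ * y⁻¹ ≠ 1 → g * x * g⁻¹ * x⁻¹ = g * y * g⁻¹ * y⁻¹ := by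
    have hx : ∀ x : EA α, g * x * g⁻¹ * x⁻¹ ≠ 1 → (x : PG K).r = α := by
      intro x hx
      rcases (mem_EA h h2).1 x.2 with h3 | h3
      · exfalso
        apply hx
        apply Subtype.ext
        change (g : PG K) * x * (g : PG K)⁻¹ * (x : PG K)⁻¹ = 1
        rw [comm_of_r_zero hg h3 |>.symm]
        group
      · exact h3
    intro x y hx1 hy1
    apply Subtype.ext
    change (g : PG K) * x * (g : PG K)⁻¹ * (x : PG K)⁻¹ = (g : PG K) * y * (g : PG K)⁻¹ * (y : PG K)⁻¹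
    have hgi : ((g : PG K)⁻¹).r = 0 := by simp [hg]
    have h3 := conj_congr (g := (x : PG K)) (g' := (y : PG K)) hgi ((hx x hx1).trans (hx y hy1).symm)
    calc (g : PG K) * x * (g : PG K)⁻¹ * (x : PG K)⁻¹ = g * (x * (g : PG K)⁻¹ * (x : PG K)⁻¹) := by group
      _ = g * (y * (g : PG K)⁻¹ * (y : PG K)⁻¹) := by rw [h3]
      _ = _ := by group
  by_contra hcon
  obtain ⟨v, w, hv, hw, h3, h4, h5⟩ := two_comms h h2 hcon
  have hv' : v ∈ EA α := le_EA α hv
  have hw' : w ∈ EA α := le_EA α hw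
  have e : ∀ x : EA α, γ (g * γ⁻¹ x * g⁻¹ * (γ⁻¹ x)⁻¹) = γ g * x * (γ g)⁻¹ * x⁻¹ := by
    intro x
    have e1 : γ (γ⁻¹ x) = x := by
      change (γ * γ⁻¹) x = x
      rw [mul_inv_cancel]; rfl
    rw [map_mul, map_mul, map_mul, map_inv, map_inv, e1]
  have e' : ∀ x : EA α, γ g * x * (γ g)⁻¹ * x⁻¹ ≠ 1 → g * γ⁻¹ x * g⁻¹ * (γ⁻¹ x)⁻¹ ≠ 1 := by
    intro x hx hx'
    apply hx
    rw [← e, hx', map_one]
  have h6 := hT (γ⁻¹ ⟨v, hv'⟩) (γ⁻¹ ⟨w, hw'⟩) (e' _ fun h7 => h3 (congrArg Subtype.val h7))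
    (e' _ fun h7 => h4 (congrArg Subtype.val h7))
  have h7 := congrArg γ h6
  rw [e, e] at h7
  exact h5 (congrArg Subtype.val h7)

end

/-- the automizer of `E_α` is contained in the one of every system with the same automizer of `V` -/
theorem aut_EA_le {K : Type u} [Field K] [StarRing K] {p n : ℕ} [Fact p.Prime] (h : HypK K p n) (h2 : p ^ n = 2)
    {F F' : FusionSystem (⊤ : Subgroup (PG K))} (hF' : F'.IsSaturated p)
    (hV : F.autGroup (PV K) ≤ F'.autGroup (PV K)) {α : K} (hα : α ≠ 0) :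
    F.autGroup (EA α) ≤ F'.autGroup (EA α) := by
  have := finite_PG h
  have hpG := isPGroup_PG h h2
  intro γ hγ
  have hVE : PV K ≤ EA α := le_EA α
  have hγF := (mem_autGroup_iff F le_top γ).1 hγ
  set φ : PV K →* PG K := ((EA α).subtype.comp γ.toMonoidHom).comp (Subgroup.inclusion hVE) with hφ
  have hφa : ∀ (x : PG K) (hx : x ∈ PV K), φ ⟨x, hx⟩ = (γ ⟨x, hVE hx⟩ : EA α) := fun _ _ => rfl
  have hφF : φ ∈ F.Hom (PV K) := restrict_mem hγF hVE
  have hφV : ∀ x : PV K, φ x ∈ PV K := fun x => char_V h h2 γ (Subgroup.inclusion hVE x) x.2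
  have hφr : φ.range = PV K := range_eq_of_mapsTo hφF hφV
  obtain ⟨γ0, hγ0, hγ0e⟩ := exists_aut hφF hφr
  have hφF' : φ ∈ F'.Hom (PV K) := aut_restrict_mem le_top (hV hγ0) le_rfl (fun x hx => (hγ0e ⟨x, hx⟩).symm)
  have hrec : F'.IsReceptive (PV K) :=
    isReceptive_of_isFullyNormalized hpG hF' (fullyNormalized_of_normal F' (PV K))
  obtain ⟨ψ, hψ, hψe⟩ := hrec.2 (PV K) φ hφF' hφr
  have hconj : ∀ (x : PG K) (hx : x ∈ EA α) (v : PG K) (hv : v ∈ PV K) (hxv : x * v * x⁻¹ ∈ PV K),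
      φ ⟨x * v * x⁻¹, hxv⟩ = (γ ⟨x, hx⟩ : EA α) * φ ⟨v, hv⟩ * ((γ ⟨x, hx⟩ : EA α) : PG K)⁻¹ := by
    intro x hx v hv hxv
    rw [hφa, hφa]
    have e : (⟨x * v * x⁻¹, hVE hxv⟩ : EA α) = ⟨x, hx⟩ * ⟨v, hVE hv⟩ * ⟨x, hx⟩⁻¹ := rfl
    rw [e, map_mul, map_mul, map_inv]
    rfl
  have hext : EA α ≤ extender ⊤ (PV K) φ := by
    intro x hx
    rw [mem_extender_iff]
    refine ⟨Subgroup.mem_top x, ?_, ((γ ⟨x, hx⟩ : EA α) : PG K), Subgroup.mem_top _, ?_⟩
    · rw [Subgroup.normalizer_eq_top]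
      exact Subgroup.mem_top x
    · intro v hv
      exact hconj x hx v v.2 hv
  -- `ψ x ∈ γ x V`
  have key : ∀ (x : PG K) (hx : x ∈ EA α), (((γ ⟨x, hx⟩ : EA α) : PG K)⁻¹ * ψ ⟨x, hext hx⟩).r = 0 := by
    intro x hx
    apply r_zero_of_comm
    intro w hw
    obtain ⟨⟨v, hv⟩, rfl⟩ : ∃ v, φ v = w := by
      have hw' : w ∈ PV K := hw
      rw [← hφr] at hw'
      exact hw'
    have hxv : x * v * x⁻¹ ∈ PV K := (normal_PV (K := K)).conj_mem v hv x
    have h3 := hconj x hx v hv hxv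
    have h4 : φ ⟨x * v * x⁻¹, hxv⟩ = ψ ⟨x, hext hx⟩ * φ ⟨v, hv⟩ * (ψ ⟨x, hext hx⟩)⁻¹ := by
      rw [← hψe _ hxv (hext (hVE hxv)), ← hψe v hv (hext (hVE hv)), ← map_mul, ← map_inv, ← map_mul]
      rfl
    rw [h3] at h4
    have h5 : φ ⟨v, hv⟩ = (((γ ⟨x, hx⟩ : EA α) : PG K)⁻¹ * ψ ⟨x, hext hx⟩) * φ ⟨v, hv⟩ *
        (((γ ⟨x, hx⟩ : EA α) : PG K)⁻¹ * ψ ⟨x, hext hx⟩)⁻¹ := by
      calc φ ⟨v, hv⟩ = ((γ ⟨x, hx⟩ : EA α) : PG K)⁻¹ * (((γ ⟨x, hx⟩ : EA α) : PG K) * φ ⟨v, hv⟩ *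
            ((γ ⟨x, hx⟩ : EA α) : PG K)⁻¹) * ((γ ⟨x, hx⟩ : EA α) : PG K) := by group
        _ = _ := by rw [h4]; group
    calc _ = ((((γ ⟨x, hx⟩ : EA α) : PG K)⁻¹ * ψ ⟨x, hext hx⟩) * φ ⟨v, hv⟩ *
        (((γ ⟨x, hx⟩ : EA α) : PG K)⁻¹ * ψ ⟨x, hext hx⟩)⁻¹) *
          (((γ ⟨x, hx⟩ : EA α) : PG K)⁻¹ * ψ ⟨x, hext hx⟩) := by group
      _ = _ := by rw [← h5]
  -- the involution `u`
  set u : PG K := ⟨α, 0, 0, 0, by simp, by simp⟩ with hu
  have huE : u ∈ EA α := (mem_EA h h2).2 (Or.inr rfl)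
  have huu : u * u = 1 := by
    ext
    · simp [hu, add_self' h h2]
    · simp only [hu, PG.mul_a, _root_.add_zero, _root_.star_zero, _root_.MulZeroClass.mul_zero, _root_.Cfsg.Agent.H776.P4.PG.one_a]
    · simp [hu, PG.mul_b]
    · simp [hu]
  have huu' : (⟨u, huE⟩ : EA α) * ⟨u, huE⟩ = 1 := Subtype.ext huu
  have hγu : ((γ ⟨u, huE⟩ : EA α) : PG K) * (γ ⟨u, huE⟩ : EA α) = 1 := by
    have h3 := congrArg γ huu'
    rw [map_mul, map_one] at h3
    exact congrArg Subtype.val h3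
  have hψu : ψ ⟨u, hext huE⟩ * ψ ⟨u, hext huE⟩ = 1 := by
    rw [← map_mul, ← map_one ψ]
    congr 1
    exact Subtype.ext huu
  have hγur : ((γ ⟨u, huE⟩ : EA α) : PG K).r ≠ 0 := by
    intro h3
    have h4 := char_V h h2 γ⁻¹ (γ ⟨u, huE⟩) h3
    have e1 : γ⁻¹ (γ ⟨u, huE⟩) = ⟨u, huE⟩ := by
      change (γ⁻¹ * γ) _ = _
      rw [inv_mul_cancel]; rfl
    rw [e1] at h4
    exact hα h4
  have hsplit : ψ ⟨u, hext huE⟩ = ((γ ⟨u, huE⟩ : EA α) : PG K) *
      (((γ ⟨u, huE⟩ : EA α) : PG K)⁻¹ * ψ ⟨u, hext huE⟩) := by group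
  obtain ⟨w, hw, hwe⟩ := exists_conj h h2 hγur (key u huE) hγu (by rw [← hsplit]; exact hψu)
  rw [← hsplit] at hwe
  -- the map `x ↦ w⁻¹ ψ(x) w`
  obtain ⟨χ, hχ, hχe⟩ := exists_comp (restrict_mem hψ hext)
    (F'.conj_mem (P := ⊤) (g := w⁻¹) le_rfl (Subgroup.mem_top _)) (fun x => Subgroup.mem_top _)
  have hχe' : ∀ (x : PG K) (hx : x ∈ EA α), χ ⟨x, hx⟩ = w⁻¹ * ψ ⟨x, hext hx⟩ * w := by
    intro x hx
    rw [hχe ⟨x, hx⟩]
    change w⁻¹ * ψ ⟨x, hext hx⟩ * w⁻¹⁻¹ = _
    rw [inv_inv]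
  have hwi : (w⁻¹).r = 0 := by simp [hw]
  have hA : ∀ (x : PG K) (hx : x ∈ PV K), χ ⟨x, hVE hx⟩ = (γ ⟨x, hVE hx⟩ : EA α) := by
    intro x hx
    rw [hχe', hψe x hx (hext (hVE hx)), hφa]
    have h3 := conj_of_r_zero (g := w⁻¹) (hφV ⟨x, hx⟩) hwi
    rw [inv_inv] at h3
    exact h3
  have hB : χ ⟨u, huE⟩ = (γ ⟨u, huE⟩ : EA α) := by
    rw [hχe', hwe]
    group
  rw [mem_autGroup_iff F' le_top]
  refine mem_of_apply_eq hχ ?_
  rintro ⟨x, hx⟩
  change ((γ ⟨x, hx⟩ : EA α) : PG K) = χ ⟨x, hx⟩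
  rcases (mem_EA h h2).1 hx with h3 | h3
  · exact (hA x h3).symm
  · have hy : x * u⁻¹ ∈ PV K := by
      rw [mem_PV]
      simp [h3, hu]
    have e : (⟨x, hx⟩ : EA α) = ⟨x * u⁻¹, hVE hy⟩ * ⟨u, huE⟩ := by
      apply Subtype.ext
      change x = x * u⁻¹ * u
      group
    rw [e, map_mul, map_mul, hA _ hy, hB]
    rfl

/-- (2S) -/
theorem stTwoS (hE : StTwoE.{u}) : StTwoS.{u} := by
  intro K _ _ p n _ h h2 F F' hF hF' h1 hV hQ P
  have := finite_PG h
  have hpG := isPGroup_PG h h2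
  apply Set.Subset.antisymm
  · refine le_of_essential hpG hF F' h1.le ?_ P
    intro E hE1 _
    rcases hE h h2 F hF E hE1 with rfl | rfl | ⟨α, hα, rfl⟩
    · exact hV.le
    · exact hQ.le
    · exact aut_EA_le h h2 hF' hV.le hα
  · refine le_of_essential hpG hF' F h1.ge ?_ P
    intro E hE1 _
    rcases hE h h2 F' hF' E hE1 with rfl | rfl | ⟨α, hα, rfl⟩
    · exact hV.ge
    · exact hQ.ge
    · exact aut_EA_le h h2 hF hV.ge hα

end Cfsg.Agent.H168.P4
end

-- part: H353/P4/QTwo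
section
/-!
# S5210, task P4-QTwo: the parabolic `Q` for `q = 2`

`K = F₄`, `Q = 2^{1+4}`. An automorphism of `Q` acts on `Q/Z = K²` preserving `q(r,b) = Tr(r star b)`; the automorphisms
acting trivially are inner. Let `X` be induced by `(0;0,0,1)`, `γ ∈ Γ`. Then `γ X γ⁻¹` acts on `K²` as
`v ↦ v + f(v,c₂) c₁ + f(v,c₁) c₂`, `c₁`, `c₂` the images of `(0,1)`, `(0,ω)`. A check over the pairs `(c₁,c₂)` (Booleans) shows
that this commutes with `X`, or is one of the two other involutions of `SL₂(2)`.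
-/

set_option autoImplicit false

namespace Cfsg.Agent.H353.P4.QTwo

open Cfsg Cfsg.Agent.H776.P4
open Cfsg.Agent.H756.PU (HypK NormAut TIAut)

universe u

/-! ### The field with four elements -/

structure F4 (K : Type u) [Field K] [StarRing K] (w : K) : Prop where
  two : (2 : K) = 0
  ww : w * w = w + 1
  sw : star w = w + 1
  all : ∀ x : K, x = 0 ∨ x = 1 ∨ x = w ∨ x = w + 1
  w0 : w ≠ 0
  w1 : w ≠ 1
  fin : Finite K

theorem F4.of_hyp {K : Type u} [Field K] [StarRing K] {p n : ℕ} (h : HypK K p n) (h2 : p ^ n = 2) :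
    ∃ w : K, F4 K w := by
  classical
  have hn := h.hn
  have hp2 : p = 2 := by
    have : p ∣ 2 := by
      rw [← h2]; exact dvd_pow_self p (by omega)
    exact (Nat.prime_dvd_prime_iff_eq h.pp Nat.prime_two).1 this
  have := h.fin
  have := h.char
  have : Fintype K := Fintype.ofFinite K
  have h20 : (2 : K) = 0 := by
    have := CharP.cast_eq_zero K p
    rw [hp2] at this
    exact_mod_cast this
  have hc : Fintype.card K = 4 := by
    have := h.card
    rw [h2, Nat.card_eq_fintype_card] at this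
    exact_mod_cast this
  have hstar : ∀ x : K, star x = x * x := by
    intro x
    rw [h.star_eq, h2, pow_two]
  obtain ⟨w, hw⟩ : ∃ w : K, w ≠ 0 ∧ w ≠ 1 := by
    by_contra hcon
    push Not at hcon
    have hle : (Finset.univ : Finset K) ⊆ {0, 1} := by
      intro x _
      by_cases hx : x = 0
      · simp only [hx, _root_.Finset.mem_insert, _root_.Finset.mem_singleton, _root_.zero_ne_one, _root_.or_false]
      · simp only [hcon x hx, _root_.Finset.mem_insert, _root_.one_ne_zero, _root_.Finset.mem_singleton, _root_.or_true]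
    have := Finset.card_le_card hle
    rw [Finset.card_univ, hc] at this
    have h3 : ({0, 1} : Finset K).card ≤ 2 := Finset.card_le_two
    omega
  obtain ⟨w0, w1⟩ := hw
  have h4 : w ^ 4 = w := by
    have := FiniteField.pow_card w
    rwa [hc] at this
  have hww : w * w = w + 1 := by
    have h5 : w * ((w - 1) * (w * w + w + 1)) = 0 := by linear_combination h4
    rcases mul_eq_zero.1 h5 with h6 | h6
    · exact absurd h6 w0
    rcases mul_eq_zero.1 h6 with h7 | h7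
    · exact absurd (sub_eq_zero.1 h7) w1
    linear_combination h7 - (w + 1) * h20
  refine ⟨w, h20, hww, ?_, ?_, w0, w1, h.fin⟩
  · rw [hstar, hww]
  · intro x
    have h01 : (0 : K) ≠ 1 := zero_ne_one
    have h1 : (w + 1 : K) ≠ 0 := by
      intro h8
      apply w1
      linear_combination h8 - h20
    have h1' : (w + 1 : K) ≠ 1 := by
      intro h8
      apply w0
      linear_combination h8
    have hcard : ({0, 1, w, w + 1} : Finset K).card = 4 := by
      rw [Finset.card_insert_of_notMem, Finset.card_insert_of_notMem, Finset.card_insert_of_notMem,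
        Finset.card_singleton]
      · simp
      · simp only [Finset.mem_insert, Finset.mem_singleton, not_or]
        exact ⟨fun e => w1 e.symm, fun e => h1' e.symm⟩
      · simp only [Finset.mem_insert, Finset.mem_singleton, not_or]
        exact ⟨h01, fun e => w0 e.symm, fun e => h1 e.symm⟩
    have huniv : ({0, 1, w, w + 1} : Finset K) = Finset.univ := by
      apply Finset.eq_univ_of_card
      rw [hcard, hc]
    have hx : x ∈ ({0, 1, w, w + 1} : Finset K) := by rw [huniv]; exact Finset.mem_univ x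
    simpa only [_root_.Finset.mem_insert, _root_.Finset.mem_singleton] using hx

/-! ### The Boolean check -/

abbrev V4 : Type := Bool × Bool × Bool × Bool

def bf : V4 → V4 → Bool := fun v v' =>
  ((v.1 && v'.2.2.2) ^^ (v.2.1 && v'.2.2.1)) ^^ ((v'.1 && v.2.2.2) ^^ (v'.2.1 && v.2.2.1))

def bq : V4 → Bool := fun v => (v.1 && v.2.2.2) ^^ (v.2.1 && v.2.2.1)

def badd : V4 → V4 → V4 := fun v v' => (v.1 ^^ v'.1, v.2.1 ^^ v'.2.1, v.2.2.1 ^^ v'.2.2.1, v.2.2.2 ^^ v'.2.2.2)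

def bsm : Bool → V4 → V4 := fun t v => (t && v.1, t && v.2.1, t && v.2.2.1, t && v.2.2.2)

def bT : V4 → V4 → V4 → V4 := fun c1 c2 v => badd v (badd (bsm (bf v c2) c1) (bsm (bf v c1) c2))

def bX : V4 → V4 := fun v => (v.1, v.2.1, v.2.2.1 ^^ v.1, v.2.2.2 ^^ v.2.1)
def bX1 : V4 → V4 := fun v => (v.1 ^^ v.2.2.1, v.2.1 ^^ v.2.2.2, v.2.2.1, v.2.2.2)
def bX2 : V4 → V4 := fun v => (v.2.2.1, v.2.2.2, v.1, v.2.1)

def ball (P : V4 → Bool) : Bool :=
  [false, true].all fun a => [false, true].all fun b => [false, true].all fun c => [false, true].all fun d => P (a, b, c, d)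

theorem ball_spec {P : V4 → Bool} (h : ball P = true) : ∀ v, P v = true := by
  rintro ⟨a, b, c, d⟩
  simp only [ball, List.all_cons, List.all_nil, Bool.and_true, Bool.and_eq_true] at h
  cases a <;> cases b <;> cases c <;> cases d <;> simp_all only []

def bchk (c1 c2 : V4) : Bool :=
  bq c1 || bq c2 || bf c1 c2 || c1 == (false, false, false, false) || c2 == (false, false, false, false) || c1 == c2 ||
    ball (fun v => bX (bT c1 c2 v) == bT c1 c2 (bX v)) || ball (fun v => bT c1 c2 v == bX1 v) ||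
    ball (fun v => bT c1 c2 v == bX2 v)

theorem bchk_all : ball (fun c1 => ball (bchk c1)) = true := by decide +kernel

theorem bcheck (c1 c2 : V4) (h1 : bq c1 = false) (h2 : bq c2 = false) (h3 : bf c1 c2 = false)
    (h4 : c1 ≠ (false, false, false, false)) (h5 : c2 ≠ (false, false, false, false)) (h6 : c1 ≠ c2) :
    (∀ v, bX (bT c1 c2 v) = bT c1 c2 (bX v)) ∨ (∀ v, bT c1 c2 v = bX1 v) ∨ (∀ v, bT c1 c2 v = bX2 v) := by
  have h := ball_spec (ball_spec bchk_all c1) c2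
  simp only [bchk, Bool.or_eq_true, h1, h2, h3, beq_iff_eq, h4, h5, h6, Bool.false_eq_true, false_or] at h
  rcases h with (h | h) | h
  · exact Or.inl fun v => by simpa using ball_spec h v
  · exact Or.inr (Or.inl fun v => by simpa using ball_spec h v)
  · exact Or.inr (Or.inr fun v => by simpa using ball_spec h v)

/-! ### The translation -/

section
variable {K : Type u} [Field K] [StarRing K]

/-- the form on `Q/Z` -/
def ff (v v' : K × K) : K := v.1 * star v'.2 + star v.1 * v'.2 + (v'.1 * star v.2 + star v'.1 * v.2)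

/-- the quadratic form on `Q/Z` -/
def qq (v : K × K) : K := v.1 * star v.2 + star v.1 * v.2

def tt (b : Bool) : K := cond b 1 0

def BB (w : K) (v : V4) : K × K := (tt v.1 + tt v.2.1 * w, tt v.2.2.1 + tt v.2.2.2 * w)

variable {w : K}

theorem F4.tt_xor (h : F4 K w) (a b : Bool) : (tt (a ^^ b) : K) = tt a + tt b := by
  have h2 := h.two
  cases a <;> cases b <;> simp [tt]
  linear_combination -h2

omit [StarRing K] in
theorem tt_and (a b : Bool) : (tt (a && b) : K) = tt a * tt b := by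
  cases a <;> cases b <;> simp [tt]

theorem tt_star (a : Bool) : star (tt a : K) = tt a := by
  cases a <;> simp [tt]

omit [StarRing K] in
theorem tt_eq_zero (a : Bool) : (tt a : K) = 0 ↔ a = false := by
  cases a <;> simp [tt]

theorem F4.ff_BB (h : F4 K w) (v v' : V4) : ff (BB w v) (BB w v') = tt (bf v v') := by
  simp only [ff, BB, bf, h.tt_xor, tt_and, star_add, star_mul', tt_star, h.sw]
  linear_combination (tt v.1 * tt v'.2.2.1 + tt v.1 * tt v'.2.2.2 * w + tt v.2.1 * tt v'.2.2.1 * w + tt v.2.1 * tt v'.2.2.2 * (w * w + w)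
    + tt v'.1 * tt v.2.2.1 + tt v'.1 * tt v.2.2.2 * w + tt v'.2.1 * tt v.2.2.1 * w + tt v'.2.1 * tt v.2.2.2 * (w * w + w)) * h.two

theorem F4.qq_BB (h : F4 K w) (v : V4) : qq (BB w v) = tt (bq v) := by
  simp only [qq, BB, bq, h.tt_xor, tt_and, star_add, star_mul', tt_star, h.sw]
  linear_combination (tt v.1 * tt v.2.2.1 + tt v.1 * tt v.2.2.2 * w + tt v.2.1 * tt v.2.2.1 * w + tt v.2.1 * tt v.2.2.2 * (w * w + w)) * h.two

theorem F4.BB_add (h : F4 K w) (v v' : V4) : BB w (badd v v') = BB w v + BB w v' := by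
  ext
  · simp only [BB, badd, h.tt_xor, Prod.fst_add]; ring
  · simp only [BB, badd, h.tt_xor, Prod.snd_add]; ring

omit [StarRing K] in
theorem F4.BB_sm (t : Bool) (v : V4) : BB w (bsm t v) = (tt t : K) • BB w v := by
  ext
  · simp only [BB, bsm, tt_and, Prod.smul_fst, smul_eq_mul]; ring
  · simp only [BB, bsm, tt_and, Prod.smul_snd, smul_eq_mul]; ring

theorem F4.tt_w (h : F4 K w) (x : K) : ∃ i j : Bool, x = tt i + tt j * w := by
  rcases h.all x with rfl | rfl | rfl | rfl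
  · exact ⟨false, false, by simp [tt]⟩
  · exact ⟨true, false, by simp [tt]⟩
  · exact ⟨false, true, by simp [tt]⟩
  · exact ⟨true, true, by simp only [tt, _root_.cond_true, _root_.one_mul]; ring⟩

theorem F4.BB_surj (h : F4 K w) (v : K × K) : ∃ u : V4, BB w u = v := by
  obtain ⟨i, j, h1⟩ := h.tt_w v.1
  obtain ⟨k, l, h2⟩ := h.tt_w v.2
  exact ⟨(i, j, k, l), Prod.ext h1.symm h2.symm⟩

/-- the transvection-like map -/
def TT (c1 c2 v : K × K) : K × K := v + (ff v c2 • c1 + ff v c1 • c2)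

theorem F4.BB_T (h : F4 K w) (c1 c2 v : V4) : BB w (bT c1 c2 v) = TT (BB w c1) (BB w c2) (BB w v) := by
  simp only [bT, TT, h.BB_add, F4.BB_sm, h.ff_BB]

def XX (v : K × K) : K × K := (v.1, v.2 + v.1)

theorem F4.BB_X (h : F4 K w) (v : V4) : BB w (bX v) = XX (BB w v) := by
  ext
  · simp only [BB, bX, XX]
  · simp only [BB, bX, XX, h.tt_xor]; ring

theorem F4.check (h : F4 K w) (c1 c2 : K × K) (h1 : qq c1 = 0) (h2 : qq c2 = 0) (h3 : ff c1 c2 = 0)
    (h4 : c1 ≠ 0) (h5 : c2 ≠ 0) (h6 : c1 ≠ c2) :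
    (∀ v, XX (TT c1 c2 v) = TT c1 c2 (XX v)) ∨ (∀ v, TT c1 c2 v = (v.1 + v.2, v.2)) ∨ (∀ v, TT c1 c2 v = (v.2, v.1)) := by
  obtain ⟨u1, rfl⟩ := h.BB_surj c1
  obtain ⟨u2, rfl⟩ := h.BB_surj c2
  rw [h.qq_BB, tt_eq_zero] at h1 h2
  rw [h.ff_BB, tt_eq_zero] at h3
  have h40 : u1 ≠ (false, false, false, false) := by
    rintro rfl
    exact h4 (by simp [BB, tt])
  have h50 : u2 ≠ (false, false, false, false) := by
    rintro rfl
    exact h5 (by simp [BB, tt])
  have h60 : u1 ≠ u2 := by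
    rintro rfl
    exact h6 rfl
  rcases bcheck u1 u2 h1 h2 h3 h40 h50 h60 with hh | hh | hh
  · refine Or.inl fun v => ?_
    obtain ⟨u, rfl⟩ := h.BB_surj v
    rw [← h.BB_T, ← h.BB_X, hh, h.BB_T, h.BB_X]
  · refine Or.inr (Or.inl fun v => ?_)
    obtain ⟨u, rfl⟩ := h.BB_surj v
    rw [← h.BB_T, hh]
    ext
    · simp only [BB, bX1, h.tt_xor]; ring
    · simp only [BB, bX1]
  · refine Or.inr (Or.inr fun v => ?_)
    obtain ⟨u, rfl⟩ := h.BB_surj v
    rw [← h.BB_T, hh]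
    rfl

end

/-! ### The group `Q` -/

section
variable {K : Type u} [Field K] [StarRing K] {w : K}

/-- the image in `Q/Z` -/
def co (e : PQ K) : K × K := ((e : PG K).r, (e : PG K).b)

theorem co_mul (e e' : PQ K) : co (e * e') = co e + co e' := by
  ext
  · rfl
  · have h : (e' : PG K).c = 0 := e'.2
    simp only [co, Subgroup.coe_mul, PG.mul_b, h, mul_zero, add_zero, Prod.snd_add]

theorem co_one : co (1 : PQ K) = 0 := rfl

/-- the element `(v.1; 0, v.2)` -/
def up (v : K × K) : PQ K := ⟨⟨v.1, 0, v.2, 0, star_zero _, star_zero _⟩, rfl⟩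

theorem co_up (v : K × K) : co (up v) = v := rfl

/-- the central involution -/
def zz : PQ K := ⟨⟨0, 1, 0, 0, star_one _, star_zero _⟩, rfl⟩

theorem co_zz : co (zz : PQ K) = 0 := rfl

theorem F4.fix (h : F4 K w) {x : K} (hx : star x = x) : x = 0 ∨ x = 1 := by
  rcases h.all x with rfl | rfl | rfl | rfl
  · exact Or.inl rfl
  · exact Or.inr rfl
  · exfalso
    rw [h.sw] at hx
    exact one_ne_zero (α := K) (by linear_combination hx)
  · exfalso
    rw [star_add, star_one, h.sw] at hx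
    exact one_ne_zero (α := K) (by linear_combination hx)

theorem star_ff (v v' : K × K) : star (ff v v') = ff v v' := by
  simp only [ff, star_add, star_mul', star_star]; ring

theorem F4.co_eq (h : F4 K w) {e e' : PQ K} (hc : co e = co e') : e' = e ∨ e' = zz * e := by
  obtain ⟨⟨r, a, b, c, ha, hc'⟩, h0⟩ := e
  obtain ⟨⟨r', a', b', c', ha', hc''⟩, h0'⟩ := e'
  have h0 : c = 0 := h0
  have h0' : c' = 0 := h0'
  subst h0 h0'
  have h1 : r = r' := congrArg Prod.fst hc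
  have h2 : b = b' := congrArg Prod.snd hc
  subst h1 h2
  have h3 : star (a' - a) = a' - a := by rw [star_sub, ha, ha']
  rcases h.fix h3 with h4 | h4
  · left
    have : a' = a := by linear_combination h4
    subst this
    rfl
  · right
    apply Subtype.ext
    apply PG.ext
    · simp [zz]
    · simp only [zz, Subgroup.coe_mul, PG.mul_a, star_zero]; linear_combination h4
    · simp [zz, PG.mul_b]
    · simp [zz]

theorem F4.comm_iff (h : F4 K w) (e e' : PQ K) : e * e' = e' * e ↔ ff (co e) (co e') = 0 := by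
  have h0 : (e : PG K).c = 0 := e.2
  have h0' : (e' : PG K).c = 0 := e'.2
  constructor
  · intro he
    have := congrArg (fun e : PQ K => (e : PG K).a) he
    simp only [Subgroup.coe_mul, PG.mul_a, h0, h0'] at this
    simp only [ff, co]
    linear_combination this + ((e' : PG K).r * star (e : PG K).b + star (e' : PG K).r * (e : PG K).b) * h.two
  · intro he
    simp only [ff, co] at he
    apply Subtype.ext
    apply PG.ext
    · simp [add_comm]
    · simp only [Subgroup.coe_mul, PG.mul_a, h0, h0']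
      linear_combination he - ((e' : PG K).r * star (e : PG K).b + star (e' : PG K).r * (e : PG K).b) * h.two
    · simp only [Subgroup.coe_mul, PG.mul_b, h0, h0']; ring
    · simp [add_comm]

theorem F4.sq_iff (h : F4 K w) (e : PQ K) : e * e = 1 ↔ qq (co e) = 0 := by
  have h0 : (e : PG K).c = 0 := e.2
  constructor
  · intro he
    have := congrArg (fun e : PQ K => (e : PG K).a) he
    simp only [Subgroup.coe_mul, PG.mul_a, h0, Subgroup.coe_one, PG.one_a] at this
    simp only [qq, co]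
    linear_combination this - ((e : PG K).a) * h.two
  · intro he
    simp only [qq, co] at he
    apply Subtype.ext
    apply PG.ext
    · simp only [Subgroup.coe_mul, PG.mul_r, Subgroup.coe_one, PG.one_r]
      linear_combination ((e : PG K).r) * h.two
    · simp only [Subgroup.coe_mul, PG.mul_a, h0, Subgroup.coe_one, PG.one_a]
      linear_combination he + ((e : PG K).a) * h.two
    · simp only [Subgroup.coe_mul, PG.mul_b, h0, Subgroup.coe_one, PG.one_b]
      linear_combination ((e : PG K).b) * h.two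
    · simp only [Subgroup.coe_mul, PG.mul_c, Subgroup.coe_one, PG.one_c, h0, add_zero]

theorem F4.swap (h : F4 K w) (e e' : PQ K) (hn : e * e' ≠ e' * e) : e * e' = zz * (e' * e) := by
  rcases h.co_eq (e := e' * e) (e' := e * e') (by rw [co_mul, co_mul, add_comm]) with h1 | h1
  · exact absurd h1 hn
  · exact h1

theorem F4.map_zz (h : F4 K w) (γ : MulAut (PQ K)) : γ zz = zz := by
  have hne : (up (1, 0) : PQ K) * up (0, w) ≠ up (0, w) * up (1, 0) := by
    intro he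
    rw [h.comm_iff] at he
    simp only [co_up, ff, star_zero, h.sw, star_one] at he
    exact one_ne_zero (α := K) (by linear_combination he - w * h.two)
  have h1 := h.swap _ _ hne
  have hne' : γ (up (1, 0)) * γ (up (0, w)) ≠ γ (up (0, w)) * γ (up (1, 0)) := by
    intro he
    rw [← map_mul, ← map_mul] at he
    exact hne (γ.injective he)
  have h2 := h.swap _ _ hne'
  rw [← map_mul, h1, map_mul, map_mul] at h2
  exact mul_right_cancel h2

theorem F4.map_co (h : F4 K w) (γ : MulAut (PQ K)) {e e' : PQ K} (hc : co e = co e') : co (γ e) = co (γ e') := by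
  rcases h.co_eq hc with rfl | rfl
  · rfl
  · rw [map_mul, h.map_zz, co_mul, co_zz, zero_add]

theorem F4.map_ff (h : F4 K w) (γ : MulAut (PQ K)) (e e' : PQ K) : ff (co (γ e)) (co (γ e')) = ff (co e) (co e') := by
  have h1 : ff (co (γ e)) (co (γ e')) = 0 ↔ ff (co e) (co e') = 0 := by
    rw [← h.comm_iff, ← h.comm_iff, ← map_mul, ← map_mul]
    exact ⟨fun hh => γ.injective hh, fun hh => by rw [hh]⟩
  rcases h.fix (star_ff (co (γ e)) (co (γ e'))) with h2 | h2 <;> rcases h.fix (star_ff (co e) (co e')) with h3 | h3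
  · rw [h2, h3]
  · rw [h1.1 h2] at h3
    exact absurd h3 zero_ne_one
  · rw [h1.2 h3] at h2
    exact absurd h2 zero_ne_one
  · rw [h2, h3]

theorem F4.map_qq (h : F4 K w) (γ : MulAut (PQ K)) (e : PQ K) : qq (co (γ e)) = 0 ↔ qq (co e) = 0 := by
  rw [← h.sq_iff, ← h.sq_iff, ← map_mul]
  constructor
  · intro hh
    apply γ.injective
    rw [hh, map_one]
  · intro hh
    rw [hh, map_one]

/-- the action on `Q/Z` -/
def F4.rho (h : F4 K w) : MulAut (PQ K) →* Function.End (K × K) where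
  toFun γ := fun v => co (γ (up v))
  map_one' := rfl
  map_mul' γ γ' := by
    funext v
    exact h.map_co γ (co_up _).symm

theorem F4.rho_co (h : F4 K w) (γ : MulAut (PQ K)) (e : PQ K) : h.rho γ (co e) = co (γ e) :=
  h.map_co γ (co_up _)

end

/-! ### Inner automorphisms and `Aut_S(Q)` -/

section
variable {K : Type u} [Field K] [StarRing K] {w : K}

instance normal_PQ : (PQ K).Normal where
  conj_mem := by
    intro n hn g
    have hn : n.c = 0 := hn
    show (g * n * g⁻¹).c = 0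
    simp [hn]

theorem mem_aut_iff (α : MulAut (PQ K)) : α ∈ autInducedBy ⊤ (PQ K) ↔ ∃ g : PG K, α = MulAut.conjNormal g := by
  constructor
  · intro h
    have hle : autInducedBy ⊤ (PQ K) ≤ (MulAut.conjNormal : PG K →* MulAut (PQ K)).range := by
      rw [autInducedBy, Subgroup.closure_le]
      rintro β ⟨g, -, hg⟩
      refine ⟨g, ?_⟩
      ext e
      · rw [hg]; rfl
      · rw [hg]; rfl
      · rw [hg]; rfl
      · rw [hg]; rfl
    obtain ⟨g, hg⟩ := hle h
    exact ⟨g, hg.symm⟩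
  · rintro ⟨g, rfl⟩
    exact Subgroup.subset_closure ⟨g, Subgroup.mem_top g, fun x => MulAut.conjNormal_apply g x⟩

theorem conj_mem_aut (i : PQ K) : MulAut.conj i ∈ autInducedBy ⊤ (PQ K) :=
  Subgroup.subset_closure ⟨i, Subgroup.mem_top _, fun _ => rfl⟩

theorem F4.rho_conj (h : F4 K w) (g : PG K) (v : K × K) :
    h.rho (MulAut.conjNormal g) v = (v.1, v.2 + g.c * v.1) := by
  show co (MulAut.conjNormal g (up v)) = _
  ext
  · simp only [co, MulAut.conjNormal_apply, PG.mul_r, PG.inv_r, up]; ring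
  · simp only [co, MulAut.conjNormal_apply, PG.mul_b, PG.mul_r, PG.inv_b, PG.inv_c, up]
    linear_combination -(v.1 * g.c) * h.two

/-- an automorphism trivial on `Q/Z` is inner -/
theorem F4.inner (h : F4 K w) (γ : MulAut (PQ K)) (hγ : h.rho γ = 1) : ∃ i : PQ K, γ = MulAut.conj i := by
  have hco : ∀ e, co (γ e) = co e := by
    intro e
    rw [← h.rho_co, hγ]; rfl
  set lam : PQ K → K := fun e => ((γ e : PQ K) : PG K).a - (e : PG K).a with hlam
  have lam_mul : ∀ e e', lam (e * e') = lam e + lam e' := by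
    intro e e'
    have h1 : ((γ e : PQ K) : PG K).r = (e : PG K).r := congrArg Prod.fst (hco e)
    have h2 : ((γ e' : PQ K) : PG K).b = (e' : PG K).b := congrArg Prod.snd (hco e')
    have h3 : ((γ e' : PQ K) : PG K).c = 0 := (γ e').2
    have h4 : (e' : PG K).c = 0 := e'.2
    simp only [hlam, map_mul, Subgroup.coe_mul, PG.mul_a, h1, h2, h3, h4]
    ring
  have lam_zz : lam zz = 0 := by
    simp only [hlam, h.map_zz, sub_self]
  have lam_co : ∀ {e e'}, co e = co e' → lam e' = lam e := by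
    intro e e' he
    rcases h.co_eq he with rfl | rfl
    · rfl
    · rw [lam_mul, lam_zz, zero_add]
  have lam_star : ∀ e, star (lam e) = lam e := by
    intro e
    simp only [hlam, star_sub, PG.ha]
  set L : K × K → K := fun v => lam (up v) with hL
  have L_add : ∀ v v', L (v + v') = L v + L v' := by
    intro v v'
    simp only [hL]
    rw [← lam_mul]
    exact (lam_co (by rw [co_up, co_mul, co_up, co_up]))
  have L_co : ∀ e, lam e = L (co e) := fun e => (lam_co (co_up _))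
  set i : PQ K := up (L (0, w) + L (0, 1) * w, L (w, 0) + L (1, 0) * w) with hi
  have L0 : L 0 = 0 := by
    have := L_add 0 0
    rw [add_zero] at this
    linear_combination -this
  have L_star : ∀ v, star (L v) = L v := fun v => lam_star _
  have hr : ∀ r : K, L (r, 0) = ff (co i) (r, 0) := by
    intro r
    have h1 : L (1, 0) = ff (co i) (1, 0) := by
      simp only [hi, co_up, ff, star_add, star_mul', L_star, h.sw, star_zero, star_one]
      linear_combination -(L (w, 0) + L (1, 0) * w) * h.two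
    have hw' : L (w, 0) = ff (co i) (w, 0) := by
      simp only [hi, co_up, ff, star_add, star_mul', L_star, h.sw, star_zero]
      linear_combination -(L (w, 0) * w + L (1, 0) * w * (w + 1)) * h.two
    rcases h.all r with rfl | rfl | rfl | rfl
    · rw [show ((0 : K), (0 : K)) = 0 from rfl, L0]
      simp only [ff, _root_.Prod.snd_zero, _root_.star_zero, _root_.MulZeroClass.mul_zero, _root_.add_zero, _root_.Prod.fst_zero, _root_.MulZeroClass.zero_mul]
    · exact h1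
    · exact hw'
    · have : ((w + 1 : K), (0 : K)) = (w, 0) + (1, 0) := by simp
      rw [this, L_add, h1, hw']
      simp only [ff, Prod.fst_add, Prod.snd_add, star_add, star_zero]; ring
  have hb : ∀ b : K, L (0, b) = ff (co i) (0, b) := by
    intro b
    have h1 : L (0, 1) = ff (co i) (0, 1) := by
      simp only [hi, co_up, ff, star_add, star_mul', L_star, h.sw, star_zero, star_one]
      linear_combination -(L (0, w) + L (0, 1) * w) * h.two
    have hw' : L (0, w) = ff (co i) (0, w) := by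
      simp only [hi, co_up, ff, star_add, star_mul', L_star, h.sw, star_zero]
      linear_combination -(L (0, w) * w + L (0, 1) * w * (w + 1)) * h.two
    rcases h.all b with rfl | rfl | rfl | rfl
    · rw [show ((0 : K), (0 : K)) = 0 from rfl, L0]
      simp only [ff, _root_.Prod.snd_zero, _root_.star_zero, _root_.MulZeroClass.mul_zero, _root_.add_zero, _root_.Prod.fst_zero, _root_.MulZeroClass.zero_mul]
    · exact h1
    · exact hw'
    · have : ((0 : K), (w + 1 : K)) = (0, w) + (0, 1) := by simp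
      rw [this, L_add, h1, hw']
      simp only [ff, Prod.fst_add, Prod.snd_add, star_add, star_zero]; ring
  refine ⟨i, ?_⟩
  have key : ∀ e, lam e = ff (co i) (co e) := by
    intro e
    have : co e = ((co e).1, 0) + (0, (co e).2) := by simp
    rw [L_co, this, L_add, hr, hb]
    simp only [ff, Prod.fst_add, Prod.snd_add, star_add, star_zero]; ring
  refine MulEquiv.ext fun e => ?_
  apply Subtype.ext
  have h1 : ((γ e : PQ K) : PG K).r = (e : PG K).r := congrArg Prod.fst (hco e)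
  have h2 : ((γ e : PQ K) : PG K).b = (e : PG K).b := congrArg Prod.snd (hco e)
  have h3 : ((γ e : PQ K) : PG K).c = 0 := (γ e).2
  have h4 : (e : PG K).c = 0 := e.2
  have h5 : (i : PG K).c = 0 := i.2
  have hk := key e
  simp only [hlam, ff, co] at hk
  apply PG.ext
  · simp only [MulAut.conj_apply, Subgroup.coe_mul, Subgroup.coe_inv, PG.mul_r, PG.inv_r, h1]; ring
  · simp only [MulAut.conj_apply, Subgroup.coe_mul, Subgroup.coe_inv, PG.mul_a, PG.inv_a, PG.inv_b, PG.inv_c,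
      PG.mul_r, h4, h5, star_add, star_neg, star_mul', star_zero]
    linear_combination hk + ((e : PG K).r * star (i : PG K).b + star (e : PG K).r * (i : PG K).b) * h.two
  · simp only [MulAut.conj_apply, Subgroup.coe_mul, Subgroup.coe_inv, PG.mul_b, PG.inv_b, PG.inv_c, PG.mul_r, h2, h4, h5]; ring
  · simp only [MulAut.conj_apply, Subgroup.coe_mul, Subgroup.coe_inv, PG.mul_c, PG.inv_c, h3, h4, h5]; ring

/-- a subgroup containing `Aut_S(Q)` is determined by the action on `Q/Z` -/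
theorem F4.mem_of_rho (h : F4 K w) {H : Subgroup (MulAut (PQ K))} (hH : autInducedBy ⊤ (PQ K) ≤ H) {α β : MulAut (PQ K)}
    (hα : α ∈ H) (hβ : h.rho β = h.rho α) : β ∈ H := by
  obtain ⟨i, hi⟩ := h.inner (β * α⁻¹) (by rw [map_mul, hβ, ← map_mul, mul_inv_cancel, map_one])
  have : β = MulAut.conj i * α := by rw [← hi, inv_mul_cancel_right]
  rw [this]
  exact H.mul_mem (hH (conj_mem_aut i)) hα

end

/-! ### The involution `X` and its conjugates -/

section
variable {K : Type u} [Field K] [StarRing K] {w : K}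

variable (K) in
def vX : PG K := ⟨0, 0, 0, 1, star_zero _, star_one _⟩

variable (K) in
/-- the automorphism induced by `(0;0,0,1)` -/
def X : MulAut (PQ K) := MulAut.conjNormal (vX K)

theorem X_mem : X K ∈ autInducedBy ⊤ (PQ K) := (mem_aut_iff _).2 ⟨_, rfl⟩

theorem F4.rho_X (h : F4 K w) (v : K × K) : h.rho (X K) v = XX v := by
  rw [X, h.rho_conj]
  simp [vX, XX]

theorem F4.X_sq (h : F4 K w) : X K * X K = 1 := by
  have : vX K * vX K = 1 := by
    apply PG.ext
    · simp [vX]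
    · simp [vX, PG.mul_a]
    · simp [vX, PG.mul_b]
    · simp only [vX, PG.mul_c, PG.one_c]
      linear_combination h.two
  rw [X, ← map_mul, this, map_one]

theorem F4.X_not_inn (h : F4 K w) : X K ∉ Inn (PQ K) := by
  rintro ⟨i, hi⟩
  have h1 := h.rho_X (1, 0)
  rw [← hi] at h1
  have h2 : h.rho (MulAut.conj i) (1, 0) = (1, 0) := by
    have h3 := h.rho_conj (i : PG K) (1, 0)
    have h4 : (i : PG K).c = 0 := i.2
    rw [h4, zero_mul, add_zero] at h3
    exact h3
  rw [h2] at h1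
  simp [XX] at h1

theorem F4.mem_aut (h : F4 K w) (α : MulAut (PQ K)) :
    α ∈ autInducedBy ⊤ (PQ K) ↔ h.rho α = 1 ∨ h.rho α = h.rho (X K) := by
  constructor
  · intro hα
    obtain ⟨g, rfl⟩ := (mem_aut_iff α).1 hα
    rcases h.fix g.hc with h1 | h1
    · left
      funext v
      show _ = v
      rw [h.rho_conj, h1]
      simp
    · right
      funext v
      rw [h.rho_conj, h1, h.rho_X]
      simp [XX]
  · rintro (h1 | h1)
    · exact h.mem_of_rho le_rfl (Subgroup.one_mem _) (by rw [h1, map_one])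
    · exact h.mem_of_rho le_rfl X_mem h1

/-- the conjugates of `X` on `Q/Z` -/
theorem F4.rho_conj_X (h : F4 K w) (γ : MulAut (PQ K)) (v : K × K) :
    h.rho (γ * X K * γ⁻¹) v = TT (co (γ (up (0, 1)))) (co (γ (up (0, w)))) v := by
  set e : PQ K := γ⁻¹ (up v) with he
  have hge : γ e = up v := by rw [he]; exact MulAut.apply_inv_self _ _ _
  set r : K := (co e).1 with hr
  have hX : co (X K e) = co (e * up (0, r)) := by
    rw [← h.rho_co, h.rho_X, co_mul, co_up]
    ext <;> simp [XX, hr]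
  have h1 : h.rho (γ * X K * γ⁻¹) v = v + co (γ (up (0, r))) := by
    show co ((γ * X K * γ⁻¹) (up v)) = _
    rw [show (γ * X K * γ⁻¹) (up v) = γ (X K e) from rfl, h.map_co γ hX, map_mul, co_mul, hge, co_up]
  rw [h1, TT]
  congr 1
  have hf1 : ff v (co (γ (up (0, w)))) = ff (co e) (0, w) := by
    have := h.map_ff γ e (up (0, w))
    rwa [hge, co_up, co_up] at this
  have hf2 : ff v (co (γ (up (0, 1)))) = ff (co e) (0, 1) := by
    have := h.map_ff γ e (up (0, 1))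
    rwa [hge, co_up, co_up] at this
  rw [hf1, hf2]
  have hf3 : ff (co e) (0, w) = r * (w + 1) + star r * w := by
    simp only [ff, h.sw, star_zero, hr]; ring
  have hf4 : ff (co e) (0, 1) = r + star r := by
    simp only [ff, star_one, star_zero, hr]; ring
  rw [hf3, hf4]
  rcases h.all r with h2 | h2 | h2 | h2
  · rw [h2]
    have : (up ((0 : K), (0 : K)) : PQ K) = 1 := rfl
    rw [this, map_one, co_one]
    simp
  · rw [h2]
    have e1 : (1 : K) * (w + 1) + star 1 * w = 1 := by rw [star_one]; linear_combination w * h.two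
    have e2 : (1 : K) + star 1 = 0 := by rw [star_one]; linear_combination h.two
    rw [e1, e2]; simp
  · rw [h2]
    have e1 : (w : K) * (w + 1) + star w * w = 0 := by rw [h.sw]; linear_combination w * (w + 1) * h.two
    have e2 : (w : K) + star w = 1 := by rw [h.sw]; linear_combination w * h.two
    rw [e1, e2]; simp
  · rw [h2]
    have e1 : (w + 1 : K) * (w + 1) + star (w + 1) * w = 1 := by
      rw [star_add, star_one, h.sw]; linear_combination w * (w + 2) * h.two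
    have e2 : (w + 1 : K) + star (w + 1) = 1 := by rw [star_add, star_one, h.sw]; linear_combination (w + 1) * h.two
    rw [e1, e2, one_smul, one_smul, ← co_mul, ← map_mul]
    apply h.map_co
    rw [co_mul, co_up, co_up, co_up]
    ext <;> simp [add_comm]

theorem F4.inj (h : F4 K w) (γ : MulAut (PQ K)) {e e' : PQ K} (hc : co (γ e) = co (γ e')) : co e = co e' := by
  have := h.map_co γ⁻¹ hc
  rwa [MulAut.inv_apply_self, MulAut.inv_apply_self] at this

theorem F4.trichotomy (h : F4 K w) (γ : MulAut (PQ K)) :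
    (∀ v, XX (h.rho (γ * X K * γ⁻¹) v) = h.rho (γ * X K * γ⁻¹) (XX v)) ∨
    (∀ v, h.rho (γ * X K * γ⁻¹) v = (v.1 + v.2, v.2)) ∨ (∀ v, h.rho (γ * X K * γ⁻¹) v = (v.2, v.1)) := by
  simp only [h.rho_conj_X]
  apply h.check
  · rw [h.map_qq, co_up]; simp [qq]
  · rw [h.map_qq, co_up]; simp only [qq, _root_.MulZeroClass.zero_mul, _root_.star_zero, _root_.add_zero]
  · rw [h.map_ff, co_up, co_up]; simp only [ff, _root_.MulZeroClass.zero_mul, _root_.star_zero, _root_.add_zero, _root_.star_one, _root_.mul_one]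
  · intro h0
    have : co (up ((0 : K), (1 : K))) = co (1 : PQ K) := by
      apply h.inj γ
      rw [map_one, h0, co_one]
    rw [co_up, co_one] at this
    exact one_ne_zero (congrArg Prod.snd this)
  · intro h0
    have : co (up ((0 : K), w)) = co (1 : PQ K) := by
      apply h.inj γ
      rw [map_one, h0, co_one]
    rw [co_up, co_one] at this
    exact h.w0 (congrArg Prod.snd this)
  · intro h0
    have := h.inj γ h0
    rw [co_up, co_up] at this
    exact h.w1 (congrArg Prod.snd this).symm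

end

/-! ### The Weyl element -/

section
variable {K : Type u} [Field K] [StarRing K] {w : K}

def Wfun (e : PQ K) : PQ K :=
  ⟨⟨(e : PG K).b, (e : PG K).a - ((e : PG K).r * star (e : PG K).b + star (e : PG K).r * (e : PG K).b), -(e : PG K).r, 0, by
    simp only [star_sub, star_add, star_mul', star_star, (e : PG K).ha]; ring, star_zero _⟩, rfl⟩

theorem Wfun_mul (e e' : PQ K) : Wfun (e * e') = Wfun e * Wfun e' := by
  have h4 : (e : PG K).c = 0 := e.2
  have h5 : (e' : PG K).c = 0 := e'.2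
  apply Subtype.ext
  apply PG.ext
  · simp only [Wfun, Subgroup.coe_mul, PG.mul_b, PG.mul_r, h5]; ring
  · simp only [Wfun, Subgroup.coe_mul, PG.mul_a, PG.mul_b, PG.mul_r, h5, star_add, star_mul', star_neg, star_zero]; ring
  · simp only [Wfun, Subgroup.coe_mul, PG.mul_b, PG.mul_r]; ring
  · simp only [Wfun, _root_.Subgroup.coe_mul, _root_.Cfsg.Agent.H776.P4.PG.mul_r, _root_.StarAddMonoid.star_add, _root_.neg_add_rev, _root_.Cfsg.Agent.H776.P4.PG.mul_c, _root_.add_zero]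

theorem F4.Wfun_Wfun (h : F4 K w) (e : PQ K) : Wfun (Wfun e) = e := by
  have h4 : (e : PG K).c = 0 := e.2
  apply Subtype.ext
  apply PG.ext
  · simp only [Wfun]; linear_combination -(e : PG K).r * h.two
  · simp only [Wfun, star_neg]; ring
  · simp only [Wfun]; linear_combination -(e : PG K).b * h.two
  · simp only [Wfun, h4]

/-- the Weyl element exists -/
theorem F4.exists_W (h : F4 K w) : ∃ W : MulAut (PQ K), IsWQ W := by
  refine ⟨{ toFun := Wfun, invFun := Wfun, left_inv := h.Wfun_Wfun, right_inv := h.Wfun_Wfun, map_mul' := Wfun_mul }, ?_⟩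
  exact ⟨fun e => rfl, fun e => rfl, fun e => rfl⟩

theorem F4.rho_W (h : F4 K w) {W : MulAut (PQ K)} (hW : IsWQ W) (v : K × K) : h.rho W v = (v.2, v.1) := by
  show co (W (up v)) = _
  ext
  · simp only [co, hW.r, up]
  · simp only [co, hW.b, up]; linear_combination -v.1 * h.two

end

/-! ### The main argument -/

section
variable {K : Type u} [Field K] [StarRing K] {w : K}

theorem F4.finite_PQ (h : F4 K w) : Finite (PQ K) := by
  have := h.fin
  refine Finite.of_injective (fun e : PQ K => ((e : PG K).r, (e : PG K).a, (e : PG K).b)) ?_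
  intro e e' he
  simp only [Prod.mk.injEq] at he
  obtain ⟨h1, h2, h3⟩ := he
  have h4 : (e : PG K).c = 0 := e.2
  have h5 : (e' : PG K).c = 0 := e'.2
  exact Subtype.ext (PG.ext h1 h2 h3 (h4.trans h5.symm))

theorem F4.pow4 (h : F4 K w) (g : PG K) : g ^ 4 = 1 := by
  have h1 : g ^ 4 = (g * g) * (g * g) := by rw [← pow_two, ← pow_two, ← pow_mul]
  have hr : (g * g).r = 0 := by rw [PG.mul_r]; linear_combination g.r * h.two
  have hc : (g * g).c = 0 := by rw [PG.mul_c]; linear_combination g.c * h.two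
  rw [h1]
  apply PG.ext
  · rw [PG.mul_r, hr, PG.one_r, add_zero]
  · rw [PG.mul_a, hr, hc, star_zero, PG.one_a]
    linear_combination (g * g).a * h.two
  · rw [PG.mul_b, hr, PG.one_b]
    linear_combination (g * g).b * h.two
  · rw [PG.mul_c, hc, PG.one_c, add_zero]

theorem F4.aut_pgroup (h : F4 K w) : IsPGroup 2 (autInducedBy ⊤ (PQ K)) := by
  rintro ⟨α, hα⟩
  obtain ⟨g, rfl⟩ := (mem_aut_iff α).1 hα
  refine ⟨2, ?_⟩
  apply Subtype.ext
  show (MulAut.conjNormal g : MulAut (PQ K)) ^ (2 ^ 2) = 1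
  rw [← map_pow, show 2 ^ 2 = 4 from rfl, h.pow4, map_one]

/-- if `γ X γ⁻¹` commutes with `X` modulo `Inn(Q)` then it lies in `Aut_S(Q)` -/
theorem F4.comm_case (h : F4 K w) {Γ : Subgroup (MulAut (PQ K))}
    (indu : autInducedBy ⊤ (PQ K) ≤ Γ)
    (syl : ∀ P : Subgroup (MulAut (PQ K)), P ≤ Γ → IsPGroup 2 P → ∃ g ∈ Γ, ∀ x ∈ P, g * x * g⁻¹ ∈ autInducedBy ⊤ (PQ K))
    {γ : MulAut (PQ K)} (hγ : γ ∈ Γ) (hc : ∀ v, XX (h.rho (γ * X K * γ⁻¹) v) = h.rho (γ * X K * γ⁻¹) (XX v)) :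
    γ * X K * γ⁻¹ ∈ autInducedBy ⊤ (PQ K) := by
  have := h.finite_PQ
  have : Finite (MulAut (PQ K)) := inferInstance
  set x' : MulAut (PQ K) := γ * X K * γ⁻¹ with hx'
  have hsq : x' * x' = 1 := by
    have : x' * x' = γ * (X K * X K) * γ⁻¹ := by rw [hx']; group
    rw [this, h.X_sq]; group
  have hinv : x'⁻¹ = x' := inv_eq_of_mul_eq_one_left hsq
  have hx'Γ : x' ∈ Γ := Γ.mul_mem (Γ.mul_mem hγ (indu X_mem)) (Γ.inv_mem hγ)
  have hcomm : h.rho (X K) * h.rho x' = h.rho x' * h.rho (X K) := by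
    funext v
    show h.rho (X K) (h.rho x' v) = h.rho x' (h.rho (X K) v)
    rw [h.rho_X, h.rho_X, hc]
  have hone : ∀ α ∈ autInducedBy ⊤ (PQ K), x' * α * x'⁻¹ ∈ autInducedBy ⊤ (PQ K) := by
    intro α hα
    rw [h.mem_aut] at hα ⊢
    rcases hα with h1 | h1
    · left
      rw [map_mul, map_mul, h1, mul_one, ← map_mul, mul_inv_cancel, map_one]
    · right
      rw [map_mul, map_mul, h1, ← hcomm, mul_assoc, ← map_mul, mul_inv_cancel, map_one, mul_one]
  have hnorm : x' ∈ Subgroup.normalizer ((autInducedBy ⊤ (PQ K) : Subgroup (MulAut (PQ K))) : Set (MulAut (PQ K))) := by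
    rw [Subgroup.mem_normalizer_iff]
    intro α
    refine ⟨hone α, fun hh => ?_⟩
    have h2 := hone _ hh
    have h3 : x' * (x' * α * x'⁻¹) * x'⁻¹ = (x' * x') * α * (x' * x')⁻¹ := by group
    rw [h3, hsq] at h2
    simpa using h2
  have hz : IsPGroup 2 (Subgroup.zpowers x') := by
    rintro ⟨y, hy⟩
    obtain ⟨k, rfl⟩ := Subgroup.mem_zpowers_iff.1 hy
    refine ⟨1, ?_⟩
    apply Subtype.ext
    show (x' ^ k) ^ (2 ^ 1) = 1
    rw [pow_one, pow_two, ← zpow_add, ← two_mul, zpow_mul, zpow_two, hsq, one_zpow]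
  have hPp : IsPGroup 2 (Subgroup.zpowers x' ⊔ autInducedBy ⊤ (PQ K) : Subgroup (MulAut (PQ K))) :=
    hz.to_sup_of_normal_right' h.aut_pgroup ((Subgroup.zpowers_le).2 hnorm)
  have hPle : (Subgroup.zpowers x' ⊔ autInducedBy ⊤ (PQ K) : Subgroup (MulAut (PQ K))) ≤ Γ :=
    sup_le ((Subgroup.zpowers_le).2 hx'Γ) indu
  obtain ⟨g, -, hg⟩ := syl _ hPle hPp
  set P : Subgroup (MulAut (PQ K)) := Subgroup.zpowers x' ⊔ autInducedBy ⊤ (PQ K) with hP
  have hle : P.map (MulAut.conj g).toMonoidHom ≤ autInducedBy ⊤ (PQ K) := by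
    rintro _ ⟨y, hy, rfl⟩
    exact hg y hy
  have hcard : Nat.card P ≤ Nat.card (autInducedBy ⊤ (PQ K) : Subgroup (MulAut (PQ K))) := by
    have h1 := Subgroup.card_le_of_le hle
    rwa [Nat.card_congr (P.equivMapOfInjective _ (MulAut.conj g).injective).toEquiv.symm] at h1
  have heq : autInducedBy ⊤ (PQ K) = P := Subgroup.eq_of_le_of_card_ge le_sup_right hcard
  rw [heq]
  exact Subgroup.mem_sup_left (Subgroup.mem_zpowers x')

/-- for each `γ ∈ Γ`: either `γ` normalizes `Aut_S(Q)` or a Weyl element lies in `Γ` and moves `γ` into the normalizer -/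
theorem F4.main (h : F4 K w) {Γ : Subgroup (MulAut (PQ K))}
    (indu : autInducedBy ⊤ (PQ K) ≤ Γ)
    (syl : ∀ P : Subgroup (MulAut (PQ K)), P ≤ Γ → IsPGroup 2 P → ∃ g ∈ Γ, ∀ x ∈ P, g * x * g⁻¹ ∈ autInducedBy ⊤ (PQ K))
    (ti : TIAut (⊤ : Subgroup (PG K)) Γ) {γ : MulAut (PQ K)} (hγ : γ ∈ Γ) :
    NormAut (⊤ : Subgroup (PG K)) γ ∨
      ((∀ W : MulAut (PQ K), IsWQ W → W ∈ Γ) ∧ ∃ l ∈ LamQ K, l ∈ Γ ∧ NormAut (⊤ : Subgroup (PG K)) (l⁻¹ * γ)) := by
  rcases h.trichotomy γ with h1 | h1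
  · exact Or.inl (ti γ hγ (X K) X_mem h.X_not_inn (h.comm_case indu syl hγ h1))
  right
  set x' : MulAut (PQ K) := γ * X K * γ⁻¹ with hx'
  have hX := indu (X_mem (K := K))
  have hx'Γ : x' ∈ Γ := Γ.mul_mem (Γ.mul_mem hγ hX) (Γ.inv_mem hγ)
  have hlΓ : X K * x' * X K ∈ Γ := Γ.mul_mem (Γ.mul_mem hX hx'Γ) hX
  obtain ⟨W, hW⟩ := h.exists_W
  have hle : autInducedBy ⊤ (PQ K) ≤ LamQ K := le_sup_left
  have hWL : W ∈ LamQ K := Subgroup.mem_sup_right (Subgroup.subset_closure hW)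
  have hXL : X K ∈ LamQ K := hle X_mem
  have hXWX : X K * W * X K ∈ LamQ K := (LamQ K).mul_mem ((LamQ K).mul_mem hXL hWL) hXL
  have h20 := h.two
  -- the conjugation statement
  have hnorm : ∀ l ∈ Γ, h.rho x' * h.rho l = h.rho l * h.rho (X K) → NormAut (⊤ : Subgroup (PG K)) (l⁻¹ * γ) := by
    intro l hl hh
    have hmem : (l⁻¹ * γ) * X K * (l⁻¹ * γ)⁻¹ ∈ autInducedBy ⊤ (PQ K) := by
      rw [h.mem_aut]
      right
      have e1 : (l⁻¹ * γ) * X K * (l⁻¹ * γ)⁻¹ = l⁻¹ * (x' * l) := by rw [hx']; group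
      rw [e1, map_mul, map_mul, hh, ← mul_assoc, ← map_mul, inv_mul_cancel, map_one, one_mul]
    exact ti _ (Γ.mul_mem (Γ.inv_mem hl) hγ) (X K) X_mem h.X_not_inn hmem
  rcases h1 with h1 | h1
  · have hl : ∀ v, h.rho (X K * x' * X K) v = (v.2, v.1) := by
      intro v
      rw [map_mul, map_mul]
      show h.rho (X K) (h.rho x' (h.rho (X K) v)) = _
      rw [h.rho_X, h1, h.rho_X]
      ext
      · simp only [XX]; linear_combination v.1 * h20
      · simp only [XX]; linear_combination (v.1 + v.2) * h20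
    have hlW : ∀ W : MulAut (PQ K), IsWQ W → h.rho W = h.rho (X K * x' * X K) := by
      intro W hW
      funext v
      rw [h.rho_W hW, hl]
    refine ⟨fun W' hW' => h.mem_of_rho indu hlΓ (hlW W' hW'), X K * x' * X K, ?_, hlΓ, hnorm _ hlΓ ?_⟩
    · exact h.mem_of_rho hle hWL (hlW W hW).symm
    · funext v
      show h.rho x' (h.rho (X K * x' * X K) v) = h.rho (X K * x' * X K) (h.rho (X K) v)
      rw [hl, hl, h1, h.rho_X]
      rfl
  · have hl : ∀ v, h.rho (X K * x' * X K) v = (v.1 + v.2, v.2) := by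
      intro v
      rw [map_mul, map_mul]
      show h.rho (X K) (h.rho x' (h.rho (X K) v)) = _
      rw [h.rho_X, h1, h.rho_X]
      ext
      · simp only [XX]; ring
      · simp only [XX]; linear_combination v.1 * h20
    have hlW : ∀ W : MulAut (PQ K), IsWQ W → h.rho W = h.rho x' := by
      intro W hW
      funext v
      rw [h.rho_W hW, h1]
    refine ⟨fun W' hW' => h.mem_of_rho indu hx'Γ (hlW W' hW'), X K * x' * X K, ?_, hlΓ, hnorm _ hlΓ ?_⟩
    · refine h.mem_of_rho hle hXWX ?_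
      rw [map_mul, map_mul, map_mul _ (X K * W), map_mul _ (X K) W, hlW W hW]
    · funext v
      show h.rho x' (h.rho (X K * x' * X K) v) = h.rho (X K * x' * X K) (h.rho (X K) v)
      rw [hl, hl, h1, h.rho_X]
      ext
      · simp only [XX]; linear_combination -v.1 * h20
      · simp only [XX]; ring

end

/-- **(QTwo)** -/
theorem stQTwo : Cfsg.Agent.H776.P4.StQTwo.{u} := by
  intro K _ _ p n hK h2 Γ D hP γ
  obtain ⟨w, h⟩ := F4.of_hyp hK h2
  have hp2 : p = 2 := by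
    have : p ∣ 2 := by
      rw [← h2]; exact dvd_pow_self p (by have := hK.hn; omega)
    exact (Nat.prime_dvd_prime_iff_eq hK.pp Nat.prime_two).1 this
  subst hp2
  constructor
  · intro hγ
    have hle : autInducedBy ⊤ (PQ K) ≤ LamQ K := le_sup_left
    obtain ⟨l, hlL, hlΓ, hl⟩ : ∃ l ∈ LamQ K, l ∈ Γ ∧ NormAut (⊤ : Subgroup (PG K)) (l⁻¹ * γ) := by
      rcases h.main hP.indu hP.syl hP.ti hγ with h1 | ⟨-, h1⟩
      · exact ⟨1, (LamQ K).one_mem, Γ.one_mem, by simpa using h1⟩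
      · exact h1
    obtain ⟨x, d, hd, hx⟩ := hP.norm _ (Γ.mul_mem (Γ.inv_mem hlΓ) hγ) hl
    refine ⟨l * MulAut.conjNormal x, (LamQ K).mul_mem hlL (hle ((mem_aut_iff _).2 ⟨x, rfl⟩)), d, hd,
      (MulAut.conjNormal x)⁻¹ * (l⁻¹ * γ), ?_, by group⟩
    intro e
    rw [← map_inv]
    show ((MulAut.conjNormal x⁻¹ ((l⁻¹ * γ) e) : PQ K) : PG K) = d e
    rw [MulAut.conjNormal_apply, hx]
    group
  · rintro ⟨l, hl, d, hd, δ, hδ, rfl⟩
    have hLe : LamQ K ≤ Γ := by
      refine sup_le hP.indu ?_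
      rw [Subgroup.closure_le]
      intro W hW
      by_contra hcon
      apply hP.nn
      intro γ' hγ'
      rcases h.main hP.indu hP.syl hP.ti hγ' with h1 | ⟨h1, -⟩
      · exact h1
      · exact absurd (h1 W hW) hcon
    exact Γ.mul_mem (hLe hl) (hP.D_res d hd δ hδ)

end Cfsg.Agent.H353.P4.QTwo
end

-- part: H776/P4/Shape
section
/-!
# S5210: the six configurations are not translates of each other
-/

set_option autoImplicit false

namespace Cfsg.Agent.H776.P4

open Cfsg Cfsg.FusionSystem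
open Cfsg.Agent.H756.PU (HypK)
open Cfsg.Agent.H71.P4 (Nine cfgB nine_of)

universe u

theorem shape_dec : ∀ (T T' : Fin 6) (k : ZMod 3 × ZMod 3), (∀ x : ZMod 3 × ZMod 3, cfgB T' x = cfgB T (x - k)) →
    T = T' := by
  decide +kernel

theorem cfg_shape {K : Type u} [Field K] [StarRing K] {p n : ℕ} (hK : HypK K p n) (hq : p ^ n = 3) {ι : K}
    (hι : ι * ι = -1) (κ : K) (T T' : Fin 6) (he : {x | ∃ y ∈ Cfg ι T, x = κ + y} = Cfg ι T') : T = T' := by
  have h := nine_of hK hq hι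
  obtain ⟨k, hk⟩ := h.co_bij.2 κ
  apply shape_dec T T' k
  intro x
  have h1 : h.co x ∈ Cfg ι T' ↔ h.co (x - k) ∈ Cfg ι T := by
    rw [← he]
    constructor
    · rintro ⟨y, hy, hxy⟩
      rw [h.co_sub, hk, hxy]
      simpa using hy
    · intro hx
      refine ⟨_, hx, ?_⟩
      rw [h.co_sub, hk]
      ring
  rw [h.mem_cfg, h.mem_cfg] at h1
  exact Bool.eq_iff_iff.2 h1

end Cfsg.Agent.H776.P4
end

-- part: H473/P4/ThreeT
section
/-!
# S5210, P4-3T (helper473): the subgroups `D` of `TP K` for `q = 3`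

`stThreeT : StGrp → StThreeT`
-/

set_option autoImplicit false
set_option linter.unusedSectionVars false

namespace Cfsg.Agent.H473.P4

open Cfsg Cfsg.Agent.H776.P4
open Cfsg.Agent.H756.PU (HypK)

universe u

/-! ### the field with nine elements -/

/-- `K = F₉`, `ι² = -1` -/
structure Nine (K : Type u) [Field K] [StarRing K] (ι : K) : Prop where
  three : (3 : K) = 0
  star_eq : ∀ x : K, star x = x ^ 3
  card : Nat.card K = 9
  sq : ι * ι = -1

section

variable {K : Type u} [Field K] [StarRing K] {ι : K}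

theorem nine_of {p n : ℕ} (hK : HypK K p n) (h3 : p ^ n = 3) (hι : ι * ι = -1) : Nine K ι := by
  have hp : p = 3 := by
    have h1 : p ∣ 3 := by
      rw [← h3]
      exact dvd_pow_self p (by have := hK.hn; omega)
    exact (Nat.prime_dvd_prime_iff_eq hK.pp Nat.prime_three).mp h1
  subst hp
  refine ⟨?_, fun x => by rw [hK.star_eq, h3], by rw [hK.card, h3]; norm_num, hι⟩
  have := hK.char
  exact_mod_cast CharP.cast_eq_zero K 3

namespace Nine

variable (h : Nine K ι)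

include h

theorem two : (2 : K) = -1 := by
  linear_combination h.three

theorem neg_ne : (-1 : K) ≠ 1 := by
  intro h1
  have h2 := h.two
  have h3 : (1 : K) = 0 := by linear_combination h1 + h2
  exact one_ne_zero h3

theorem star_i : star ι = - ι := by
  rw [h.star_eq]
  linear_combination ι * h.sq

theorem i4 : ι ^ 4 = 1 := by
  linear_combination (ι * ι - 1) * h.sq

theorem i2 : ι ^ 2 = -1 := by
  rw [pow_two]
  exact h.sq

theorem pow_mod (n : ℕ) : ι ^ n = ι ^ (n % 4) := by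
  conv_lhs => rw [← Nat.mod_add_div n 4, pow_add, pow_mul, h.i4, one_pow, mul_one]

theorem ord_i : orderOf ι = 4 := by
  have := orderOf_eq_prime_pow (x := ι) (p := 2) (n := 1) (by
    rw [pow_one, h.i2]
    exact h.neg_ne) (by
    show ι ^ 4 = 1
    exact h.i4)
  simpa using this

theorem pow_inj {m n : ℕ} (hm : m < 4) (hn : n < 4) (h1 : ι ^ m = ι ^ n) : m = n :=
  pow_injOn_Iio_orderOf (by rw [h.ord_i]; exact hm) (by rw [h.ord_i]; exact hn) h1

theorem z2 : (1 + ι) ^ 2 = -ι := by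
  linear_combination h.sq + ι * h.three

theorem z4 : (1 + ι) ^ 4 = -1 := by
  have h1 := h.z2
  have h2 : (1 + ι) ^ 4 = ((1 + ι) ^ 2) ^ 2 := by ring
  rw [h2, h1]
  linear_combination h.sq

theorem z8 : (1 + ι) ^ 8 = 1 := by
  have h2 : (1 + ι) ^ 8 = ((1 + ι) ^ 4) ^ 2 := by ring
  rw [h2, h.z4]
  ring

theorem ord_z : orderOf (1 + ι) = 8 := by
  have := orderOf_eq_prime_pow (x := 1 + ι) (p := 2) (n := 2) (by
    show ¬ (1 + ι) ^ 4 = 1
    rw [h.z4]
    exact h.neg_ne) (by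
    show (1 + ι) ^ 8 = 1
    exact h.z8)
  simpa using this

theorem z_ne : (1 + ι) ≠ 0 := by
  intro h1
  have h2 := h.z8
  rw [h1] at h2
  simp at h2

theorem exists_pow (x : K) (hx : x ≠ 0) : ∃ i < 8, (1 + ι) ^ i = x := by
  have hf : Finite K := Nat.finite_of_card_ne_zero (by rw [h.card]; norm_num)
  have := Fintype.ofFinite K
  have h1 : x ^ 8 = 1 := by
    have h2 := FiniteField.pow_card_sub_one_eq_one x hx
    rw [← Nat.card_eq_fintype_card, h.card] at h2
    exact h2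
  have h3 : IsPrimitiveRoot (1 + ι) 8 := by
    have := IsPrimitiveRoot.orderOf (1 + ι)
    rw [h.ord_z] at this
    exact this
  exact h3.eq_pow_of_pow_eq_one h1

theorem zpow_inj {m n : ℕ} (hm : m < 8) (hn : n < 8) (h1 : (1 + ι) ^ m = (1 + ι) ^ n) : m = n :=
  pow_injOn_Iio_orderOf (by rw [h.ord_z]; exact hm) (by rw [h.ord_z]; exact hn) h1

theorem star_z : star (1 + ι) = 1 - ι := by
  rw [star_add, star_one, h.star_i]
  ring

theorem z_quot (n : ℕ) : (1 + ι) ^ n * (star ((1 + ι) ^ n))⁻¹ = ι ^ n := by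
  have h1 : (1 + ι) = ι * star (1 + ι) := by
    rw [h.star_z]
    linear_combination h.sq
  have h2 : star ((1 + ι) ^ n) ≠ 0 := by
    rw [star_ne_zero]
    exact pow_ne_zero n h.z_ne
  rw [mul_inv_eq_iff_eq_mul₀ h2, star_pow, ← mul_pow, ← h1]

end Nine

/-- the field automorphisms -/
def tb : Bool → (K ≃+* K)
  | false => RingEquiv.refl K
  | true => starRingAut

def lb : Bool → K
  | false => 1
  | true => -1

theorem tb_false (x : K) : tb false x = x := rfl
theorem tb_true (x : K) : tb true x = star x := rfl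

theorem Nine.tau (h : Nine K ι) (τ : K ≃+* K) : ∃ b : Bool, τ = tb b := by
  have h1 : τ ι * τ ι = ι * ι := by
    rw [← map_mul, h.sq, map_neg, map_one]
  rcases mul_self_eq_mul_self_iff.mp h1 with h2 | h2
  · refine ⟨false, RingEquiv.ext fun x => ?_⟩
    by_cases hx : x = 0
    · subst hx
      simp
    · obtain ⟨i, _, rfl⟩ := h.exists_pow x hx
      rw [map_pow, map_add, map_one, h2]
      rfl
  · refine ⟨true, RingEquiv.ext fun x => ?_⟩
    by_cases hx : x = 0
    · subst hx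
      simp
    · obtain ⟨i, _, rfl⟩ := h.exists_pow x hx
      rw [map_pow, map_add, map_one, h2, ← h.star_i, tb_true, star_pow, star_add, star_one]

theorem Nine.el (h : Nine K ι) {l : K} (hl : l ≠ 0) (hs : star l = l) : ∃ j : Bool, l = lb j := by
  rw [h.star_eq] at hs
  have h1 : l * l = 1 := by
    have h2 : l * (l * l) = l * 1 := by
      rw [mul_one]
      linear_combination hs
    exact mul_left_cancel₀ hl h2
  rcases mul_self_eq_one_iff.mp h1 with h2 | h2
  · exact ⟨false, h2⟩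
  · exact ⟨true, h2⟩

theorem Nine.lb_eq (h : Nine K ι) (j : Bool) : (lb j : K) = ι ^ (2 * j.toNat) := by
  cases j with
  | false => simp [lb]
  | true => simp [lb, h.i2]

theorem Nine.lb_inj (h : Nine K ι) {j j' : Bool} (h1 : (lb j : K) = lb j') : j = j' := by
  have h2 := h.neg_ne
  cases j <;> cases j' <;> simp_all [lb, eq_comm]

theorem Nine.tb_i (h : Nine K ι) (b : Bool) : (tb b ι : K) = ι ^ (bif b then 3 else 1) := by
  cases b with
  | false => simp [tb_false]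
  | true =>
    rw [tb_true, h.star_eq]
    rfl

theorem Nine.tb_inj (h : Nine K ι) {b b' : Bool} (h1 : (tb b ι : K) = tb b' ι) : b = b' := by
  rw [h.tb_i, h.tb_i] at h1
  have h2 := h.pow_inj (by cases b <;> simp) (by cases b' <;> simp) h1
  cases b <;> cases b' <;> simp_all

/-! ### automorphisms -/

theorem tor_ext {α β : MulAut (PG K)} {s l : K} {τ : K ≃+* K} (h1 : IsTorP α s l τ) (h2 : IsTorP β s l τ) :
    α = β := by
  ext g
  · rw [h1.r, h2.r]
  · rw [h1.a, h2.a]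
  · rw [h1.b, h2.b]
  · rw [h1.c, h2.c]

theorem tor_uniq {α : MulAut (PG K)} {s l s' l' : K} {τ τ' : K ≃+* K} (h1 : IsTorP α s l τ)
    (h2 : IsTorP α s' l' τ') : s = s' ∧ l = l' ∧ ∀ x, τ x = τ' x := by
  have hr : ∀ x : K, s * τ x = s' * τ' x := by
    intro x
    have := h1.r ⟨x, 0, 0, 0, by simp, by simp⟩
    rw [h2.r] at this
    exact this.symm
  have hs : s = s' := by simpa using hr 1
  subst hs
  refine ⟨rfl, ?_, fun x => mul_left_cancel₀ h1.ns (hr x)⟩
  have := h1.c ⟨0, 0, 0, 1, by simp, by simp⟩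
  rw [h2.c] at this
  simpa using this.symm

theorem tor_mul {α β : MulAut (PG K)} {s l s' l' : K} {τ τ' : K ≃+* K} (h1 : IsTorP α s l τ)
    (h2 : IsTorP β s' l' τ') : IsTorP (α * β) (s * τ s') (l * τ l') (τ'.trans τ) where
  ns := mul_ne_zero h1.ns (by simpa using h2.ns)
  nl := mul_ne_zero h1.nl (by simpa using h2.nl)
  sl := by rw [star_mul', h1.sl, ← h1.tst, h2.sl]
  tst x := by
    show τ (τ' (star x)) = star (τ (τ' x))
    rw [h2.tst, h1.tst]
  r g := by
    show (α (β g)).r = _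
    rw [h1.r, h2.r, map_mul, mul_assoc]
    rfl
  a g := by
    show (α (β g)).a = _
    rw [h1.a, h2.a, map_mul, map_mul, map_mul, h1.tst, star_mul']
    show _ = _ * τ (τ' g.a)
    ring
  b g := by
    show (α (β g)).b = _
    rw [h1.b, h2.b, map_mul, map_mul]
    show _ = _ * τ (τ' g.b)
    ring
  c g := by
    show (α (β g)).c = _
    rw [h1.c, h2.c, map_mul, mul_assoc]
    rfl

/-! ### the index set -/

/-- the index set -/
abbrev X := Fin 8 × Bool × Bool

/-- the class of an index: the action on the plane is `κ ↦ ι ^ e * κ` or `ι ^ e * star κ` -/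
def qx (x : X) : ℕ × Bool := ((x.1.val + 2 * x.2.1.toNat) % 4, x.2.2)

/-- composition of the classes -/
def qc (a b : ℕ × Bool) : ℕ × Bool := ((a.1 + (bif a.2 then 3 else 1) * b.1) % 4, xor a.2 b.2)

variable (ι) in
/-- `α` has index `x` -/
def Par (α : MulAut (PG K)) (x : X) : Prop := IsTorP α ((1 + ι) ^ x.1.val) (lb x.2.1) (tb x.2.2)

theorem par_ext {α β : MulAut (PG K)} {x : X} (h1 : Par ι α x) (h2 : Par ι β x) : α = β := tor_ext h1 h2

theorem Nine.par_inj (h : Nine K ι) {α : MulAut (PG K)} {x y : X} (h1 : Par ι α x) (h2 : Par ι α y) : x = y := by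
  obtain ⟨hs, hl, ht⟩ := tor_uniq h1 h2
  obtain ⟨i, j, b⟩ := x
  obtain ⟨i', j', b'⟩ := y
  have e1 : i = i' := Fin.ext (h.zpow_inj i.2 i'.2 hs)
  have e2 : j = j' := h.lb_inj hl
  have e3 : b = b' := h.tb_inj (ht ι)
  rw [e1, e2, e3]

theorem Nine.exists_par (h : Nine K ι) {α : MulAut (PG K)} {s l : K} {τ : K ≃+* K} (h1 : IsTorP α s l τ) :
    ∃ x, Par ι α x := by
  obtain ⟨i, hi, hs⟩ := h.exists_pow s h1.ns
  obtain ⟨j, hl⟩ := h.el h1.nl h1.sl
  obtain ⟨b, ht⟩ := h.tau τ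
  refine ⟨(⟨i, hi⟩, j, b), ?_⟩
  show IsTorP α ((1 + ι) ^ i) (lb j) (tb b)
  rw [hs, ← hl, ← ht]
  exact h1

/-- the multiplier -/
theorem Nine.mu (h : Nine K ι) (x : X) :
    (lb x.2.1 : K) * (1 + ι) ^ x.1.val * (star ((1 + ι) ^ x.1.val))⁻¹ = ι ^ (qx x).1 := by
  rw [mul_assoc, h.z_quot, h.lb_eq, ← pow_add, h.pow_mod]
  unfold qx
  rw [add_comm]

theorem Nine.act (h : Nine K ι) (x : X) (κ : K) :
    actK ((1 + ι) ^ x.1.val) (lb x.2.1) (tb x.2.2) κ = ι ^ (qx x).1 * tb (qx x).2 κ := by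
  unfold actK
  rw [h.mu x]
  rfl

theorem qx_lt (x : X) : (qx x).1 < 4 := Nat.mod_lt _ (by norm_num)

/-- composition -/
theorem Nine.par_mul (h : Nine K ι) {α β : MulAut (PG K)} {x y w : X} (h1 : Par ι α x) (h2 : Par ι β y)
    (h3 : Par ι (α * β) w) : qx w = qc (qx x) (qx y) := by
  obtain ⟨hs, hl, ht⟩ := tor_uniq h3 (tor_mul h1 h2)
  have e1 : ι ^ (qx w).1 = ι ^ (qc (qx x) (qx y)).1 := by
    rw [← h.mu w, hs, hl]
    have e2 : (lb x.2.1 * tb x.2.2 (lb y.2.1) : K) * ((1 + ι) ^ x.1.val * tb x.2.2 ((1 + ι) ^ y.1.val)) *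
        (star ((1 + ι) ^ x.1.val * tb x.2.2 ((1 + ι) ^ y.1.val)))⁻¹ =
        (lb x.2.1 * (1 + ι) ^ x.1.val * (star ((1 + ι) ^ x.1.val))⁻¹) *
          tb x.2.2 (lb y.2.1 * (1 + ι) ^ y.1.val * (star ((1 + ι) ^ y.1.val))⁻¹) := by
      rw [map_mul (tb x.2.2), map_mul (tb x.2.2), map_inv₀ (tb x.2.2), h1.tst, star_mul', mul_inv]
      ring
    rw [e2, h.mu x, h.mu y, map_pow, h.tb_i, ← pow_mul, ← pow_add, h.pow_mod]
    rfl
  have e2 : (qx w).2 = (qc (qx x) (qx y)).2 := by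
    have e3 := ht ι
    have e4 : (tb w.2.2 ι : K) = tb (xor x.2.2 y.2.2) ι := by
      rw [e3]
      show tb x.2.2 (tb y.2.2 ι) = _
      rw [h.tb_i y.2.2, map_pow, h.tb_i x.2.2, h.tb_i, ← pow_mul, h.pow_mod]
      generalize x.2.2 = a
      generalize y.2.2 = b
      cases a <;> cases b <;> rfl
    exact h.tb_inj e4
  exact Prod.ext (h.pow_inj (qx_lt w) (Nat.mod_lt _ (by norm_num)) e1) e2

/-- the automorphisms exist -/
def HasAll (K : Type u) [Field K] [StarRing K] : Prop :=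
  (∀ (s l : K) (τ : K ≃+* K), s ≠ 0 → l ≠ 0 → star l = l → ∃ α, IsTorP α s l τ) ∧
    (∀ α ∈ TP K, ∃ s l τ, IsTorP α s l τ)

theorem Nine.exists_aut (h : Nine K ι) (hG : HasAll K) (x : X) : ∃ α, Par ι α x := by
  refine hG.1 _ _ _ (pow_ne_zero _ h.z_ne) ?_ ?_
  · cases x.2.1 with
    | false => exact one_ne_zero
    | true => exact neg_ne_zero.mpr one_ne_zero
  · cases x.2.1 with
    | false => exact star_one K
    | true =>
      show star (-1 : K) = -1
      rw [star_neg, star_one]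

theorem par_mem {α : MulAut (PG K)} {x : X} (h1 : Par ι α x) : α ∈ TP K :=
  Subgroup.subset_closure ⟨_, _, _, h1⟩

open Classical in
/-- the indices of the elements of `D` -/
noncomputable def SD (Φ : X → MulAut (PG K)) (D : Subgroup (MulAut (PG K))) : Finset X :=
  Finset.univ.filter fun x => Φ x ∈ D

theorem mem_SD {Φ : X → MulAut (PG K)} {D : Subgroup (MulAut (PG K))} {x : X} : x ∈ SD Φ D ↔ Φ x ∈ D := by
  simp [SD]

section

variable (h : Nine K ι) (hG : HasAll K) {Φ : X → MulAut (PG K)} (hΦ : ∀ x, Par ι (Φ x) x)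

include h hG hΦ

theorem exists_index {α : MulAut (PG K)} (hα : α ∈ TP K) : ∃ x, Φ x = α := by
  obtain ⟨s, l, τ, h1⟩ := hG.2 α hα
  obtain ⟨x, hx⟩ := h.exists_par h1
  exact ⟨x, par_ext (hΦ x) hx⟩

theorem card_D {D : Subgroup (MulAut (PG K))} (hD : D ≤ TP K) : Nat.card D = (SD Φ D).card := by
  have h1 : Nat.card (SD Φ D) = (SD Φ D).card := by
    rw [Nat.card_eq_fintype_card, Fintype.card_coe]
  rw [← h1]
  refine (Nat.card_congr (Equiv.ofBijective (fun x : SD Φ D => (⟨Φ x.1, mem_SD.mp x.2⟩ : D)) ⟨?_, ?_⟩)).symm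
  · rintro ⟨x, hx⟩ ⟨y, hy⟩ hxy
    have h2 : Φ x = Φ y := congrArg Subtype.val hxy
    have h3 := hΦ y
    rw [← h2] at h3
    exact Subtype.ext (h.par_inj (hΦ x) h3)
  · rintro ⟨α, hα⟩
    obtain ⟨x, hx⟩ := exists_index h hG hΦ (hD hα)
    exact ⟨⟨x, mem_SD.mpr (by rw [hx]; exact hα)⟩, Subtype.ext hx⟩

theorem eq_of_SD {D D' : Subgroup (MulAut (PG K))} (hD : D ≤ TP K) (hD' : D' ≤ TP K) (h1 : SD Φ D = SD Φ D') :
    D = D' := by
  ext α
  constructor
  · intro hα
    obtain ⟨x, rfl⟩ := exists_index h hG hΦ (hD hα)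
    exact mem_SD.mp (h1 ▸ mem_SD.mpr hα)
  · intro hα
    obtain ⟨x, rfl⟩ := exists_index h hG hΦ (hD' hα)
    exact mem_SD.mp (h1 ▸ mem_SD.mpr hα)

theorem cls_zero {D : Subgroup (MulAut (PG K))}
    (hD : HasTorP D (fun t => t ^ 2) (fun t => (t * star t)⁻¹)) (x : X) (hx : qx x = (0, false)) : Φ x ∈ D := by
  have key : ∀ n : ℕ, (1 + ι) ^ (2 * n) = (1 + ι) ^ x.1.val → (lb x.2.1 : K) = ((1 + ι) ^ (4 * n))⁻¹ → Φ x ∈ D := by
    intro n h1 h2
    refine hD ((1 + ι) ^ n) (pow_ne_zero _ h.z_ne) (Φ x) ?_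
    have h3 := hΦ x
    unfold Par at h3
    have h4 : x.2.2 = false := congrArg Prod.snd hx
    rw [h4, h2, ← h1] at h3
    have h5 : (1 + ι) ^ n * star ((1 + ι) ^ n) = (1 + ι) ^ (4 * n) := by
      rw [h.star_eq, ← pow_mul, ← pow_add]
      congr 1
      ring
    show IsTorP (Φ x) (((1 + ι) ^ n) ^ 2) (((1 + ι) ^ n * star ((1 + ι) ^ n))⁻¹) (RingEquiv.refl K)
    rw [h5, ← pow_mul, mul_comm n 2]
    exact h3
  obtain ⟨⟨i, hi⟩, j, b⟩ := x
  have h1 : (i + 2 * j.toNat) % 4 = 0 := congrArg Prod.fst hx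
  have e4 : ∀ m : ℕ, (1 + ι) ^ (4 * m) = (-1) ^ m := fun m => by rw [pow_mul, h.z4]
  cases j with
  | false =>
    simp only [Bool.toNat_false, mul_zero, add_zero] at h1
    have h2 : i = 0 ∨ i = 4 := by omega
    rcases h2 with rfl | rfl
    · exact key 0 rfl (by simp [lb])
    · exact key 2 rfl (by rw [e4]; simp only [lb, _root_.even_two, _root_.Even.neg_pow, _root_.one_pow, _root_.inv_one])
  | true =>
    simp only [Bool.toNat_true, mul_one] at h1
    have h2 : i = 2 ∨ i = 6 := by omega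
    rcases h2 with rfl | rfl
    · exact key 1 rfl (by rw [e4]; simp [lb])
    · exact key 3 rfl (by
        rw [e4]
        show (-1 : K) = _
        have : ((-1 : K) ^ 3) = -1 := by ring
        rw [this]
        simp)

theorem cls_eq {D : Subgroup (MulAut (PG K))} (hDT : D ≤ TP K)
    (hD : HasTorP D (fun t => t ^ 2) (fun t => (t * star t)⁻¹)) {x y : X} (hxy : qx x = qx y) (hx : Φ x ∈ D) :
    Φ y ∈ D := by
  have h1 : Φ y * (Φ x)⁻¹ ∈ TP K := (TP K).mul_mem (par_mem (hΦ y)) ((TP K).inv_mem (hDT hx))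
  obtain ⟨z, hz⟩ := exists_index h hG hΦ h1
  have h2 : Φ z * Φ x = Φ y := by rw [hz, inv_mul_cancel_right]
  have h3 : Par ι (Φ z * Φ x) y := by rw [h2]; exact hΦ y
  have h4 := h.par_mul (hΦ z) (hΦ x) h3
  rw [← hxy] at h4
  have h5 : (qx z).2 = false := by
    have := congrArg Prod.snd h4
    have h6 : (qx x).2 = xor (qx z).2 (qx x).2 := this
    revert h6
    cases (qx z).2 <;> cases (qx x).2 <;> simp
  have h6 : (qx z).1 = 0 := by
    have := congrArg Prod.fst h4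
    have h6 : (qx x).1 = ((qx z).1 + (bif (qx z).2 then 3 else 1) * (qx x).1) % 4 := this
    rw [h5] at h6
    simp only [cond_false, one_mul] at h6
    have h7 := qx_lt z
    have h8 := qx_lt x
    omega
  have h7 := cls_zero h hG hΦ hD z (Prod.ext h6 h5)
  rw [← h2]
  exact D.mul_mem h7 hx

theorem cls_mul {D : Subgroup (MulAut (PG K))} (hDT : D ≤ TP K)
    (hD : HasTorP D (fun t => t ^ 2) (fun t => (t * star t)⁻¹)) {a b : ℕ × Bool} (ha : a.1 < 4) (hb : b.1 < 4)
    (h1 : ∀ x, qx x = a → Φ x ∈ D) (h2 : ∀ x, qx x = b → Φ x ∈ D) : ∀ x, qx x = qc a b → Φ x ∈ D := by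
  have hs : ∀ a : ℕ × Bool, a.1 < 4 → ∃ x, qx x = a := by
    rintro ⟨e, b⟩ he
    have he' : e < 4 := he
    refine ⟨(⟨e, by omega⟩, false, b), Prod.ext ?_ rfl⟩
    show (e + 2 * 0) % 4 = e
    omega
  obtain ⟨x, hx⟩ := hs a ha
  obtain ⟨y, hy⟩ := hs b hb
  have h3 := D.mul_mem (h1 x hx) (h2 y hy)
  obtain ⟨w, hw⟩ := exists_index h hG hΦ (hDT h3)
  have h4 := h.par_mul (hΦ x) (hΦ y) (w := w) (by rw [← hw]; exact hΦ w)
  rw [hx, hy] at h4
  intro z hz
  exact cls_eq h hG hΦ hDT hD (h4.trans hz.symm) (by rw [hw]; exact h3)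

end

/-- the two possible index sets, for the reflection with multiplier `ι ^ c` -/
def A8 (c : ℕ) : Finset X := Finset.univ.filter fun x => qx x = (0, false) ∨ qx x = (c, true)
def A16 (c : ℕ) : Finset X :=
  Finset.univ.filter fun x => qx x = (0, false) ∨ qx x = (2, false) ∨ qx x = (c, true) ∨ qx x = ((c + 2) % 4, true)

theorem card_A8 {c : ℕ} (hc : c < 4) : (A8 c).card = 8 := by
  interval_cases c <;> decide +kernel

theorem card_A16 {c : ℕ} (hc : c < 4) : (A16 c).card = 16 := by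
  interval_cases c <;> decide +kernel

theorem Nine.pm (h : Nine K ι) {n : ℕ} {v : K} (hv : v ≠ 0) (h1 : ι ^ n * v = v ∨ ι ^ n * v = -v) :
    n % 4 = 0 ∨ n % 4 = 2 := by
  have h4 : n % 4 < 4 := Nat.mod_lt _ (by norm_num)
  rcases h1 with h1 | h1
  · left
    have h2 : ι ^ n = ι ^ 0 := by
      rw [pow_zero]
      exact mul_right_cancel₀ hv (by rw [h1, one_mul])
    rw [h.pow_mod n] at h2
    exact h.pow_inj h4 (by norm_num) h2
  · right
    have h2 : ι ^ n = ι ^ 2 := by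
      rw [h.i2]
      exact mul_right_cancel₀ hv (by rw [h1, neg_one_mul])
    rw [h.pow_mod n] at h2
    exact h.pow_inj h4 (by norm_num) h2

theorem cfg_data (h : Nine K ι) (T : Fin 6) (hT : T = 1 ∨ T = 2 ∨ T = 3 ∨ T = 4) :
    ∃ c < 4, ∃ v : K, v ≠ 0 ∧ v ∈ Cfg ι T ∧ (∀ w ∈ Cfg ι T, w = 0 ∨ w = v ∨ w = -v) ∧ star v = ι ^ c * v ∧
      ∀ f : K → K, (∀ x, f x = ι ^ c * star x) → CfgMap ι T f := by
  have hi : ι ≠ 0 := by
    intro h1
    have := h.sq
    rw [h1] at this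
    simp at this
  have hz' : (1 - ι) ≠ 0 := by
    rw [← h.star_z]
    exact star_ne_zero.mpr h.z_ne
  rcases hT with rfl | rfl | rfl | rfl
  · refine ⟨0, by norm_num, 1, one_ne_zero, ?_, ?_, by simp, fun f hf x => by rw [hf]; simp only [_root_.pow_zero, _root_.one_mul]⟩
    · show (1 : K) ∈ ({0, 1, -1} : Set K)
      simp only [_root_.Set.mem_insert_iff, _root_.one_ne_zero, _root_.Set.mem_singleton_iff, _root_.true_or, _root_.or_true]
    · intro w hw
      have hw' : w ∈ ({0, 1, -1} : Set K) := hw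
      simpa only [_root_.Set.mem_insert_iff, _root_.Set.mem_singleton_iff] using hw'
  · refine ⟨2, by norm_num, ι, hi, ?_, ?_, by rw [h.star_i, h.i2]; ring, fun f hf x => by rw [hf, h.i2]; ring⟩
    · show ι ∈ ({0, ι, -ι} : Set K)
      simp
    · intro w hw
      have hw' : w ∈ ({0, ι, -ι} : Set K) := hw
      simpa using hw'
  · refine ⟨3, by norm_num, 1 + ι, h.z_ne, ?_, ?_, ?_, fun f hf x => ?_⟩
    · show (1 + ι) ∈ ({1 + ι, -(1 + ι)} : Set K)
      simp only [_root_.neg_add_rev, _root_.Set.mem_insert_iff, _root_.Set.mem_singleton_iff, _root_.true_or]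
    · intro w hw
      have hw' : w ∈ ({1 + ι, -(1 + ι)} : Set K) := hw
      exact Or.inr (by simpa only [_root_.neg_add_rev, _root_.Set.mem_insert_iff, _root_.Set.mem_singleton_iff] using hw')
    · rw [h.star_z]
      linear_combination (1 - ι - ι * ι) * h.sq
    · rw [hf]
      linear_combination (ι * star x) * h.sq
  · refine ⟨1, by norm_num, 1 - ι, hz', ?_, ?_, ?_, fun f hf x => ?_⟩
    · show (1 - ι) ∈ ({1 - ι, -(1 - ι)} : Set K)
      simp
    · intro w hw
      have hw' : w ∈ ({1 - ι, -(1 - ι)} : Set K) := hw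
      exact Or.inr (by simpa using hw')
    · rw [star_sub, star_one, h.star_i]
      linear_combination h.sq
    · rw [hf]
      ring

theorem main14 (h : Nine K ι) (hG : HasAll K) {Φ : X → MulAut (PG K)} (hΦ : ∀ x, Par ι (Φ x) x) (T : Fin 6)
    {c : ℕ} (hc : c < 4) {v : K} (hv : v ≠ 0) (hvT : v ∈ Cfg ι T) (hT : ∀ w ∈ Cfg ι T, w = 0 ∨ w = v ∨ w = -v)
    (hsv : star v = ι ^ c * v) (hm : ∀ f : K → K, (∀ x, f x = ι ^ c * star x) → CfgMap ι T f)
    {D : Subgroup (MulAut (PG K))} (hDT : D ≤ TP K)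
    (hD : HasTorP D (fun t => t ^ 2) (fun t => (t * star t)⁻¹)) (hI : InvK D (Cfg ι T))
    (hM : ∀ (α : MulAut (PG K)) (s l : K) (τ : K ≃+* K), IsTorP α s l τ → CfgMap ι T (actK s l τ) → α ∈ D) :
    SD Φ D = A8 c ∨ SD Φ D = A16 c := by
  have c0 := cls_zero h hG hΦ hD
  have c1 : ∀ x, qx x = (c, true) → Φ x ∈ D := by
    intro x hx
    refine hM _ _ _ _ (hΦ x) (hm _ fun κ => ?_)
    rw [h.act, hx]
    rfl
  have hpos : ∀ x, Φ x ∈ D →
      qx x = (0, false) ∨ qx x = (2, false) ∨ qx x = (c, true) ∨ qx x = ((c + 2) % 4, true) := by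
    intro x hx
    have h1 := hI (Φ x) hx _ _ _ (hΦ x) v hvT
    rw [h.act] at h1
    have h2 := hT _ h1
    have h3 := qx_lt x
    have h0 : ι ^ (qx x).1 * tb (qx x).2 v ≠ 0 := by
      refine mul_ne_zero (pow_ne_zero _ ?_) (by simpa using hv)
      intro h1
      have := h.sq
      rw [h1] at this
      simp at this
    have h4 := h2.resolve_left h0
    cases hb : (qx x).2 with
    | false =>
      rw [hb, tb_false] at h4
      rcases h.pm hv h4 with h5 | h5
      · exact Or.inl (Prod.ext (show (qx x).1 = 0 by omega) hb)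
      · exact Or.inr (Or.inl (Prod.ext (show (qx x).1 = 2 by omega) hb))
    | true =>
      rw [hb, tb_true, hsv, ← mul_assoc, ← pow_add] at h4
      rcases h.pm hv h4 with h5 | h5
      · have h6 : (qx x).1 = c ∨ (qx x).1 = (c + 2) % 4 := by omega
        rcases h6 with h6 | h6
        · exact Or.inr (Or.inr (Or.inl (Prod.ext h6 hb)))
        · exact Or.inr (Or.inr (Or.inr (Prod.ext h6 hb)))
      · have h6 : (qx x).1 = c ∨ (qx x).1 = (c + 2) % 4 := by omega
        rcases h6 with h6 | h6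
        · exact Or.inr (Or.inr (Or.inl (Prod.ext h6 hb)))
        · exact Or.inr (Or.inr (Or.inr (Prod.ext h6 hb)))
  by_cases hex : ∃ x, Φ x ∈ D ∧ (qx x = (2, false) ∨ qx x = ((c + 2) % 4, true))
  · right
    obtain ⟨x, hx, hx'⟩ := hex
    have h24 : (2 : ℕ) < 4 := by norm_num
    have hc4 : (c + 2) % 4 < 4 := Nat.mod_lt _ (by norm_num)
    have both : (∀ x, qx x = (2, false) → Φ x ∈ D) ∧ (∀ x, qx x = ((c + 2) % 4, true) → Φ x ∈ D) := by
      rcases hx' with hx' | hx'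
      · have c2 : ∀ y, qx y = (2, false) → Φ y ∈ D := fun y hy => cls_eq h hG hΦ hDT hD (hx'.trans hy.symm) hx
        refine ⟨c2, ?_⟩
        have c3 := cls_mul h hG hΦ hDT hD (a := (2, false)) (b := (c, true)) h24 hc c2 c1
        intro y hy
        refine c3 y (hy.trans (Prod.ext ?_ rfl))
        show (c + 2) % 4 = (2 + 1 * c) % 4
        omega
      · have c2 : ∀ y, qx y = ((c + 2) % 4, true) → Φ y ∈ D :=
          fun y hy => cls_eq h hG hΦ hDT hD (hx'.trans hy.symm) hx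
        refine ⟨?_, c2⟩
        have c3 := cls_mul h hG hΦ hDT hD (a := ((c + 2) % 4, true)) (b := (c, true)) hc4 hc c2 c1
        intro y hy
        refine c3 y (hy.trans (Prod.ext ?_ rfl))
        show 2 = ((c + 2) % 4 + 3 * c) % 4
        omega
    ext y
    rw [mem_SD]
    unfold A16
    rw [Finset.mem_filter]
    constructor
    · intro hy
      exact ⟨Finset.mem_univ _, hpos y hy⟩
    · rintro ⟨_, hy | hy | hy | hy⟩
      · exact c0 y hy
      · exact both.1 y hy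
      · exact c1 y hy
      · exact both.2 y hy
  · left
    ext y
    rw [mem_SD]
    unfold A8
    rw [Finset.mem_filter]
    constructor
    · intro hy
      refine ⟨Finset.mem_univ _, ?_⟩
      rcases hpos y hy with h1 | h1 | h1 | h1
      · exact Or.inl h1
      · exact absurd ⟨y, hy, Or.inl h1⟩ hex
      · exact Or.inr h1
      · exact absurd ⟨y, hy, Or.inr h1⟩ hex
    · rintro ⟨_, hy | hy⟩
      · exact c0 y hy
      · exact c1 y hy

theorem main5 (h : Nine K ι) (hG : HasAll K) {Φ : X → MulAut (PG K)} (hΦ : ∀ x, Par ι (Φ x) x)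
    {D : Subgroup (MulAut (PG K))} (hDT : D ≤ TP K)
    (hD : HasTorP D (fun t => t ^ 2) (fun t => (t * star t)⁻¹))
    (hM : ∀ (α : MulAut (PG K)) (s l : K) (τ : K ≃+* K), IsTorP α s l τ → CfgMap ι 5 (actK s l τ) → α ∈ D) :
    SD Φ D = Finset.univ := by
  have c0 := cls_zero h hG hΦ hD
  have c1 : ∀ x, qx x = (0, true) → Φ x ∈ D := by
    intro x hx
    refine hM _ _ _ _ (hΦ x) (Or.inl fun κ => ?_)
    rw [h.act, hx]
    show ι ^ 0 * star κ = star κ
    rw [pow_zero, one_mul]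
  have c2 : ∀ x, qx x = (1, false) → Φ x ∈ D := by
    intro x hx
    refine hM _ _ _ _ (hΦ x) (Or.inr (Or.inr fun κ => ?_))
    rw [h.act, hx]
    show ι ^ 1 * κ = ι * κ
    rw [pow_one]
  have c3 := cls_mul h hG hΦ hDT hD (a := (1, false)) (b := (1, false)) (by norm_num) (by norm_num) c2 c2
  have c4 := cls_mul h hG hΦ hDT hD (a := (2, false)) (b := (1, false)) (by norm_num) (by norm_num) c3 c2
  have c5 := cls_mul h hG hΦ hDT hD (a := (1, false)) (b := (0, true)) (by norm_num) (by norm_num) c2 c1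
  have c6 := cls_mul h hG hΦ hDT hD (a := (2, false)) (b := (0, true)) (by norm_num) (by norm_num) c3 c1
  have c7 := cls_mul h hG hΦ hDT hD (a := (3, false)) (b := (0, true)) (by norm_num) (by norm_num) c4 c1
  rw [Finset.eq_univ_iff_forall]
  intro x
  rw [mem_SD]
  have h1 := qx_lt x
  have h2 : (qx x).1 = 0 ∨ (qx x).1 = 1 ∨ (qx x).1 = 2 ∨ (qx x).1 = 3 := by omega
  cases hb : (qx x).2 with
  | false =>
    rcases h2 with h2 | h2 | h2 | h2
    · exact c0 x (Prod.ext h2 hb)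
    · exact c2 x (Prod.ext h2 hb)
    · exact c3 x (Prod.ext h2 hb)
    · exact c4 x (Prod.ext h2 hb)
  | true =>
    rcases h2 with h2 | h2 | h2 | h2
    · exact c1 x (Prod.ext h2 hb)
    · exact c5 x (Prod.ext h2 hb)
    · exact c6 x (Prod.ext h2 hb)
    · exact c7 x (Prod.ext h2 hb)

end

/-- (3T) -/
theorem stThreeT (hG : StGrp.{u}) : StThreeT.{u} := by
  intro K _ _ p n hK hq ι hι
  have h := nine_of hK hq hι
  obtain ⟨-, -, g3, g4, -⟩ := hG hK
  have hA : HasAll K := ⟨g3, g4⟩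
  choose Φ hΦ using h.exists_aut hA
  have hX : (Finset.univ : Finset X).card = 32 := by rfl
  refine ⟨?_, H776.P4.cfg_shape hK hq hι, ?_, ?_⟩
  · rw [card_D h hA hΦ (le_refl (TP K))]
    have h1 : SD Φ (TP K) = Finset.univ := by
      rw [Finset.eq_univ_iff_forall]
      exact fun x => mem_SD.mpr (par_mem (hΦ x))
    rw [h1, hX]
  · have h1 := hΦ (1, false, false)
    refine ⟨_, _, _, _, h1, ?_, ?_⟩
    · have h2 : ∀ y, actK ((1 + ι) ^ ((1 : Fin 8), false, false).1.val) (lb ((1 : Fin 8), false, false).2.1)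
          (tb ((1 : Fin 8), false, false).2.2) y = ι * y := by
        intro y
        have := h.act (1, false, false) y
        rw [this]
        show ι ^ 1 * y = ι * y
        rw [pow_one]
      ext x
      constructor
      · intro hx
        have hx' : x ∈ ({0, 1, -1} : Set K) := hx
        have hx2 : x = 0 ∨ x = 1 ∨ x = -1 := by simpa only [_root_.Set.mem_insert_iff, _root_.Set.mem_singleton_iff] using hx'
        rcases hx2 with rfl | rfl | rfl
        · exact ⟨0, by show (0 : K) ∈ ({0, ι, -ι} : Set K); simp, by rw [h2]; simp⟩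
        · exact ⟨-ι, by show (-ι : K) ∈ ({0, ι, -ι} : Set K); simp, by rw [h2]; linear_combination h.sq⟩
        · exact ⟨ι, by show (ι : K) ∈ ({0, ι, -ι} : Set K); simp, by rw [h2]; linear_combination -h.sq⟩
      · rintro ⟨y, hy, rfl⟩
        have hy' : y ∈ ({0, ι, -ι} : Set K) := hy
        have hy2 : y = 0 ∨ y = ι ∨ y = -ι := by simpa using hy'
        rw [h2]
        show _ ∈ ({0, 1, -1} : Set K)
        rcases hy2 with rfl | rfl | rfl
        · simp only [_root_.MulZeroClass.mul_zero, _root_.Set.mem_insert_iff, _root_.zero_ne_one, _root_.Set.mem_singleton_iff, _root_.zero_eq_neg, _root_.one_ne_zero, _root_.or_self, _root_.or_false]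
        · rw [h.sq]
          simp only [_root_.Set.mem_insert_iff, _root_.neg_eq_zero, _root_.one_ne_zero, _root_.Set.mem_singleton_iff, _root_.or_true]
        · rw [mul_neg, h.sq]
          simp only [_root_.neg_neg, _root_.Set.mem_insert_iff, _root_.one_ne_zero, _root_.Set.mem_singleton_iff, _root_.true_or, _root_.or_true]
    · have h2 : ∀ y, actK ((1 + ι) ^ ((1 : Fin 8), false, false).1.val) (lb ((1 : Fin 8), false, false).2.1)
          (tb ((1 : Fin 8), false, false).2.2) y = ι * y := by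
        intro y
        have := h.act (1, false, false) y
        rw [this]
        show ι ^ 1 * y = ι * y
        rw [pow_one]
      ext x
      constructor
      · intro hx
        have hx' : x ∈ ({1 + ι, -(1 + ι)} : Set K) := hx
        have hx2 : x = 1 + ι ∨ x = -(1 + ι) := by simpa only [_root_.neg_add_rev, _root_.Set.mem_insert_iff, _root_.Set.mem_singleton_iff] using hx'
        rcases hx2 with rfl | rfl
        · exact ⟨1 - ι, by show (1 - ι : K) ∈ ({1 - ι, -(1 - ι)} : Set K); simp, by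
            rw [h2]; linear_combination h.sq⟩
        · exact ⟨-(1 - ι), by show (-(1 - ι) : K) ∈ ({1 - ι, -(1 - ι)} : Set K); simp, by
            rw [h2]; linear_combination -h.sq⟩
      · rintro ⟨y, hy, rfl⟩
        have hy' : y ∈ ({1 - ι, -(1 - ι)} : Set K) := hy
        have hy2 : y = 1 - ι ∨ y = -(1 - ι) := by simpa using hy'
        rw [h2]
        show _ ∈ ({1 + ι, -(1 + ι)} : Set K)
        rcases hy2 with rfl | rfl
        · left
          linear_combination -h.sq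
        · right
          show _ = -(1 + ι)
          linear_combination h.sq
  · intro T D hDT hD hI hM
    have hcase : ∀ (D : Subgroup (MulAut (PG K))), D ≤ TP K →
        HasTorP D (fun t => t ^ 2) (fun t => (t * star t)⁻¹) → InvK D (Cfg ι T) →
        (∀ (α : MulAut (PG K)) (s l : K) (τ : K ≃+* K), IsTorP α s l τ → CfgMap ι T (actK s l τ) → α ∈ D) →
        ∀ (_ : T = 5), SD Φ D = Finset.univ := by
      rintro D hDT hD hI hM rfl
      exact main5 h hA hΦ hDT hD hM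
    refine ⟨fun hT => ?_, fun hT => ?_, ?_⟩
    · obtain ⟨c, hc, v, hv, hvT, hw, hsv, hm⟩ := cfg_data h T hT
      rw [card_D h hA hΦ hDT]
      rcases main14 h hA hΦ T hc hv hvT hw hsv hm hDT hD hI hM with h1 | h1
      · rw [h1, card_A8 hc]
        exact Or.inl rfl
      · rw [h1, card_A16 hc]
        exact Or.inr rfl
    · rw [card_D h hA hΦ hDT, hcase D hDT hD hI hM hT, hX]
    · intro D' hT0 hDT' hD' hI' hM' hcard
      refine eq_of_SD h hA hΦ hDT hDT' ?_
      have hT : (T = 1 ∨ T = 2 ∨ T = 3 ∨ T = 4) ∨ T = 5 := by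
        revert hT0
        clear * -
        revert T
        decide
      rcases hT with hT | hT
      · rw [card_D h hA hΦ hDT, card_D h hA hΦ hDT'] at hcard
        obtain ⟨c, hc, v, hv, hvT, hw, hsv, hm⟩ := cfg_data h T hT
        rcases main14 h hA hΦ T hc hv hvT hw hsv hm hDT hD hI hM with h1 | h1 <;>
          rcases main14 h hA hΦ T hc hv hvT hw hsv hm hDT' hD' hI' hM' with h2 | h2
        · rw [h1, h2]
        · rw [h1, h2, card_A8 hc, card_A16 hc] at hcard
          omega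
        · rw [h1, h2, card_A8 hc, card_A16 hc] at hcard
          omega
        · rw [h1, h2]
      · rw [hcase D hDT hD hI hM hT, hcase D' hDT' hD' hI' hM' hT]

end Cfsg.Agent.H473.P4
end

-- part: H772/P4/Gen
section
/-!
# S5210: general facts for the assembly (twisting by automorphisms, orders)
-/

set_option autoImplicit false

namespace Cfsg.Agent.H772.P4

open Cfsg Cfsg.FusionSystem Cfsg.Agent.H776.P4 Cfsg.Agent.H802
open Cfsg.Agent.H756.PU (HypK Ess Inv Com NormAut TIAut AF)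

universe u

section gen

variable {G : Type u} [Group G]

theorem restr_inv {Q : Subgroup G} {θ : MulAut G} {t : MulAut Q} (ht : ∀ e : Q, ((t e : Q) : G) = θ e) :
    ∀ e : Q, ((t⁻¹ e : Q) : G) = θ⁻¹ e := by
  intro e
  apply θ.injective
  rw [← ht, MulAut.apply_inv_self, MulAut.apply_inv_self]

theorem map_conj_of_comm {A : Type*} [Group A] (t : A) (Γ : Subgroup A) (h : ∀ d ∈ Γ, t * d = d * t) :
    Γ.map (MulAut.conj t).toMonoidHom = Γ := by
  apply le_antisymm
  · rintro _ ⟨x, hx, rfl⟩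
    show t * x * t⁻¹ ∈ Γ
    rw [h x hx, mul_assoc, mul_inv_cancel, mul_one]
    exact hx
  · intro x hx
    refine ⟨x, hx, ?_⟩
    show t * x * t⁻¹ = x
    rw [h x hx, mul_assoc, mul_inv_cancel, mul_one]

/-- the order of `Inn(G) D` for `D` of order prime to `p` -/
theorem card_inn_sup [Finite G] {p : ℕ} [Fact p.Prime] (hp : IsPGroup p (⊤ : Subgroup G)) (D : Subgroup (MulAut G))
    (hD : (Nat.card D).Coprime p) :
    Nat.card ((MulAut.conj : G →* MulAut G).range ⊔ D : Subgroup (MulAut G)) =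
      Nat.card (MulAut.conj : G →* MulAut G).range * Nat.card D := by
  have hfin : Finite (MulAut G) :=
    Finite.of_injective (fun α : MulAut G => α.toEquiv) (fun a b h => by
      ext x; exact congrArg (fun e : G ≃ G => e x) h)
  have hn : (MulAut.conj : G →* MulAut G).range.Normal := by
    constructor
    rintro _ ⟨g, rfl⟩ α
    refine ⟨α g, ?_⟩
    ext x
    simp only [MulAut.conj_apply, _root_.MulAut.mul_apply, _root_.MulAut.inv_apply, _root_.map_mul, _root_.MulEquiv.apply_symm_apply, _root_.map_inv]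
  have hdis : (MulAut.conj : G →* MulAut G).range ⊓ D = ⊥ := by
    rw [eq_bot_iff]
    rintro x ⟨⟨g, rfl⟩, hx⟩
    rw [Subgroup.mem_bot]
    obtain ⟨k, hk⟩ := hp ⟨g, Subgroup.mem_top g⟩
    have hk' : g ^ p ^ k = 1 := congrArg Subtype.val hk
    have h1 : (MulAut.conj g) ^ p ^ k = 1 := by rw [← map_pow, hk', map_one]
    have h2 : orderOf (MulAut.conj g) ∣ p ^ k := orderOf_dvd_of_pow_eq_one h1
    have h3 : orderOf (MulAut.conj g) ∣ Nat.card D := by
      have := orderOf_dvd_natCard (⟨MulAut.conj g, hx⟩ : D)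
      rwa [← Subgroup.orderOf_coe] at this
    have h4 : Nat.Coprime (Nat.card D) (p ^ k) := hD.pow_right k
    have h5 : orderOf (MulAut.conj g) = 1 := Nat.eq_one_of_dvd_coprimes h4 h3 h2
    exact orderOf_eq_one_iff.1 h5
  have h6 := Subgroup.relIndex_mul_relIndex ⊥ (MulAut.conj : G →* MulAut G).range
    ((MulAut.conj : G →* MulAut G).range ⊔ D) bot_le le_sup_left
  rw [Subgroup.relIndex_bot_left, Subgroup.relIndex_bot_left, Subgroup.relIndex_sup_left,
    ← Subgroup.inf_relIndex_right, hdis, Subgroup.relIndex_bot_left] at h6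
  exact h6.symm

end gen

section three

variable {K : Type u} [Field K] [StarRing K] {p n : ℕ}

theorem p_three (hK : HypK K p n) (h3 : p ^ n = 3) : p = 3 := by
  have h1 : p ∣ 3 := h3 ▸ dvd_pow_self p (by have := hK.hn; omega)
  exact (Nat.prime_dvd_prime_iff_eq hK.pp Nat.prime_three).1 h1

theorem three_zero (hK : HypK K p n) (h3 : p ^ n = 3) : (3 : K) = 0 := by
  have := hK.char
  have h := CharP.cast_eq_zero K p
  rw [p_three hK h3] at h
  exact_mod_cast h

theorem one_ne_neg (hK : HypK K p n) (h3 : p ^ n = 3) : (1 : K) ≠ -1 := by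
  intro h
  have h1 := three_zero hK h3
  have : (1 : K) = 0 := by linear_combination h1 - h
  exact one_ne_zero this

theorem mem_center_iff (hK : HypK K p n) (h3 : p ^ n = 3) (x : PG K) : x ∈ Subgroup.center (PG K) ↔ x ∈ PZ K := by
  rw [Subgroup.mem_center_iff]
  have h30 := three_zero hK h3
  constructor
  · intro h
    have hc : x.c = 0 := by
      have := congrArg PG.b (h { r := 1, a := 0, b := 0, c := 0, ha := by simp, hc := by simp })
      simpa [PG.mul_b] using this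
    have hr : x.r = 0 := by
      have := congrArg PG.b (h { r := 0, a := 0, b := 0, c := 1, ha := by simp, hc := by simp })
      simpa [PG.mul_b] using this.symm
    have hb : x.b = 0 := by
      have := congrArg PG.a (h { r := x.b, a := 0, b := 0, c := 0, ha := by simp, hc := by simp })
      simp only [PG.mul_a, hc, hr, star_zero, mul_zero, add_zero, zero_add] at this
      have h1 : x.b * star x.b = 0 := by
        linear_combination this * (-1) + x.b * star x.b * h30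
      rcases mul_eq_zero.1 h1 with h2 | h2
      · exact h2
      · have := congrArg star h2
        rwa [star_star, star_zero] at this
    exact ⟨hr, hb, hc⟩
  · rintro ⟨h1, h2, h4⟩ g
    ext
    · simp [h1]
    · simp only [PG.mul_a, h1, h2, h4, add_comm, _root_.star_zero, _root_.MulZeroClass.mul_zero, _root_.add_zero, _root_.MulZeroClass.zero_mul]
    · simp [PG.mul_b, h1, h2, h4]
    · simp [h4]

theorem card_PZ (hK : HypK K p n) (h3 : p ^ n = 3) : Nat.card (PZ K) = 3 := by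
  let z : PG K := { r := 0, a := 1, b := 0, c := 0, ha := by simp, hc := by simp }
  let z' : PG K := { r := 0, a := -1, b := 0, c := 0, ha := by simp, hc := by simp }
  have h1 : ((PZ K : Subgroup (PG K)) : Set (PG K)) = {1, z, z'} := by
    ext x
    constructor
    · rintro ⟨h1, h2, h4⟩
      have h5 : x.a ^ 3 = x.a := by
        have := x.ha
        rwa [hK.star_eq, h3] at this
      have h6 : x.a = 0 ∨ x.a = 1 ∨ x.a = -1 := by
        have h7 : x.a * ((x.a - 1) * (x.a + 1)) = 0 := by linear_combination h5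
        rcases mul_eq_zero.1 h7 with h8 | h8
        · exact Or.inl h8
        · rcases mul_eq_zero.1 h8 with h9 | h9
          · exact Or.inr (Or.inl (sub_eq_zero.1 h9))
          · exact Or.inr (Or.inr (eq_neg_of_add_eq_zero_left h9))
      rcases h6 with h | h | h
      · left
        ext <;> simp [h1, h2, h4, h]
      · right; left
        ext <;> simp [z, h1, h2, h4, h]
      · right; right
        ext <;> simp [z', h1, h2, h4, h]
    · rintro (rfl | rfl | rfl)
      · exact (PZ K).one_mem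
      · exact ⟨rfl, rfl, rfl⟩
      · exact ⟨rfl, rfl, rfl⟩
  have h2 : (((PZ K : Subgroup (PG K)) : Set (PG K))).ncard = 3 := by
    rw [Set.ncard_eq_three]
    refine ⟨1, z, z', ?_, ?_, ?_, h1⟩
    · intro h
      have := congrArg PG.a h
      simp [z] at this
    · intro h
      have := congrArg PG.a h
      simp [z'] at this
    · intro h
      have := congrArg PG.a h
      exact one_ne_neg hK h3 this
  rw [← h2]
  rfl

theorem card_inn (hK : HypK K p n) (h3 : p ^ n = 3) (hc : Nat.card (PG K) = (p ^ n) ^ 6) :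
    Nat.card (MulAut.conj : PG K →* MulAut (PG K)).range = 243 := by
  have h1 : (MulAut.conj : PG K →* MulAut (PG K)).ker = Subgroup.center (PG K) := by
    ext x
    rw [MonoidHom.mem_ker, Subgroup.mem_center_iff]
    constructor
    · intro h g
      have := congrArg (fun α : MulAut (PG K) => α g) h
      have h2 : x * g * x⁻¹ = g := this
      have h4 := congrArg (fun y => y * x) h2
      simpa only [mul_assoc, _root_.inv_mul_cancel, _root_.mul_one] using h4.symm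
    · intro h
      ext1 g
      show x * g * x⁻¹ = g
      rw [← h g, mul_assoc, mul_inv_cancel, mul_one]
  have h2 : Subgroup.center (PG K) = PZ K := Subgroup.ext fun x => mem_center_iff hK h3 x
  have h4 := Subgroup.card_mul_index (MulAut.conj : PG K →* MulAut (PG K)).ker
  rw [Subgroup.index_ker, h1, h2, card_PZ hK h3, hc, h3] at h4
  omega

end three

end Cfsg.Agent.H772.P4
end

-- part: H772/P4/AsmThree
section
/-!
# S5210: the assembly for `q = 3`
-/

set_option autoImplicit false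

namespace Cfsg.Agent.H772.P4

open Cfsg Cfsg.FusionSystem Cfsg.Agent.H802 Cfsg.Agent.H776.P4
open Cfsg.Agent.H756.PU (HypK Ess Inv Com NormAut TIAut AF)
open Cfsg.Agent.H756

universe u

/-- the pieces for `q = 3` -/
structure Pcs3 : Prop extends Pcs.{u} where
  d3 : StThreeD.{u}
  n3 : StThreeN.{u}
  t3 : StThreeT.{u}
  ep : StEp.{u}
  lamN : StLamN.{u}
  mcl : StThreeP.{u} 8 240
  mcl2 : StThreeP.{u} 16 480
  u6 : StThreeP.{u} 8 384
  u62 : StThreeP.{u} 16 768
  co2 : StThreeP.{u} 32 3840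

section

variable {K : Type u} [Field K] [StarRing K] {p n : ℕ}

/-- what is preserved by the twists -/
structure Rl (p : ℕ) (F F' : FusionSystem (⊤ : Subgroup (PG K))) : Prop where
  real : F'.IsRealizable p ↔ F.IsRealizable p
  af : Nat.card (AF F') = Nat.card (AF F)
  aq : Nat.card (F'.autGroup (PQ K)) = Nat.card (F.autGroup (PQ K))

theorem Rl.refl (F : FusionSystem (⊤ : Subgroup (PG K))) : Rl p F F := ⟨Iff.rfl, rfl, rfl⟩

theorem Rl.trans {F F' F'' : FusionSystem (⊤ : Subgroup (PG K))} (h : Rl p F F') (h' : Rl p F' F'') : Rl p F F'' :=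
  ⟨h'.real.trans h.real, h'.af.trans h.af, h'.aq.trans h.aq⟩

theorem Rl.of_tw {F F' : FusionSystem (⊤ : Subgroup (PG K))} {θ : MulAut (PG K)} (h : Tw p F F' θ) : Rl p F F' :=
  ⟨h.real, by rw [h.AF_eq, H776.P4.card_map_conj], h.card _ (Or.inr rfl)⟩

/-- the multiplicities `|Γ| / (81 |D|)` -/
def mT : Fin 6 → ℕ := ![12, 48, 48, 30, 30, 120]

theorem IsEp.ext {κ : K} {ε ε' : MulAut (PG K)} (h : IsEp κ ε) (h' : IsEp κ ε') : ε = ε' := by
  apply MulEquiv.ext
  intro g
  apply PG.ext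
  · rw [h.r, h'.r]
  · rw [h.a, h'.a]
  · rw [h.b, h'.b]
  · rw [h.c, h'.c]

/-- twisting a system in normal form by an element of the torus -/
theorem twist_tor (H : Pcs3.{u}) (hK : HypK K p n) {F : FusionSystem (⊤ : Subgroup (PG K))}
    {D : Subgroup (MulAut (PG K))} (h : NF p F D) {α : MulAut (PG K)} {s l : K} {τ : K ≃+* K} (hα : IsTorP α s l τ) :
    ∃ F' : FusionSystem (⊤ : Subgroup (PG K)), NF p F' (D.map (MulAut.conj α).toMonoidHom) ∧ Rl p F F' ∧
      ∀ t : MulAut (PQ K), IsRP α t → F'.autGroup (PQ K) = (F.autGroup (PQ K)).map (MulAut.conj t).toMonoidHom := by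
  have : Fact p.Prime := ⟨hK.pp⟩
  have hαT : α ∈ TP K := Subgroup.subset_closure ⟨s, l, τ, hα⟩
  obtain ⟨F', hT⟩ := exists_tw H.toPcs hK h.sat α
  have hD : D.map (MulAut.conj α).toMonoidHom ≤ TP K := by
    rintro _ ⟨d, hd, rfl⟩
    exact (TP K).mul_mem ((TP K).mul_mem hαT (h.parV.D_le hd)) ((TP K).inv_mem hαT)
  have hDc : (Nat.card (D.map (MulAut.conj α).toMonoidHom)).Coprime p := by
    rw [H776.P4.card_map_conj]
    exact h.parV.D_cop
  have hAF : AF F' = (MulAut.conj : PG K →* MulAut (PG K)).range ⊔ D.map (MulAut.conj α).toMonoidHom := by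
    rw [hT.AF_eq, h.AF_eq, Subgroup.map_sup, PU.map_conj_range]
  have hess := hT.ess h.ess
  have hpV := par_of H.toPcs hK hT.sat hess hD hDc hAF (Or.inl rfl) (fun hh => h.parV.nn ((hT.norm _ (Or.inl rfl)).1 hh))
  have hpQ := par_of H.toPcs hK hT.sat hess hD hDc hAF (Or.inr rfl) (fun hh => h.parQ.nn ((hT.norm _ (Or.inr rfl)).1 hh))
  refine ⟨F', ⟨hT.sat, hess, hAF, hpV, hpQ, (H.v hK _ _ hpV).1, ?_⟩, Rl.of_tw hT, fun t ht => hT.aut _ (Or.inr rfl) t ht⟩
  obtain ⟨t, ht⟩ := exists_res α (((H.ti hK).2 _ (Or.inl rfl)).2.2 α)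
  rw [hT.aut _ (Or.inl rfl) t ht]
  have hL := (H.lamN hK α hαT).1 t ht
  have ht' := restr_inv ht
  intro γ
  constructor
  · rintro ⟨γ', hγ', rfl⟩
    obtain ⟨l', hl', d, hd, δ, hδ, rfl⟩ := (h.eqV γ').1 hγ'
    refine ⟨t * l' * t⁻¹, ?_, α * d * α⁻¹, ⟨d, hd, rfl⟩, t * δ * t⁻¹, ?_, ?_⟩
    · rw [← hL]
      exact ⟨l', hl', rfl⟩
    · intro e
      show ((t (δ (t⁻¹ e)) : PV K) : PG K) = α (d (α⁻¹ e))
      rw [ht, hδ, ht']
    · show t * (l' * δ) * t⁻¹ = _
      group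
  · rintro ⟨l', hl', _, ⟨d, hd, rfl⟩, δ, hδ, rfl⟩
    rw [← hL] at hl'
    obtain ⟨l₀, hl₀, rfl⟩ := hl'
    refine ⟨l₀ * (t⁻¹ * δ * t), (h.eqV _).2 ⟨l₀, hl₀, d, hd, t⁻¹ * δ * t, ?_, rfl⟩, ?_⟩
    · intro e
      show ((t⁻¹ (δ (t e)) : PV K) : PG K) = d e
      rw [ht', hδ, ht]
      show α⁻¹ (α (d (α⁻¹ (α (e : PG K))))) = _
      rw [MulAut.inv_apply_self, MulAut.inv_apply_self]
    · show t * (l₀ * (t⁻¹ * δ * t)) * t⁻¹ = (t * l₀ * t⁻¹) * δ
      group

/-- translation of the configuration to the origin -/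
theorem norm_pt (H : Pcs3.{u}) (hK : HypK K p n) (h3 : p ^ n = 3) {ι : K} (hι : ι * ι = -1)
    {F : FusionSystem (⊤ : Subgroup (PG K))} {D : Subgroup (MulAut (PG K))} (h : NF p F D) :
    ∃ (F' : FusionSystem (⊤ : Subgroup (PG K))) (T : Fin 6), NF p F' D ∧ Rl p F F' ∧
      Pt (F'.autGroup (PQ K)) = Cfg ι T := by
  obtain ⟨κ, T, hfix, hPt, -, -, -, -⟩ := H.d3 hK h3 ι hι _ D h.parQ h.tor
  obtain ⟨-, hconj, hres, hpt, -, -⟩ := H.ep hK h3
  obtain ⟨ε, hε⟩ := (H.grp hK).2.2.2.2.2.1 (p_three hK h3) (-κ)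
  have hcomm : ∀ d ∈ D, ε * d = d * ε := by
    intro d hd
    obtain ⟨s, l, τ, hτ⟩ := (H.grp hK).2.2.2.1 d (h.parV.D_le hd)
    have h1 := hconj (-κ) d ε s l τ hτ hε
    have h2 : actK s l τ (-κ) = -κ := by
      have h4 := hfix d hd s l τ hτ
      unfold actK at h4 ⊢
      rw [map_neg, mul_neg, h4]
    rw [h2] at h1
    have h4 := IsEp.ext h1 hε
    rw [mul_inv_eq_iff_eq_mul] at h4
    exact h4.symm
  obtain ⟨F', hT⟩ := exists_tw H.toPcs hK h.sat ε
  have hAF : AF F' = (MulAut.conj : PG K →* MulAut (PG K)).range ⊔ D := by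
    rw [hT.AF_eq, h.AF_eq, Subgroup.map_sup, PU.map_conj_range, map_conj_of_comm _ _ hcomm]
  have hess := hT.ess h.ess
  obtain ⟨tV, htV⟩ := exists_res ε (((H.ti hK).2 _ (Or.inl rfl)).2.2 ε)
  obtain ⟨tQ, htQ⟩ := exists_res ε (((H.ti hK).2 _ (Or.inr rfl)).2.2 ε)
  refine ⟨F', T, ⟨hT.sat, hess, hAF, ?_, ?_, h.tor, ?_⟩, Rl.of_tw hT, ?_⟩
  · exact par_of H.toPcs hK hT.sat hess h.parV.D_le h.parV.D_cop hAF (Or.inl rfl)
      (fun hh => h.parV.nn ((hT.norm _ (Or.inl rfl)).1 hh))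
  · exact par_of H.toPcs hK hT.sat hess h.parV.D_le h.parV.D_cop hAF (Or.inr rfl)
      (fun hh => h.parQ.nn ((hT.norm _ (Or.inr rfl)).1 hh))
  · have h1 := hT.aut _ (Or.inl rfl) tV htV
    rw [hres (-κ) ε tV hε htV] at h1
    have h2 : (F.autGroup (PV K)).map (MulAut.conj (1 : MulAut (PV K))).toMonoidHom = F.autGroup (PV K) :=
      map_conj_of_comm _ _ fun d _ => by rw [one_mul, mul_one]
    rw [h1, h2]
    exact h.eqV
  · rw [hT.aut _ (Or.inr rfl) tQ htQ, hpt (-κ) ε tQ _ hε htQ (autInducedBy_le_autGroup F le_top), hPt]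
    ext x
    constructor
    · rintro ⟨y, ⟨z, hz, rfl⟩, rfl⟩
      rwa [neg_add_cancel_left]
    · intro hx
      exact ⟨κ + x, ⟨x, hx, rfl⟩, by rw [neg_add_cancel_left]⟩

/-- the data of a normalized system -/
theorem data (H : Pcs3.{u}) (hK : HypK K p n) (h3 : p ^ n = 3) {ι : K} (hι : ι * ι = -1)
    {F : FusionSystem (⊤ : Subgroup (PG K))} {D : Subgroup (MulAut (PG K))} (h : NF p F D) {T : Fin 6}
    (hT : Pt (F.autGroup (PQ K)) = Cfg ι T) :
    InvK D (Cfg ι T) ∧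
      (∀ (α : MulAut (PG K)) (s l : K) (τ : K ≃+* K), IsTorP α s l τ → CfgMap ι T (actK s l τ) → α ∈ D) ∧
      EqLD (F.autGroup (PQ K)) (LamP (Cfg ι T)) D ∧ HasTorK D ∧
      Nat.card (F.autGroup (PQ K)) = 81 * mT T * Nat.card D ∧ Nat.card (AF F) = 243 * Nat.card D := by
  have : Fact p.Prime := ⟨hK.pp⟩
  have hfin : Finite (PG K) := finite_PG H.toPcs hK
  obtain ⟨κ, T', -, hPt, hInv, hMap, hEq, hTor⟩ := H.d3 hK h3 ι hι _ D h.parQ h.tor
  have hTT : T' = T := (H.t3 hK h3 ι hι).2.1 κ T' T (hPt.symm.trans hT)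
  subst hTT
  refine ⟨hInv, hMap, ?_, hTor, ?_, ?_⟩
  · rw [← hT]
    exact hEq
  · obtain ⟨n0, n1, n2, n5⟩ := H.n3 hK h3 ι hι _ D h.parQ h.tor T' hT hEq
    fin_cases T'
    · exact n0 rfl
    · exact n1 (Or.inl rfl)
    · exact n1 (Or.inr rfl)
    · exact n2 (Or.inl rfl)
    · exact n2 (Or.inr rfl)
    · exact n5 rfl
  · rw [h.AF_eq, card_inn_sup (H.grp hK).2.1 D h.parV.D_cop, card_inn hK h3 (H.grp hK).1]

/-- the complete normal form, `T ∈ {0, 1, 3, 5}` -/
theorem norm_three (H : Pcs3.{u}) (hK : HypK K p n) (h3 : p ^ n = 3) {ι : K} (hι : ι * ι = -1)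
    {F : FusionSystem (⊤ : Subgroup (PG K))} {D : Subgroup (MulAut (PG K))} (h : NF p F D) :
    ∃ (F' : FusionSystem (⊤ : Subgroup (PG K))) (D' : Subgroup (MulAut (PG K))) (T : Fin 6), NF p F' D' ∧ Rl p F F' ∧
      Pt (F'.autGroup (PQ K)) = Cfg ι T ∧ (T = 0 ∨ T = 1 ∨ T = 3 ∨ T = 5) := by
  obtain ⟨F1, T, h1, hR1, hPt⟩ := norm_pt H hK h3 hι h
  obtain ⟨α, s, l, τ, hα, hc1, hc3⟩ := (H.t3 hK h3 ι hι).2.2.1
  obtain ⟨-, -, -, -, hpt, -⟩ := H.ep hK h3
  have key : ∀ T' : Fin 6, Cfg ι T' = {x | ∃ y ∈ Cfg ι T, x = actK s l τ y} → (T' = 0 ∨ T' = 1 ∨ T' = 3 ∨ T' = 5) →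
      ∃ (F' : FusionSystem (⊤ : Subgroup (PG K))) (D' : Subgroup (MulAut (PG K))) (T : Fin 6), NF p F' D' ∧ Rl p F F' ∧
      Pt (F'.autGroup (PQ K)) = Cfg ι T ∧ (T = 0 ∨ T = 1 ∨ T = 3 ∨ T = 5) := by
    intro T' hT' hT0
    obtain ⟨F2, h2, hR2, haut⟩ := twist_tor H hK h1 hα
    obtain ⟨t, ht⟩ := exists_res α (((H.ti hK).2 _ (Or.inr rfl)).2.2 α)
    refine ⟨F2, _, T', h2, hR1.trans hR2, ?_, hT0⟩
    rw [haut t ht, hpt α s l τ t _ hα ht (autInducedBy_le_autGroup F1 le_top), hPt, hT']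
  fin_cases T
  · exact ⟨F1, D, 0, h1, hR1, hPt, Or.inl rfl⟩
  · exact ⟨F1, D, 1, h1, hR1, hPt, Or.inr (Or.inl rfl)⟩
  · exact key 1 hc1 (Or.inr (Or.inl rfl))
  · exact ⟨F1, D, 3, h1, hR1, hPt, Or.inr (Or.inr (Or.inl rfl))⟩
  · exact key 3 hc3 (Or.inr (Or.inr (Or.inl rfl)))
  · exact ⟨F1, D, 5, h1, hR1, hPt, Or.inr (Or.inr (Or.inr rfl))⟩

theorem mT_inj {T T' : Fin 6} (hT : T = 0 ∨ T = 1 ∨ T = 3 ∨ T = 5) (hT' : T' = 0 ∨ T' = 1 ∨ T' = 3 ∨ T' = 5)
    (h : mT T = mT T') : T = T' := by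
  revert T T'
  decide

theorem twelve_le (T : Fin 6) : 12 ≤ mT T := by
  revert T
  decide

/-- the sporadic cases -/
theorem spor (H : Pcs3.{u}) (hK : HypK K p n) (h3 : p ^ n = 3) {ι : K} (hι : ι * ι = -1)
    {F : FusionSystem (⊤ : Subgroup (PG K))} {D : Subgroup (MulAut (PG K))} (h : NF p F D) {T : Fin 6}
    (hT : Pt (F.autGroup (PQ K)) = Cfg ι T) (hT0 : T = 0 ∨ T = 1 ∨ T = 3 ∨ T = 5) (hne : T ≠ 0) {d y : ℕ}
    (hP : StThreeP.{u} d y) (hd : Nat.card D = d) (hy : y = mT T * d) : F.IsRealizable p := by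
  have : Fact p.Prime := ⟨hK.pp⟩
  have hfin : Finite (PG K) := finite_PG H.toPcs hK
  have hfinA : Finite (MulAut (PG K)) :=
    Finite.of_injective (fun α : MulAut (PG K) => α.toEquiv) (fun a b h => by
      ext1 x; exact congrArg (fun e : PG K ≃ PG K => e x) h)
  obtain ⟨F1, sat1, real1, cA, cQ, nv, nq⟩ := hP hK h3
  obtain ⟨θ, F2, D2, hTw, hNF2⟩ := exists_NF H.toPcs hK sat1
    (fun E hE => ess_cases H.toPcs hK (by omega) sat1 hE) nv nq
  obtain ⟨F3, D3, T3, h3', hR, hPt3, hT3⟩ := norm_three H hK h3 hι hNF2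
  have hR' := (Rl.of_tw hTw).trans hR
  obtain ⟨a1, a2, a3, -, -, -⟩ := data H hK h3 hι h hT
  obtain ⟨b1, b2, b3, -, b5, b6⟩ := data H hK h3 hι h3' hPt3
  have hd3 : Nat.card D3 = d := by
    have := hR'.af
    rw [b6, cA] at this
    omega
  have hdpos : 0 < d := by
    rw [← hd]
    exact Nat.card_pos
  have hm : mT T3 = mT T := by
    have h5 := hR'.aq
    rw [b5, cQ, hy, hd3, mul_assoc] at h5
    have h6 : mT T3 * d = mT T * d := Nat.eq_of_mul_eq_mul_left (by norm_num) h5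
    exact Nat.eq_of_mul_eq_mul_right hdpos h6
  have hTT : T3 = T := mT_inj hT3 hT0 hm
  subst hTT
  have hDD : D = D3 :=
    ((H.t3 hK h3 ι hι).2.2.2 T3 D h.parV.D_le h.tor a1 a2).2.2 D3 hne h3'.parV.D_le h3'.tor b1 b2 (hd.trans hd3.symm)
  subst hDD
  have hF := h.eq_of H.toPcs hK h3' (a3.eq b3)
  rw [hF, hR'.real]
  exact real1

/-- `q = 3` -/
theorem real_three (H : Pcs3.{u}) (hK : HypK K p n) (h3 : p ^ n = 3)
    {F : FusionSystem (⊤ : Subgroup (PG K))} (hF : F.IsSaturated p) : F.IsRealizable p := by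
  have : Fact p.Prime := ⟨hK.pp⟩
  have hfin : Finite (PG K) := finite_PG H.toPcs hK
  have hess : ∀ E, F.IsEssential p E → E = PV K ∨ E = PQ K := fun E hE => ess_cases H.toPcs hK (by omega) hF hE
  by_cases hnV : ∀ γ ∈ F.autGroup (PV K), NormAut (⊤ : Subgroup (PG K)) γ
  · exact real_of_norm H.toPcs hK hF hess (Or.inl rfl) hnV
  by_cases hnQ : ∀ γ ∈ F.autGroup (PQ K), NormAut (⊤ : Subgroup (PG K)) γ
  · exact real_of_norm H.toPcs hK hF hess (Or.inr rfl) hnQ
  obtain ⟨ι, hι⟩ : ∃ ι : K, ι * ι = -1 := by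
    have := hK.fin
    have := Fintype.ofFinite K
    have hc : Fintype.card K % 4 ≠ 3 := by
      rw [← Nat.card_eq_fintype_card, hK.card, h3]
      norm_num
    obtain ⟨ι, hι⟩ := (FiniteField.isSquare_neg_one_iff).2 hc
    exact ⟨ι, hι.symm⟩
  obtain ⟨θ, F1, D1, hTw, hNF1⟩ := exists_NF H.toPcs hK hF hess hnV hnQ
  obtain ⟨F2, D, T, h, hR, hPt, hT⟩ := norm_three H hK h3 hι hNF1
  have hR' := (Rl.of_tw hTw).trans hR
  rw [← hR'.real]
  obtain ⟨a1, a2, a3, a4, a5, -⟩ := data H hK h3 hι h hPt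
  obtain ⟨c1, c2, -⟩ := (H.t3 hK h3 ι hι).2.2.2 T D h.parV.D_le h.tor a1 a2
  rcases hT with rfl | rfl | rfl | rfl
  · -- `T = 0`
    obtain ⟨F0, h0, hr0, hle⟩ := exists_real H.toPcs hK h a4
    have hL : LamP (Cfg ι 0) = LamQ K := (H.ep hK h3).2.2.2.2.2
    rw [hL] at a3
    have hsub : F0.autGroup (PQ K) ≤ F2.autGroup (PQ K) := fun γ hγ => (a3 γ).2 (hle γ hγ)
    obtain ⟨F0', T0, h0', hR0, hPt0⟩ := norm_pt H hK h3 hι h0
    have h5 := (data H hK h3 hι h0' hPt0).2.2.2.2.1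
    rw [hR0.aq] at h5
    have hfinQ : Finite (MulAut (PQ K)) :=
      Finite.of_injective (fun α : MulAut (PQ K) => α.toEquiv) (fun a b h => by
        ext1 x; exact congrArg (fun e : PQ K ≃ PQ K => e x) h)
    have hcard : Nat.card (F2.autGroup (PQ K)) ≤ Nat.card (F0.autGroup (PQ K)) := by
      rw [a5, h5]
      exact Nat.mul_le_mul_right _ (Nat.mul_le_mul_left _ (twelve_le T0))
    have heq : F0.autGroup (PQ K) = F2.autGroup (PQ K) := Subgroup.eq_of_le_of_card_ge hsub hcard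
    rw [h.eq_of H.toPcs hK h0 heq.symm]
    exact hr0
  · rcases c1 (Or.inl rfl) with hc | hc
    · exact spor H hK h3 hι h hPt (Or.inr (Or.inl rfl)) (by decide) H.u6 hc rfl
    · exact spor H hK h3 hι h hPt (Or.inr (Or.inl rfl)) (by decide) H.u62 hc rfl
  · rcases c1 (Or.inr (Or.inr (Or.inl rfl))) with hc | hc
    · exact spor H hK h3 hι h hPt (Or.inr (Or.inr (Or.inl rfl))) (by decide) H.mcl hc rfl
    · exact spor H hK h3 hι h hPt (Or.inr (Or.inr (Or.inl rfl))) (by decide) H.mcl2 hc rfl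
  · exact spor H hK h3 hι h hPt (Or.inr (Or.inr (Or.inr rfl))) (by decide) H.co2 (c2 rfl) rfl

end

end Cfsg.Agent.H772.P4
end

private theorem dce_b261679097bf : _root_.True := by
  try have : _root_.True := by simp only [_root_.Cfsg.Agent.H353.P4.QTwo.qq.eq_1]
  try have : _root_.True := by simp only [_root_.Cfsg.Agent.H353.P4.QTwo.bf.eq_1]
  try have : _root_.True := by simp only [_root_.Cfsg.Agent.H353.P4.QTwo.X.eq_1]
  try have : _root_.True := by simp only [_root_.Cfsg.Agent.H353.P4.QTwo.XX.eq_1]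
  try have : _root_.True := by simp only [_root_.Cfsg.Agent.H353.P4.QTwo.vX.eq_1]
  try have : _root_.True := by simp only [_root_.Cfsg.Agent.H353.P4.QTwo.badd.eq_1]
  try have : _root_.True := by simp only [_root_.Cfsg.Agent.H473.P4.lb.eq_1]
  try have : _root_.True := by simp only [_root_.Cfsg.Agent.H353.P4.QTwo.up.eq_1]
  try have : _root_.True := by simp only [_root_.Cfsg.Agent.H353.P4.QTwo.tt.eq_1]
  try have : _root_.True := by simp only [_root_.Cfsg.Agent.H353.P4.QTwo.TT.eq_1]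
  try have : _root_.True := by simp only [_root_.Cfsg.Agent.H353.P4.QTwo.bq.eq_1]
  try have : _root_.True := by simp only [_root_.Cfsg.Agent.H353.P4.QTwo.BB.eq_1]
  try have : _root_.True := by simp only [_root_.Cfsg.Agent.H353.P4.QTwo.bT.eq_1]
  try have : _root_.True := by simp only [_root_.Cfsg.Agent.H353.P4.QTwo.Wfun.eq_1]
  try have : _root_.True := by simp only [_root_.Cfsg.Agent.H353.P4.QTwo.bsm.eq_1]
  try have : _root_.True := by simp only [_root_.Cfsg.Agent.H353.P4.QTwo.F4.rho.congr_simp]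
  try have : _root_.True := by simp only [_root_.Cfsg.Agent.H353.P4.QTwo.zz.eq_1]
  try have : _root_.True := by simp only [_root_.Cfsg.Agent.H353.P4.QTwo.bchk.eq_1]
  try have : _root_.True := by simp only [_root_.Cfsg.Agent.H353.P4.QTwo.co.eq_1]
  try have : _root_.True := by simp only [_root_.Cfsg.Agent.H353.P4.QTwo.bX1.eq_1]
  try have : _root_.True := by simp only [_root_.Cfsg.Agent.H473.P4.lb.eq_2]
  try have : _root_.True := by simp only [_root_.Cfsg.Agent.H353.P4.QTwo.bX.eq_1]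
  try have : _root_.True := by simp only [_root_.Cfsg.Agent.H353.P4.QTwo.ball.eq_1]
  try have : _root_.True := by simp only [_root_.Cfsg.autInducedBy.eq_1]
  try have : _root_.True := by simp only [_root_.Cfsg.Agent.H353.P4.QTwo.ff.eq_1]
  try have : _root_.True := by simp only [_root_.Cfsg.Agent.H473.P4.SD.eq_1]
  try have : _root_.True := by simp only [_root_.Cfsg.Agent.H776.P4.PG.mk.congr_simp]
  exact _root_.True.intro
end
end

-- part: H568/P4/TwoU
section
set_option linter.all false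
open scoped Cfsg.Agent.FastGrp

-- part: H568/P4/TwoMask
section
/-!
# S5210, `q = 2`, piece (2U): the finite computation on bit masks (helper568)

`V` is the regular module for `U ≅ C₂ × C₂`; its elements are written as masks on the basis `w₀, w₁ = u₁ w₀,
w₂ = u₂ w₀, w₃ = u₁ u₂ w₀`.
-/

set_option autoImplicit false

set_option synthInstance.maxHeartbeats 400000
set_option synthInstance.maxSize 2000

namespace Cfsg.Agent.H568.P4

/-- masks -/
abbrev Mk := Bool × Bool × Bool × Bool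

def z0 : Mk := (false, false, false, false)
def e0 : Mk := (true, false, false, false)
def e1 : Mk := (false, true, false, false)
def e2 : Mk := (false, false, true, false)
def e3 : Mk := (false, false, false, true)

def xa (x y : Mk) : Mk := (xor x.1 y.1, xor x.2.1 y.2.1, xor x.2.2.1 y.2.2.1, xor x.2.2.2 y.2.2.2)

/-- the action of `u₁` -/
def s1 (x : Mk) : Mk := (x.2.1, x.1, x.2.2.2, x.2.2.1)

/-- the action of `u₂` -/
def s2 (x : Mk) : Mk := (x.2.2.1, x.2.2.2, x.1, x.2.1)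

def par (x : Mk) : Bool := xor x.1 (xor x.2.1 (xor x.2.2.1 x.2.2.2))

/-- multiplication by `w₁ + w₂ + w₃` -/
def th (x : Mk) : Mk := bif par x then (!x.1, !x.2.1, !x.2.2.1, !x.2.2.2) else x

/-- the linear map with given images of the basis -/
def app (c0 c1 c2 c3 x : Mk) : Mk :=
  xa (bif x.1 then c0 else z0) (xa (bif x.2.1 then c1 else z0) (xa (bif x.2.2.1 then c2 else z0)
    (bif x.2.2.2 then c3 else z0)))

/-- commutes with `u₁` -/
def ap1 (m p x : Mk) : Mk := app m (s1 m) p (s1 p) x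

/-- commutes with `u₂` -/
def ap2 (n q x : Mk) : Mk := app n q (s2 n) (s2 q) x

/-- the standard elements -/
def Y0 (x : Mk) : Mk := ap1 (false, false, false, true) (false, true, true, false) x

def W0 (x : Mk) : Mk := ap2 (false, false, false, true) (false, true, true, false) x

theorem decomp (x : Mk) : x = xa (bif x.1 then e0 else z0) (xa (bif x.2.1 then e1 else z0)
    (xa (bif x.2.2.1 then e2 else z0) (bif x.2.2.2 then e3 else z0))) := by
  obtain ⟨a, b, c, d⟩ := x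
  cases a <;> cases b <;> cases c <;> cases d <;> rfl

def lY : List (Mk × Mk) :=
  [((false, false, false, true), (false, true, true, false)), ((false, false, true, false), (true, false, true, false)),
   ((true, false, false, true), (false, true, false, false)), ((true, false, true, false), (true, false, false, false))]

def lW : List (Mk × Mk) :=
  [((false, false, false, true), (false, true, true, false)), ((false, true, false, false), (true, true, false, false)),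
   ((true, false, false, true), (false, false, true, false)), ((true, true, false, false), (true, false, false, false))]

/-- the elements of odd order commuting with `u₁` and inverted by `u₂` -/
theorem finY : ∀ m p : Mk, (ap1 m p (s2 (ap1 m p e0)) = s2 e0 ∧ ap1 m p (s2 (ap1 m p e2)) = s2 e2) →
    ((ap1 m p)^[9] e0 = e0 ∧ (ap1 m p)^[9] e2 = e2) → (m, p) = (e0, e2) ∨ (m, p) ∈ lY := by
  decide +kernel

theorem finW : ∀ n q : Mk, (ap2 n q (s1 (ap2 n q e0)) = s1 e0 ∧ ap2 n q (s1 (ap2 n q e1)) = s1 e1) →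
    ((ap2 n q)^[9] e0 = e0 ∧ (ap2 n q)^[9] e1 = e1) → (n, q) = (e0, e1) ∨ (n, q) ∈ lW := by
  decide +kernel

/-- the transport map -/
def tr (i j k : Bool) (x : Mk) : Mk :=
  bif k then th (bif j then s2 (bif i then s1 x else x) else (bif i then s1 x else x))
  else (bif j then s2 (bif i then s1 x else x) else (bif i then s1 x else x))

attribute [local instance high] _root_.List.decidableBAll in
/-- commuting pairs are conjugate to the standard one -/
theorem finTr : ∀ a ∈ lY, ∀ b ∈ lW, (∀ x ∈ [e0, e1, e2, e3], ap1 a.1 a.2 (ap2 b.1 b.2 x) = ap2 b.1 b.2 (ap1 a.1 a.2 x)) →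
    ∃ i j k : Bool, ∀ x : Mk, tr i j k (ap1 a.1 a.2 x) = Y0 (tr i j k x) ∧
      tr i j k (ap2 b.1 b.2 x) = W0 (tr i j k x) := by
  decide +kernel

theorem tr_surj : ∀ (i j k : Bool) (x : Mk), ∃ x', tr i j k x' = x := by
  decide +kernel

theorem ap1_id : ∀ x : Mk, ap1 e0 e2 x = x := by decide +kernel

theorem ap2_id : ∀ x : Mk, ap2 e0 e1 x = x := by decide +kernel

attribute [local instance high] _root_.List.decidableBAll in
theorem finYY' : ∀ a ∈ lY, ∀ b ∈ lY, (∀ x, ap1 a.1 a.2 (ap1 b.1 b.2 x) = ap1 b.1 b.2 (ap1 a.1 a.2 x)) →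
    (∀ x, ap1 b.1 b.2 x = ap1 a.1 a.2 x) ∨ ∀ x, ap1 b.1 b.2 x = ap1 a.1 a.2 (ap1 a.1 a.2 x) := by
  decide +kernel

theorem Y0_three : ∀ x, Y0 (Y0 (Y0 x)) = x := by decide +kernel

theorem W0_three : ∀ x, W0 (W0 (W0 x)) = x := by decide +kernel

/-- an element commuting with `u₁` and `u₂` has square one -/
theorem finU : ∀ m : Mk, app m (s1 m) (s2 m) (s2 (s1 m)) m = e0 ∨ app m (s1 m) (s2 m) (s2 (s1 m)) m = z0 := by
  decide +kernel

theorem finStd : Y0 e0 ≠ e0 ∧ W0 e0 ≠ e0 ∧ Y0 (Y0 (Y0 e0)) = e0 ∧ Y0 (Y0 (Y0 e1)) = e1 ∧ Y0 (Y0 (Y0 e2)) = e2 ∧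
    Y0 (Y0 (Y0 e3)) = e3 ∧ W0 (W0 (W0 e0)) = e0 ∧ W0 (W0 (W0 e1)) = e1 ∧ W0 (W0 (W0 e2)) = e2 ∧
    W0 (W0 (W0 e3)) = e3 := by
  decide +kernel

theorem finNe : (∃ x, W0 x ≠ Y0 x) ∧ (∃ x, W0 x ≠ Y0 (Y0 x)) := by
  decide +kernel

theorem finCom : ∀ x, Y0 (W0 x) = W0 (Y0 x) := by
  decide +kernel

end Cfsg.Agent.H568.P4
end

-- part: H568/P4/TwoModel
section
/-!
# S5210, `q = 2`, piece (2U): the model of `V` (helper568)
-/

set_option autoImplicit false

namespace Cfsg.Agent.H568.P4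

open Cfsg Cfsg.FusionSystem Cfsg.Agent.H776.P4
open Cfsg.Agent.H756.PU (HypK)

universe u

variable {K : Type u} [Field K] [StarRing K]

/-- the field with four elements -/
structure Four (K : Type u) [Field K] [StarRing K] : Prop where
  two : (2 : K) = 0
  star_sq : ∀ x : K, star x = x ^ 2
  four : ∀ x : K, x ^ 4 = x
  fin : Finite K
  card : Nat.card K = 4

theorem Four.of_hyp {p n : ℕ} (h : HypK K p n) (h2 : p ^ n = 2) : Four K := by
  have hp : p = 2 := by
    have h1 : p ∣ 2 := by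
      rw [← h2]; exact dvd_pow_self p (by have := h.hn; omega)
    exact (Nat.prime_dvd_prime_iff_eq h.pp Nat.prime_two).1 h1
  subst hp
  have := h.char
  have hf := h.fin
  have hc : Nat.card K = 4 := by rw [h.card, h2]; norm_num
  refine ⟨?_, ?_, ?_, hf, hc⟩
  · exact_mod_cast CharP.cast_eq_zero K 2
  · intro x; rw [h.star_eq, h2]
  · intro x
    have := Fintype.ofFinite K
    have h4 := FiniteField.pow_card x
    rwa [← Nat.card_eq_fintype_card, hc] at h4

def bk (K : Type u) [Field K] (b : Bool) : K := bif b then 1 else 0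

omit [StarRing K] in
@[simp] theorem bk_true : bk K true = 1 := rfl

omit [StarRing K] in
@[simp] theorem bk_false : bk K false = 0 := rfl

theorem star_bk (b : Bool) : star (bk K b) = bk K b := by cases b <;> simp

omit [StarRing K] in
theorem bk_xor (h : (2 : K) = 0) (a b : Bool) : bk K (xor a b) = bk K a + bk K b := by
  cases a <;> cases b <;> simp
  linear_combination -h

/-- the vector of a mask -/
def vec (ρ ω : K) (x : Mk) : PG K where
  r := 0
  a := bk K x.2.1 + bk K x.2.2.1 + bk K x.2.2.2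
  b := bk K x.2.1 * ρ + bk K x.2.2.1 * (ρ * ω) + bk K x.2.2.2 * (ρ * ω ^ 2)
  c := bk K x.1 + bk K x.2.1 + bk K x.2.2.1 + bk K x.2.2.2
  ha := by simp only [star_add, star_bk]
  hc := by simp only [star_add, star_bk]

def vV (ρ ω : K) (x : Mk) : PV K := ⟨vec ρ ω x, rfl⟩

theorem vV_xa (h : Four K) (ρ ω : K) (x y : Mk) : vV ρ ω (xa x y) = vV ρ ω x * vV ρ ω y := by
  apply Subtype.ext
  show vec ρ ω (xa x y) = vec ρ ω x * vec ρ ω y
  ext
  · simp only [vec, _root_.Cfsg.Agent.H776.P4.PG.mul_r, _root_.add_zero]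
  · simp only [PG.mul_a, vec, xa, bk_xor h.two]; simp only [_root_.StarAddMonoid.star_add, _root_.star_mul', _root_.star_pow, _root_.MulZeroClass.zero_mul, _root_.add_zero, _root_.star_zero, _root_.MulZeroClass.mul_zero]; ring
  · simp only [PG.mul_b, vec, xa, bk_xor h.two]; simp only [_root_.MulZeroClass.zero_mul, _root_.add_zero]; ring
  · simp only [PG.mul_c, vec, xa, bk_xor h.two]; ring

theorem vV_z0 (ρ ω : K) : vV ρ ω z0 = 1 := by
  apply Subtype.ext
  show vec ρ ω z0 = 1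
  ext <;> simp [vec, z0]

/-- `u_r` -/
def uu (r : K) : PG K := ⟨r, 0, 0, 0, by simp, by simp⟩

theorem uu_add (r s : K) : uu (r + s) = uu r * uu s := by
  ext <;> simp only [uu, PG.mul_a, PG.mul_b, _root_.Cfsg.Agent.H776.P4.PG.mul_r, _root_.add_zero, _root_.star_zero, _root_.MulZeroClass.mul_zero, _root_.Cfsg.Agent.H776.P4.PG.mul_c]

instance pvNormal : (PV K).Normal := ⟨by
  intro n hn g
  show (g * n * g⁻¹).r = 0
  have h : n.r = 0 := hn
  simp [h]⟩

/-- conjugation by `u_r` on `V` -/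
def au (r : K) : MulAut (PV K) := MulAut.conjNormal (uu r)

theorem au_mem (r : K) : au r ∈ autInducedBy ⊤ (PV K) :=
  Subgroup.subset_closure ⟨uu r, trivial, fun _ => rfl⟩

theorem au_add (r s : K) : au (r + s) = au r * au s := by
  unfold au; rw [uu_add, map_mul]

theorem au_zero : au (0 : K) = 1 := by
  have h : uu (0 : K) = 1 := by ext <;> rfl
  unfold au; rw [h, map_one]

theorem au_coe (r : K) (v : PV K) : ((au r v : PV K) : PG K) = uu r * (v : PG K) * (uu r)⁻¹ := rfl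

theorem au_r (r : K) (v : PV K) : ((au r v : PV K) : PG K).r = 0 := (au r v).2

theorem au_c (r : K) (v : PV K) : ((au r v : PV K) : PG K).c = (v : PG K).c := by
  rw [au_coe]; simp [uu]

theorem au_b (r : K) (v : PV K) : ((au r v : PV K) : PG K).b = (v : PG K).b + r * (v : PG K).c := by
  rw [au_coe]
  have h : (v : PG K).r = 0 := v.2
  simp only [uu, PG.mul_b, PG.inv_b, _root_.zero_add, _root_.neg_zero, _root_.MulZeroClass.mul_zero, _root_.add_zero, _root_.Cfsg.Agent.H776.P4.PG.mul_r, _root_.Cfsg.Agent.H776.P4.PG.inv_c]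

theorem au_a (r : K) (v : PV K) : ((au r v : PV K) : PG K).a =
    (v : PG K).a + r * star (v : PG K).b + star r * (v : PG K).b + r * star r * (v : PG K).c := by
  rw [au_coe]
  have h : (v : PG K).r = 0 := v.2
  simp only [uu, PG.mul_a, PG.inv_a, PG.inv_b, h, _root_.zero_add, _root_.neg_zero, _root_.star_zero, _root_.MulZeroClass.mul_zero, _root_.add_zero, _root_.sub_self, _root_.Cfsg.Agent.H776.P4.PG.mul_r, _root_.Cfsg.Agent.H776.P4.PG.inv_c]

attribute [-instance] instNoNatZeroDivisorsOfIsAddTorsionFree instIsCharPOfIsLeftCancelAddOfCharP in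
theorem au_s1 (h : Four K) {ρ ω : K} (hρ : ρ ^ 3 = 1) (hω : ω ^ 2 + ω + 1 = 0) (x : Mk) :
    au ρ (vV ρ ω x) = vV ρ ω (s1 x) := by
  have h2 := h.two
  apply Subtype.ext
  ext
  · rw [au_r]; rfl
  · rw [au_a]
    show (vec ρ ω x).a + ρ * star (vec ρ ω x).b + star ρ * (vec ρ ω x).b + ρ * star ρ * (vec ρ ω x).c = (vec ρ ω (s1 x)).a
    simp only [vec, s1, star_add, star_mul', star_bk, star_pow, h.star_sq ρ, h.star_sq ω]
    grobner
  · rw [au_b]
    show (vec ρ ω x).b + ρ * (vec ρ ω x).c = (vec ρ ω (s1 x)).b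
    simp only [vec, s1]
    grobner
  · rw [au_c]
    show (vec ρ ω x).c = (vec ρ ω (s1 x)).c
    simp only [vec, s1]; ring

attribute [-instance] instNoNatZeroDivisorsOfIsAddTorsionFree instIsCharPOfIsLeftCancelAddOfCharP in
theorem au_s2 (h : Four K) {ρ ω : K} (hρ : ρ ^ 3 = 1) (hω : ω ^ 2 + ω + 1 = 0) (x : Mk) :
    au (ρ * ω) (vV ρ ω x) = vV ρ ω (s2 x) := by
  have h2 := h.two
  apply Subtype.ext
  ext
  · rw [au_r]; rfl
  · rw [au_a]
    show (vec ρ ω x).a + (ρ * ω) * star (vec ρ ω x).b + star (ρ * ω) * (vec ρ ω x).b +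
      (ρ * ω) * star (ρ * ω) * (vec ρ ω x).c = (vec ρ ω (s2 x)).a
    simp only [vec, s2, star_add, star_mul', star_bk, star_pow, h.star_sq ρ, h.star_sq ω]
    grobner
  · rw [au_b]
    show (vec ρ ω x).b + (ρ * ω) * (vec ρ ω x).c = (vec ρ ω (s2 x)).b
    simp only [vec, s2]
    grobner
  · rw [au_c]
    show (vec ρ ω x).c = (vec ρ ω (s2 x)).c
    simp only [vec, s2]; ring

omit [StarRing K] in
attribute [-instance] instNoNatZeroDivisorsOfIsAddTorsionFree instIsCharPOfIsLeftCancelAddOfCharP in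
theorem cases_four (h4 : ∀ x : K, x ^ 4 = x) {ω : K} (hω : ω ^ 2 + ω + 1 = 0) (h2 : (2 : K) = 0) (x : K) :
    x = 0 ∨ x = 1 ∨ x = ω ∨ x = ω ^ 2 := by
  have h : x * ((x - 1) * ((x - ω) * (x - ω ^ 2))) = 0 := by
    have := h4 x
    grobner
  rcases mul_eq_zero.1 h with h | h
  · exact Or.inl h
  rcases mul_eq_zero.1 h with h | h
  · exact Or.inr (Or.inl (sub_eq_zero.1 h))
  rcases mul_eq_zero.1 h with h | h
  · exact Or.inr (Or.inr (Or.inl (sub_eq_zero.1 h)))
  · exact Or.inr (Or.inr (Or.inr (sub_eq_zero.1 h)))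

theorem fix_cases (h : Four K) {x : K} (hx : star x = x) : x = 0 ∨ x = 1 := by
  rw [h.star_sq] at hx
  have h1 : x * (x - 1) = 0 := by linear_combination hx
  rcases mul_eq_zero.1 h1 with h1 | h1
  · exact Or.inl h1
  · exact Or.inr (sub_eq_zero.1 h1)

attribute [-instance] instNoNatZeroDivisorsOfIsAddTorsionFree instIsCharPOfIsLeftCancelAddOfCharP in
theorem vV_surj (h : Four K) {ρ ω : K} (hρ : ρ ^ 3 = 1) (hω : ω ^ 2 + ω + 1 = 0) (v : PV K) :
    ∃ x, vV ρ ω x = v := by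
  have h2 := h.two
  have hρ0 : ρ ≠ 0 := by rintro rfl; norm_num at hρ
  obtain ⟨⟨r, a, b, c, ha, hc⟩, hv⟩ := v
  have hr : r = 0 := hv
  subst hr
  have hb : ∃ β, b = ρ * β := ⟨ρ⁻¹ * b, by field_simp⟩
  obtain ⟨β, rfl⟩ := hb
  have key : ∀ x : Mk, bk K x.2.1 + bk K x.2.2.1 + bk K x.2.2.2 = a →
      bk K x.2.1 + bk K x.2.2.1 * ω + bk K x.2.2.2 * ω ^ 2 = β →
      bk K x.1 + bk K x.2.1 + bk K x.2.2.1 + bk K x.2.2.2 = c → ∃ x, vV ρ ω x = (⟨⟨0, a, ρ * β, c, ha, hc⟩, hv⟩ : PV K) := by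
    intro x h1 h3 h4
    refine ⟨x, Subtype.ext ?_⟩
    show vec ρ ω x = _
    ext
    · rfl
    · exact h1
    · show bk K x.2.1 * ρ + bk K x.2.2.1 * (ρ * ω) + bk K x.2.2.2 * (ρ * ω ^ 2) = ρ * β
      rw [← h3]; ring
    · exact h4
  have hω2 : ω ^ 2 = ω + 1 := by linear_combination hω - (ω + 1) * h2
  rcases fix_cases h ha with rfl | rfl <;> rcases fix_cases h hc with rfl | rfl <;>
    rcases cases_four h.four hω h2 β with hβ | hβ | hβ | hβ <;> subst hβ
  · exact key (false, false, false, false) (by simp) (by simp) (by simp)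
  · exact key (false, false, true, true) (by simp only [_root_.Cfsg.Agent.H568.P4.bk_false, _root_.Cfsg.Agent.H568.P4.bk_true, _root_.zero_add]; linear_combination h2) (by simp; (clear * - hω h2; grobner)) (by simp only [_root_.Cfsg.Agent.H568.P4.bk_false, _root_.add_zero, _root_.Cfsg.Agent.H568.P4.bk_true, _root_.zero_add]; (clear * - h2; grobner))
  · exact key (false, true, false, true) (by simp only [_root_.Cfsg.Agent.H568.P4.bk_true, _root_.Cfsg.Agent.H568.P4.bk_false, _root_.add_zero]; linear_combination h2) (by simp; (clear * - h2 hω; grobner)) (by simp only [_root_.Cfsg.Agent.H568.P4.bk_false, _root_.Cfsg.Agent.H568.P4.bk_true, _root_.zero_add, _root_.add_zero]; (clear * - h2; grobner))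
  · exact key (false, true, true, false) (by simp; linear_combination h2) (by simp; (clear * - h2 hω2; grobner)) (by simp only [_root_.Cfsg.Agent.H568.P4.bk_false, _root_.Cfsg.Agent.H568.P4.bk_true, _root_.zero_add, _root_.add_zero]; (clear * - h2; grobner))
  · exact key (true, false, false, false) (by simp) (by simp) (by simp)
  · exact key (true, false, true, true) (by simp; linear_combination h2) (by simp; (clear * - hω h2; grobner)) (by simp only [_root_.Cfsg.Agent.H568.P4.bk_true, _root_.Cfsg.Agent.H568.P4.bk_false, _root_.add_zero, _root_.add_eq_right]; (clear * - h2; grobner))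
  · exact key (true, true, false, true) (by simp only [_root_.Cfsg.Agent.H568.P4.bk_true, _root_.Cfsg.Agent.H568.P4.bk_false, _root_.add_zero]; linear_combination h2) (by simp; (clear * - h2 hω; grobner)) (by simp; (clear * - h2; grobner))
  · exact key (true, true, true, false) (by simp only [_root_.Cfsg.Agent.H568.P4.bk_true, _root_.Cfsg.Agent.H568.P4.bk_false, _root_.add_zero]; linear_combination h2) (by simp; (clear * - h2 hω2; grobner)) (by simp; (clear * - h2; grobner))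
  · exact key (true, true, true, true) (by simp; (clear * - h2; grobner)) (by simp only [_root_.Cfsg.Agent.H568.P4.bk_true, _root_.one_mul]; (clear * - hω h2; grobner)) (by simp only [_root_.Cfsg.Agent.H568.P4.bk_true]; (clear * - h2; grobner))
  · exact key (true, true, false, false) (by simp) (by simp) (by simp only [_root_.Cfsg.Agent.H568.P4.bk_true, _root_.Cfsg.Agent.H568.P4.bk_false, _root_.add_zero]; (clear * - h2; grobner))
  · exact key (true, false, true, false) (by simp) (by simp) (by simp only [_root_.Cfsg.Agent.H568.P4.bk_true, _root_.Cfsg.Agent.H568.P4.bk_false, _root_.add_zero]; (clear * - h2; grobner))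
  · exact key (true, false, false, true) (by simp) (by simp) (by simp; (clear * - h2; grobner))
  · exact key (false, true, true, true) (by simp; (clear * - h2; grobner)) (by simp only [_root_.Cfsg.Agent.H568.P4.bk_true, _root_.one_mul]; (clear * - hω h2; grobner)) (by simp only [_root_.Cfsg.Agent.H568.P4.bk_false, _root_.Cfsg.Agent.H568.P4.bk_true, _root_.zero_add, _root_.add_eq_right]; (clear * - h2; grobner))
  · exact key (false, true, false, false) (by simp) (by simp) (by simp)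
  · exact key (false, false, true, false) (by simp) (by simp) (by simp)
  · exact key (false, false, false, true) (by simp) (by simp) (by simp)

attribute [-instance] instNoNatZeroDivisorsOfIsAddTorsionFree instIsCharPOfIsLeftCancelAddOfCharP in
theorem vV_ker (h : Four K) {ρ ω : K} (hρ : ρ ^ 3 = 1) (hω : ω ^ 2 + ω + 1 = 0) {x : Mk} (hx : vV ρ ω x = 1) : x = z0 := by
  have h2 := h.two
  have hρ0 : ρ ≠ 0 := by rintro rfl; norm_num at hρ
  have h1 : vec ρ ω x = 1 := congrArg Subtype.val hx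
  have hc := congrArg PG.c h1
  have ha := congrArg PG.a h1
  have hb := congrArg PG.b h1
  simp only [vec, PG.one_a, PG.one_b, PG.one_c] at ha hb hc
  have hb' : bk K x.2.1 + bk K x.2.2.1 * ω + bk K x.2.2.2 * ω ^ 2 = 0 := by
    have : ρ * (bk K x.2.1 + bk K x.2.2.1 * ω + bk K x.2.2.2 * ω ^ 2) = 0 := by rw [← hb]; ring
    exact (mul_eq_zero.1 this).resolve_left hρ0
  obtain ⟨a, b, c, d⟩ := x
  have h10 : (1 : K) ≠ 0 := one_ne_zero
  cases a <;> cases b <;> cases c <;> cases d <;> simp only [_root_.Cfsg.Agent.H568.P4.bk_false, _root_.add_zero, _root_.MulZeroClass.zero_mul, _root_.Cfsg.Agent.H568.P4.bk_true, _root_.zero_add, _root_.one_ne_zero, _root_.one_mul] at ha hb' hc <;> first | rfl | (exfalso; grobner)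

theorem vV_inj (h : Four K) {ρ ω : K} (hρ : ρ ^ 3 = 1) (hω : ω ^ 2 + ω + 1 = 0) {x y : Mk} (hxy : vV ρ ω x = vV ρ ω y) :
    x = y := by
  have h1 : vV ρ ω (xa x y) = 1 := by
    rw [vV_xa h, hxy, ← vV_xa h]
    have : xa y y = z0 := by
      obtain ⟨a, b, c, d⟩ := y
      cases a <;> cases b <;> cases c <;> cases d <;> rfl
    rw [this, vV_z0]
  have h2 := vV_ker h hρ hω h1
  obtain ⟨a, b, c, d⟩ := x
  obtain ⟨a', b', c', d'⟩ := y
  revert h2
  cases a <;> cases b <;> cases c <;> cases d <;> cases a' <;> cases b' <;> cases c' <;> cases d' <;> decide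

end Cfsg.Agent.H568.P4
end

-- part: H568/P4/TwoRep
section
/-!
# S5210, `q = 2`, piece (2U): elements of `GL(V)` on masks (helper568)
-/

set_option autoImplicit false

namespace Cfsg.Agent.H568.P4

open Cfsg Cfsg.FusionSystem Cfsg.Agent.H776.P4
open Cfsg.Agent.H756.PU (HypK)

universe u

variable {K : Type u} [Field K] [StarRing K]

/-- `y` acts on `V` as `f` on masks -/
def Acts (ρ ω : K) (y : MulAut (PV K)) (f : Mk → Mk) : Prop := ∀ x, y (vV ρ ω x) = vV ρ ω (f x)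

theorem Acts.mul {ρ ω : K} {y y' : MulAut (PV K)} {f f' : Mk → Mk} (hy : Acts ρ ω y f) (hy' : Acts ρ ω y' f') :
    Acts ρ ω (y * y') (fun x => f (f' x)) := by
  intro x
  rw [MulAut.mul_apply, hy', hy]

theorem Acts.ext (h : Four K) {ρ ω : K} (hρ : ρ ^ 3 = 1) (hω : ω ^ 2 + ω + 1 = 0) {y y' : MulAut (PV K)} {f f' : Mk → Mk}
    (hy : Acts ρ ω y f) (hy' : Acts ρ ω y' f') (hf : ∀ x, f x = f' x) : y = y' := by
  ext1 v
  obtain ⟨x, rfl⟩ := vV_surj h hρ hω v
  rw [hy, hy', hf]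

theorem Acts.one {ρ ω : K} : Acts ρ ω (1 : MulAut (PV K)) (fun x => x) := fun _ => rfl

theorem Acts.eq_of (h : Four K) {ρ ω : K} (hρ : ρ ^ 3 = 1) (hω : ω ^ 2 + ω + 1 = 0) {y : MulAut (PV K)} {f f' : Mk → Mk}
    (hy : Acts ρ ω y f) (hy' : Acts ρ ω y f') (x : Mk) : f x = f' x :=
  vV_inj h hρ hω ((hy x).symm.trans (hy' x))

theorem acts_app (h : Four K) {ρ ω : K} {y : MulAut (PV K)} {c0 c1 c2 c3 : Mk} (h0 : y (vV ρ ω e0) = vV ρ ω c0)
    (h1 : y (vV ρ ω e1) = vV ρ ω c1) (h2 : y (vV ρ ω e2) = vV ρ ω c2) (h3 : y (vV ρ ω e3) = vV ρ ω c3) :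
    Acts ρ ω y (app c0 c1 c2 c3) := by
  have hz : y (vV ρ ω z0) = vV ρ ω z0 := by rw [vV_z0, map_one]
  intro x
  have hb : ∀ (b : Bool) (e c : Mk), y (vV ρ ω e) = vV ρ ω c → y (vV ρ ω (bif b then e else z0)) = vV ρ ω (bif b then c else z0) := by
    intro b e c hec
    cases b
    · exact hz
    · exact hec
  rw [app, vV_xa h, vV_xa h, vV_xa h, ← hb _ _ _ h0, ← hb _ _ _ h1, ← hb _ _ _ h2, ← hb _ _ _ h3, ← map_mul, ← map_mul,
    ← map_mul, ← vV_xa h, ← vV_xa h, ← vV_xa h, ← decomp]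

/-- commutes with `u₁`, inverted by `u₂` -/
def EE (ρ ω : K) (y : MulAut (PV K)) : Prop := y * au ρ = au ρ * y ∧ y * au (ρ * ω) * y = au (ρ * ω)

/-- commutes with `u₂`, inverted by `u₁` -/
def FF (ρ ω : K) (z : MulAut (PV K)) : Prop := z * au (ρ * ω) = au (ρ * ω) * z ∧ z * au ρ * z = au ρ

section
variable {ρ ω : K}

theorem acts_u1 (h : Four K) (hρ : ρ ^ 3 = 1) (hω : ω ^ 2 + ω + 1 = 0) : Acts ρ ω (au ρ) s1 := au_s1 h hρ hω

theorem acts_u2 (h : Four K) (hρ : ρ ^ 3 = 1) (hω : ω ^ 2 + ω + 1 = 0) : Acts ρ ω (au (ρ * ω)) s2 := au_s2 h hρ hω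

theorem EE_acts (h : Four K) (hρ : ρ ^ 3 = 1) (hω : ω ^ 2 + ω + 1 = 0) {y : MulAut (PV K)} (hy : EE ρ ω y)
    (hy9 : y ^ 9 = 1) : y = 1 ∨ ∃ a ∈ lY, Acts ρ ω y (ap1 a.1 a.2) := by
  obtain ⟨m, hm⟩ := vV_surj h hρ hω (y (vV ρ ω e0))
  obtain ⟨p, hp⟩ := vV_surj h hρ hω (y (vV ρ ω e2))
  have hc : ∀ x c, y (vV ρ ω x) = vV ρ ω c → y (vV ρ ω (s1 x)) = vV ρ ω (s1 c) := by
    intro x c hx
    rw [← au_s1 h hρ hω, ← MulAut.mul_apply, hy.1, MulAut.mul_apply, hx, au_s1 h hρ hω]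
  have hA : Acts ρ ω y (ap1 m p) := by
    intro x
    exact acts_app h hm.symm (hc e0 m hm.symm) hp.symm (hc e2 p hp.symm) x
  have hI : ∀ x, ap1 m p (s2 (ap1 m p x)) = s2 x := by
    have h1 := (hA.mul (acts_u2 h hρ hω)).mul hA
    rw [hy.2] at h1
    exact fun x => h1.eq_of h hρ hω (acts_u2 h hρ hω) x
  have hpow : ∀ k : ℕ, Acts ρ ω (y ^ k) ((ap1 m p)^[k]) := by
    intro k
    induction k with
    | zero => intro x; rfl
    | succ k ih =>
      intro x
      rw [pow_succ, MulAut.mul_apply, hA, ih, Function.iterate_succ_apply]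
  have h9 : ∀ x, (ap1 m p)^[9] x = x := by
    intro x
    have h1 := hpow 9
    rw [hy9] at h1
    exact h1.eq_of h hρ hω Acts.one x
  rcases finY m p ⟨hI e0, hI e2⟩ ⟨h9 e0, h9 e2⟩ with h1 | h1
  · left
    rw [Prod.mk.injEq] at h1
    rw [h1.1, h1.2] at hA
    exact hA.ext h hρ hω Acts.one ap1_id
  · exact Or.inr ⟨(m, p), h1, hA⟩

theorem FF_acts (h : Four K) (hρ : ρ ^ 3 = 1) (hω : ω ^ 2 + ω + 1 = 0) {y : MulAut (PV K)} (hy : FF ρ ω y)
    (hy9 : y ^ 9 = 1) : y = 1 ∨ ∃ a ∈ lW, Acts ρ ω y (ap2 a.1 a.2) := by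
  obtain ⟨m, hm⟩ := vV_surj h hρ hω (y (vV ρ ω e0))
  obtain ⟨p, hp⟩ := vV_surj h hρ hω (y (vV ρ ω e1))
  have hc : ∀ x c, y (vV ρ ω x) = vV ρ ω c → y (vV ρ ω (s2 x)) = vV ρ ω (s2 c) := by
    intro x c hx
    rw [← au_s2 h hρ hω, ← MulAut.mul_apply, hy.1, MulAut.mul_apply, hx, au_s2 h hρ hω]
  have hA : Acts ρ ω y (ap2 m p) := by
    intro x
    exact acts_app h hm.symm hp.symm (hc e0 m hm.symm) (hc e1 p hp.symm) x
  have hI : ∀ x, ap2 m p (s1 (ap2 m p x)) = s1 x := by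
    have h1 := (hA.mul (acts_u1 h hρ hω)).mul hA
    rw [hy.2] at h1
    exact fun x => h1.eq_of h hρ hω (acts_u1 h hρ hω) x
  have hpow : ∀ k : ℕ, Acts ρ ω (y ^ k) ((ap2 m p)^[k]) := by
    intro k
    induction k with
    | zero => intro x; rfl
    | succ k ih =>
      intro x
      rw [pow_succ, MulAut.mul_apply, hA, ih, Function.iterate_succ_apply]
  have h9 : ∀ x, (ap2 m p)^[9] x = x := by
    intro x
    have h1 := hpow 9
    rw [hy9] at h1
    exact h1.eq_of h hρ hω Acts.one x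
  rcases finW m p ⟨hI e0, hI e1⟩ ⟨h9 e0, h9 e1⟩ with h1 | h1
  · left
    rw [Prod.mk.injEq] at h1
    rw [h1.1, h1.2] at hA
    exact hA.ext h hρ hω Acts.one ap2_id
  · exact Or.inr ⟨(m, p), h1, hA⟩

theorem EE_small (h : Four K) (hρ : ρ ^ 3 = 1) (hω : ω ^ 2 + ω + 1 = 0) {y y' : MulAut (PV K)} (hy : EE ρ ω y)
    (hy9 : y ^ 9 = 1) (hy' : EE ρ ω y') (hy9' : y' ^ 9 = 1) (hc : y * y' = y' * y) (h1 : y ≠ 1) :
    y' = 1 ∨ y' = y ∨ y' = y ^ 2 := by
  obtain ⟨a, ha, hA⟩ := (EE_acts h hρ hω hy hy9).resolve_left h1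
  rcases EE_acts h hρ hω hy' hy9' with h2 | ⟨b, hb, hB⟩
  · exact Or.inl h2
  right
  have hAB := hA.mul hB
  rw [hc] at hAB
  rcases finYY' a ha b hb (fun x => hAB.eq_of h hρ hω (hB.mul hA) x) with h3 | h3
  · exact Or.inl (hB.ext h hρ hω hA h3)
  · right
    rw [sq]
    exact hB.ext h hρ hω (hA.mul hA) h3

/-- (F1) an element of odd order commuting with `U` is trivial -/
theorem F1 (h : Four K) (hρ : ρ ^ 3 = 1) (hω : ω ^ 2 + ω + 1 = 0) {y : MulAut (PV K)} (h1 : y * au ρ = au ρ * y)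
    (h2 : y * au (ρ * ω) = au (ρ * ω) * y) (hy9 : y ^ 9 = 1) : y = 1 := by
  obtain ⟨m, hm⟩ := vV_surj h hρ hω (y (vV ρ ω e0))
  have hc1 : ∀ x c, y (vV ρ ω x) = vV ρ ω c → y (vV ρ ω (s1 x)) = vV ρ ω (s1 c) := by
    intro x c hx
    rw [← au_s1 h hρ hω, ← MulAut.mul_apply, h1, MulAut.mul_apply, hx, au_s1 h hρ hω]
  have hc2 : ∀ x c, y (vV ρ ω x) = vV ρ ω c → y (vV ρ ω (s2 x)) = vV ρ ω (s2 c) := by
    intro x c hx
    rw [← au_s2 h hρ hω, ← MulAut.mul_apply, h2, MulAut.mul_apply, hx, au_s2 h hρ hω]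
  have hA : Acts ρ ω y (app m (s1 m) (s2 m) (s2 (s1 m))) := by
    intro x
    exact acts_app h hm.symm (hc1 e0 m hm.symm) (hc2 e0 m hm.symm) ((hc2 _ _ (hc1 e0 m hm.symm) :)) x
  have hAA := hA.mul hA
  have h0 : (y * y) (vV ρ ω e0) = vV ρ ω e0 := by
    have h3 : (y * y) (vV ρ ω e0) = vV ρ ω (app m (s1 m) (s2 m) (s2 (s1 m)) m) := by
      rw [MulAut.mul_apply, ← hm, hA]
    rcases finU m with h4 | h4
    · rw [h3, h4]
    · exfalso
      rw [h4, vV_z0] at h3
      have h5 : vV ρ ω e0 = 1 := (map_eq_one_iff _ (MulEquiv.injective (y * y))).1 h3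
      have h6 := vV_ker h hρ hω h5
      exact absurd h6 (by decide)
  have hc1' : ∀ x, (y * y) (vV ρ ω x) = vV ρ ω x → (y * y) (vV ρ ω (s1 x)) = vV ρ ω (s1 x) := by
    intro x hx
    have h3 : y * y * au ρ = au ρ * (y * y) := by rw [mul_assoc, h1, ← mul_assoc, h1, mul_assoc]
    rw [← au_s1 h hρ hω, ← MulAut.mul_apply, h3, MulAut.mul_apply, hx]
  have hc2' : ∀ x, (y * y) (vV ρ ω x) = vV ρ ω x → (y * y) (vV ρ ω (s2 x)) = vV ρ ω (s2 x) := by
    intro x hx
    have h3 : y * y * au (ρ * ω) = au (ρ * ω) * (y * y) := by rw [mul_assoc, h2, ← mul_assoc, h2, mul_assoc]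
    rw [← au_s2 h hρ hω, ← MulAut.mul_apply, h3, MulAut.mul_apply, hx]
  have hB : Acts ρ ω (y * y) (app e0 e1 e2 e3) :=
    acts_app h h0 (hc1' e0 h0) (hc2' e0 h0) ((hc2' _ (hc1' e0 h0) :))
  have h2 : y * y = 1 := hB.ext h hρ hω Acts.one (by decide +kernel)
  calc y = (y * y) ^ 4 * y := by rw [h2, one_pow, one_mul]
    _ = y ^ 9 := by rw [← sq, ← pow_mul, ← pow_succ]
    _ = 1 := hy9

end

end Cfsg.Agent.H568.P4
end

-- part: H568/P4/TwoGrp
section
/-!
# S5210, `q = 2`, piece (2U): group theory (helper568)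
-/

set_option autoImplicit false

namespace Cfsg.Agent.H568.P4

universe u

section
variable {X : Type u} [Group X]

/-- in a group of order `36` two subgroups of order `9` meet in a central subgroup -/
theorem centre_of_two (hX : Nat.card X = 36) {Q R : Subgroup X} (hQ : Nat.card Q = 9) (hR : Nat.card R = 9)
    (hne : Q ≠ R) : ∃ d : X, d ≠ 1 ∧ d ^ 9 = 1 ∧ ∀ x, d * x = x * d := by
  have : Fact (Nat.Prime 3) := ⟨by norm_num⟩
  have : Finite X := Nat.finite_of_card_ne_zero (by omega)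
  have hQc : IsMulCommutative Q := IsPGroup.isMulCommutative_of_card_eq_prime_sq (p := 3) (by rw [hQ]; norm_num)
  have hRc : IsMulCommutative R := IsPGroup.isMulCommutative_of_card_eq_prime_sq (p := 3) (by rw [hR]; norm_num)
  set D := Q ⊓ R with hD
  have hDQ : Nat.card D ∣ 9 := by rw [← hQ]; exact Subgroup.card_dvd_of_le inf_le_left
  -- D is not trivial
  have hD1 : Nat.card D ≠ 1 := by
    intro h1
    have hb : D = ⊥ := Subgroup.card_eq_one.1 h1
    have hinj := Subgroup.mul_injective_of_disjoint (disjoint_iff.2 hb)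
    have := Nat.card_le_card_of_injective _ hinj
    rw [Nat.card_prod, hQ, hR, hX] at this
    omega
  have hD9 : Nat.card D ≠ 9 := by
    intro h9
    have h1 : D = Q := Subgroup.eq_of_le_of_card_ge inf_le_left (by rw [h9, hQ])
    have h2 : D = R := Subgroup.eq_of_le_of_card_ge inf_le_right (by rw [h9, hR])
    exact hne (h1.symm.trans h2)
  have hD3 : Nat.card D = 3 := by
    have h3 : Nat.card D ≤ 9 := Nat.le_of_dvd (by norm_num) hDQ
    interval_cases h : Nat.card D <;> omega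
  set C := Subgroup.centralizer (D : Set X) with hC
  have hQC : Q ≤ C := by
    intro x hx
    rw [hC, Subgroup.mem_centralizer_iff]
    intro d hd
    have := hQc.is_comm.comm (⟨d, hd.1⟩ : Q) ⟨x, hx⟩
    exact congrArg Subtype.val this
  have hRC : R ≤ C := by
    intro x hx
    rw [hC, Subgroup.mem_centralizer_iff]
    intro d hd
    have := hRc.is_comm.comm (⟨d, hd.2⟩ : R) ⟨x, hx⟩
    exact congrArg Subtype.val this
  have hCc : Nat.card C = R.relIndex C * 9 := by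
    have := Subgroup.relIndex_mul_relIndex (⊥ : Subgroup X) R C bot_le hRC
    rw [Subgroup.relIndex_bot_left, Subgroup.relIndex_bot_left, hR] at this
    rw [← this, mul_comm]
  have hC0 : R.relIndex C ≠ 0 := by
    intro h
    rw [h, zero_mul] at hCc
    exact Nat.card_pos.ne' hCc
  have hrel : R.relIndex Q ≤ R.relIndex C := Subgroup.relIndex_le_of_le_right hQC hC0
  have h3 : R.relIndex Q = 3 := by
    have h1 : R.relIndex Q = D.relIndex Q := by rw [hD, inf_comm, Subgroup.inf_relIndex_right]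
    have h2 := Subgroup.relIndex_mul_relIndex (⊥ : Subgroup X) D Q bot_le inf_le_left
    rw [Subgroup.relIndex_bot_left, Subgroup.relIndex_bot_left, hQ, hD3] at h2
    omega
  have hC36 : Nat.card C ∣ 36 := by rw [← hX]; exact Subgroup.card_subgroup_dvd_card C
  have hCtop : C = ⊤ := by
    apply Subgroup.eq_top_of_card_eq
    rw [hX, hCc]
    rw [hCc] at hC36
    have h4 : R.relIndex C ∣ 4 := by
      have : R.relIndex C * 9 ∣ 4 * 9 := hC36
      exact Nat.dvd_of_mul_dvd_mul_right (by norm_num) this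
    have h5 : R.relIndex C ≤ 4 := Nat.le_of_dvd (by norm_num) h4
    have h6 : 3 ≤ R.relIndex C := h3 ▸ hrel
    have h7 : R.relIndex C ≠ 3 := by intro h; rw [h] at h4; omega
    omega
  have : Nontrivial D := by
    rw [← Finite.one_lt_card_iff_nontrivial, hD3]; norm_num
  obtain ⟨d, hd⟩ := exists_ne (1 : D)
  refine ⟨d, fun h => hd (Subtype.ext h), ?_, fun x => ?_⟩
  · have h1 : (d : D) ^ 3 = 1 := by rw [← hD3]; exact pow_card_eq_one'
    have h2 : (d : D) ^ 9 = 1 := by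
      calc (d : D) ^ 9 = (d ^ 3) ^ 3 := by rw [← pow_mul]
        _ = 1 := by rw [h1, one_pow]
    have := congrArg (Subtype.val) h2
    simpa only [_root_.SubmonoidClass.coe_pow, _root_.OneMemClass.coe_one] using this
  · have hx : x ∈ C := by rw [hCtop]; trivial
    rw [hC, Subgroup.mem_centralizer_iff] at hx
    exact hx d d.2

end

section
variable {A : Type u} [CommGroup A]

theorem comp_four (σ τ : A →* A) (hσ : ∀ x, σ (σ x) = x) (hτ : ∀ x, τ (τ x) = x) (hc : ∀ x, σ (τ x) = τ (σ x))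
    (hfix : ∀ x, σ x = x → τ x = x → x = 1) (x : A) :
    ∃ a c d : A, x ^ 4 = a ^ 2 * c * d ∧ (σ a = a ∧ τ a = a⁻¹) ∧ (σ c = c⁻¹ ∧ τ c = c) ∧ (σ d = d⁻¹ ∧ τ d = d⁻¹) := by
  have key : σ (x * σ x) = x * σ x := by rw [map_mul, hσ, mul_comm]
  have hb : σ (x * (σ x)⁻¹) = (x * (σ x)⁻¹)⁻¹ := by rw [map_mul, map_inv, hσ, mul_inv, inv_inv, mul_comm]
  have h4 : x ^ 4 = (x * σ x) ^ 2 * (x * (σ x)⁻¹) ^ 2 := by
    rw [← mul_pow, show x * σ x * (x * (σ x)⁻¹) = x ^ 2 by rw [mul_mul_mul_comm, mul_inv_cancel, mul_one, sq], ← pow_mul]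
  have ha : τ (x * σ x) = (x * σ x)⁻¹ := by
    have h1 : (x * σ x) * τ (x * σ x) = 1 := by
      apply hfix
      · rw [map_mul, hc, key]
      · rw [map_mul, hτ, mul_comm]
    exact (inv_eq_of_mul_eq_one_right h1).symm
  generalize x * (σ x)⁻¹ = b at hb h4
  generalize x * σ x = a at ha key h4
  refine ⟨a, b * τ b, b * (τ b)⁻¹, ?_, ⟨key, ha⟩, ⟨?_, ?_⟩, ?_, ?_⟩
  · rw [h4, mul_assoc]
    congr 1
    rw [mul_mul_mul_comm, mul_inv_cancel, mul_one, sq]
  · rw [map_mul, hc, hb, map_inv, mul_inv]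
  · rw [map_mul, hτ, mul_comm]
  · rw [map_mul, map_inv, hc, hb, map_inv, inv_inv, mul_inv, inv_inv]
  · rw [map_mul, map_inv, hτ, mul_inv, inv_inv, mul_comm]

theorem card_le_three {P : A → Prop} (hP : ∀ y y', P y → P y' → y ≠ 1 → y' = 1 ∨ y' = y ∨ y' = y ^ 2) (hall : ∀ x, P x)
    (h9 : Nat.card A = 9) : False := by
  have : Finite A := Nat.finite_of_card_ne_zero (by omega)
  have : Nontrivial A := by rw [← Finite.one_lt_card_iff_nontrivial, h9]; norm_num
  obtain ⟨y, hy⟩ := exists_ne (1 : A)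
  have hs : (Set.univ : Set A) ⊆ {1, y, y ^ 2} := by
    intro x _
    rcases hP y x (hall y) (hall x) hy with h | h | h <;> simp only [h, _root_.Set.mem_insert_iff, _root_.Set.mem_singleton_iff, _root_.true_or, _root_.or_true]
  have h1 : (Set.univ : Set A).ncard ≤ ({1, y, y ^ 2} : Set A).ncard := Set.ncard_le_ncard hs (Set.toFinite _)
  rw [Set.ncard_univ, h9] at h1
  have h2 : ({1, y, y ^ 2} : Set A).ncard ≤ 3 := by
    refine (Set.ncard_insert_le _ _).trans ?_
    have := Set.ncard_insert_le y {y ^ 2}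
    rw [Set.ncard_singleton] at this
    omega
  omega

/-- two of the three eigenspaces are not trivial -/
theorem two_of_three (h9 : Nat.card A = 9) (σ τ : A →* A) (hσ : ∀ x, σ (σ x) = x) (hτ : ∀ x, τ (τ x) = x)
    (hc : ∀ x, σ (τ x) = τ (σ x)) (hfix : ∀ x, σ x = x → τ x = x → x = 1)
    (hA : ∀ y y' : A, (σ y = y ∧ τ y = y⁻¹) → (σ y' = y' ∧ τ y' = y'⁻¹) → y ≠ 1 → y' = 1 ∨ y' = y ∨ y' = y ^ 2)
    (hC : ∀ y y' : A, (σ y = y⁻¹ ∧ τ y = y) → (σ y' = y'⁻¹ ∧ τ y' = y') → y ≠ 1 → y' = 1 ∨ y' = y ∨ y' = y ^ 2)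
    (hD : ∀ y y' : A, (σ y = y⁻¹ ∧ τ y = y⁻¹) → (σ y' = y'⁻¹ ∧ τ y' = y'⁻¹) → y ≠ 1 → y' = 1 ∨ y' = y ∨ y' = y ^ 2) :
    ∃ y z : A, y ≠ 1 ∧ z ≠ 1 ∧ ((((σ y = y ∧ τ y = y⁻¹) ∧ (σ z = z⁻¹ ∧ τ z = z)) ∨
      ((σ y = y ∧ τ y = y⁻¹) ∧ (σ z = z⁻¹ ∧ τ z = z⁻¹))) ∨ ((σ y = y⁻¹ ∧ τ y = y) ∧ (σ z = z⁻¹ ∧ τ z = z⁻¹))) := by
  by_contra hno
  have : Finite A := Nat.finite_of_card_ne_zero (by omega)
  have hpow : ∀ x : A, x ^ 28 = x := by
    intro x
    have h1 : x ^ 9 = 1 := by rw [← h9]; exact pow_card_eq_one'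
    calc x ^ 28 = (x ^ 9) ^ 3 * x := by rw [← pow_mul, ← pow_succ]
      _ = x := by rw [h1, one_pow, one_mul]
  have h47 : ∀ x w : A, x ^ 4 = w → x = w ^ 7 := by
    intro x w h; rw [← h, ← pow_mul, hpow]
  by_cases p1 : ∃ y, y ≠ 1 ∧ (σ y = y ∧ τ y = y⁻¹)
  · obtain ⟨y, hy, hy'⟩ := p1
    refine card_le_three hA (fun x => ?_) h9
    obtain ⟨a, c, d, hx, ha, hc', hd⟩ := comp_four σ τ hσ hτ hc hfix x
    have hc1 : c = 1 := by
      by_contra h; exact hno ⟨y, c, hy, h, Or.inl (Or.inl ⟨hy', hc'⟩)⟩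
    have hd1 : d = 1 := by
      by_contra h; exact hno ⟨y, d, hy, h, Or.inl (Or.inr ⟨hy', hd⟩)⟩
    rw [hc1, hd1, mul_one, mul_one] at hx
    rw [h47 x _ hx, ← pow_mul, map_pow, map_pow, ha.1, ha.2, inv_pow]
    exact ⟨rfl, rfl⟩
  · have ha1 : ∀ a, (σ a = a ∧ τ a = a⁻¹) → a = 1 := by
      intro a ha; by_contra h; exact p1 ⟨a, h, ha⟩
    by_cases p2 : ∃ y, y ≠ 1 ∧ (σ y = y⁻¹ ∧ τ y = y)
    · obtain ⟨y, hy, hy'⟩ := p2
      refine card_le_three hC (fun x => ?_) h9
      obtain ⟨a, c, d, hx, ha, hc', hd⟩ := comp_four σ τ hσ hτ hc hfix x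
      have hd1 : d = 1 := by
        by_contra h; exact hno ⟨y, d, hy, h, Or.inr ⟨hy', hd⟩⟩
      rw [ha1 a ha, hd1, one_pow, one_mul, mul_one] at hx
      rw [h47 x _ hx, map_pow, map_pow, hc'.1, hc'.2, inv_pow]
      exact ⟨rfl, rfl⟩
    · refine card_le_three hD (fun x => ?_) h9
      obtain ⟨a, c, d, hx, ha, hc', hd⟩ := comp_four σ τ hσ hτ hc hfix x
      have hc1 : c = 1 := by
        by_contra h; exact p2 ⟨c, h, hc'⟩
      rw [ha1 a ha, hc1, one_pow, one_mul, one_mul] at hx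
      rw [h47 x _ hx, map_pow, map_pow, hd.1, hd.2, inv_pow]
      exact ⟨rfl, rfl⟩

end

section
variable {H : Type u} [Group H] [Finite H]

/-- commuting elements of order three generate a group of order nine -/
theorem nine_dvd {y z : H} (hyz : y * z = z * y) (hy : y ^ 3 = 1) (hz : z ^ 3 = 1) (hz1 : z ≠ 1) (h1 : y ≠ 1)
    (h2 : z ≠ y) (h3 : z ≠ y ^ 2) : 9 ∣ Nat.card H := by
  have : Fact (Nat.Prime 3) := ⟨by norm_num⟩
  have hoy : orderOf y = 3 := orderOf_eq_prime hy h1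
  have hoz : orderOf z = 3 := orderOf_eq_prime hz hz1
  have hdis : Disjoint (Subgroup.zpowers y) (Subgroup.zpowers z) := by
    rw [disjoint_iff, Subgroup.eq_bot_iff_forall]
    rintro x ⟨hx, hx'⟩
    by_contra hne
    have h4 : Nat.card (Subgroup.zpowers z) = 3 := by rw [Nat.card_zpowers, hoz]
    have hzx : Subgroup.zpowers x = Subgroup.zpowers z := by
      refine Subgroup.eq_of_le_of_card_ge (Subgroup.zpowers_le.2 hx') ?_
      have hx3 : x ^ 3 = 1 := by
        obtain ⟨k, rfl⟩ := hx'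
        show (z ^ k) ^ 3 = 1
        rw [← zpow_natCast, ← zpow_mul, mul_comm, zpow_mul, zpow_natCast, hz, one_zpow]
      rw [h4, Nat.card_zpowers, orderOf_eq_prime hx3 hne]
    have hzy : z ∈ Subgroup.zpowers y := by
      have : z ∈ Subgroup.zpowers x := by rw [hzx]; exact Subgroup.mem_zpowers z
      exact (Subgroup.zpowers_le.2 hx) this
    classical
    obtain ⟨k, hk, hk'⟩ := Finset.mem_image.1 (mem_zpowers_iff_mem_range_orderOf.1 hzy)
    rw [hoy, Finset.mem_range] at hk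
    interval_cases k
    · exact hz1 (by rw [← hk']; simp)
    · exact h2 (by rw [← hk']; simp)
    · exact h3 (by rw [← hk'])
  let f : Subgroup.zpowers y × Subgroup.zpowers z →* H :=
    MonoidHom.noncommCoprod (Subgroup.subtype _) (Subgroup.subtype _) (by
      rintro ⟨a, k, rfl⟩ ⟨b, l, rfl⟩
      show y ^ k * z ^ l = z ^ l * y ^ k
      exact ((show Commute y z from hyz).zpow_zpow k l).eq)
  have hf : Function.Injective f := by
    rw [MonoidHom.noncommCoprod_injective]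
    refine ⟨Subtype.val_injective, Subtype.val_injective, ?_⟩
    rw [Subgroup.range_subtype, Subgroup.range_subtype]
    exact hdis
  have h9 : Nat.card (Subgroup.zpowers y × Subgroup.zpowers z) = 9 := by
    rw [Nat.card_prod, Nat.card_zpowers, Nat.card_zpowers, hoy, hoz]
  rw [← h9]
  exact Subgroup.card_dvd_of_injective f hf

end

end Cfsg.Agent.H568.P4
end

-- part: H568/P4/TwoMove
section
/-!
# S5210, `q = 2`, piece (2U): automorphisms of `PG K` (helper568)
-/

set_option autoImplicit false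

namespace Cfsg.Agent.H568.P4

open Cfsg Cfsg.FusionSystem Cfsg.Agent.H776.P4
open Cfsg.Agent.H756.PU (HypK)

universe u

variable {K : Type u} [Field K] [StarRing K]

theorem isRP_mul {θ θ' : MulAut (PG K)} {Q : Subgroup (PG K)} {t t' : MulAut Q} (h : IsRP θ t) (h' : IsRP θ' t') :
    IsRP (θ * θ') (t * t') := by
  intro e
  rw [MulAut.mul_apply, MulAut.mul_apply, h, h']

theorem isRP_one {Q : Subgroup (PG K)} : IsRP (1 : MulAut (PG K)) (1 : MulAut Q) := fun _ => rfl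

theorem isRP_inv {θ : MulAut (PG K)} {Q : Subgroup (PG K)} {t : MulAut Q} (h : IsRP θ t) : IsRP θ⁻¹ t⁻¹ := by
  intro e
  have h1 := h (t⁻¹ e)
  rw [MulAut.apply_inv_self] at h1
  rw [h1, MulAut.inv_apply_self]

/-- restriction to `V` -/
theorem res_V (θ : MulAut (PG K)) (hθ : ∀ g : PG K, (θ g).r = 0 ↔ g.r = 0) : ∃ t : MulAut (PV K), IsRP θ t := by
  refine ⟨⟨⟨fun e => ⟨θ e, (hθ e).2 e.2⟩, fun e => ⟨θ.symm e, ?_⟩, ?_, ?_⟩, ?_⟩, ?_⟩
  · show (θ.symm e).r = 0
    rw [← hθ, MulEquiv.apply_symm_apply]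
    exact e.2
  · intro e; exact Subtype.ext (MulEquiv.symm_apply_apply _ _)
  · intro e; exact Subtype.ext (MulEquiv.apply_symm_apply _ _)
  · intro e f; exact Subtype.ext (map_mul θ _ _)
  · intro e; rfl

/-- `t u_r = u_{r'} t` -/
theorem conj_au {θ : MulAut (PG K)} {t : MulAut (PV K)} (h : IsRP θ t) {r r' : K} (hr : θ (uu r) = uu r') :
    t * au r = au r' * t := by
  ext1 v
  apply Subtype.ext
  rw [MulAut.mul_apply, MulAut.mul_apply, h, au_coe, au_coe, map_mul, map_mul, map_inv, hr, h]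

theorem isRP_au (r : K) : IsRP (MulAut.conj (uu r)) (au r) := fun _ => rfl

/-- `(r, a, b, c) ↦ (r, a + c, b, c)` -/
def thG (K : Type u) [Field K] [StarRing K] : MulAut (PG K) where
  toFun g := ⟨g.r, g.a + g.c, g.b, g.c, by rw [star_add, g.ha, g.hc], g.hc⟩
  invFun g := ⟨g.r, g.a - g.c, g.b, g.c, by rw [star_sub, g.ha, g.hc], g.hc⟩
  left_inv g := by ext <;> simp
  right_inv g := by ext <;> simp
  map_mul' x y := by
    ext
    · rfl
    · simp only [PG.mul_a, PG.mul_c]; ring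
    · rfl
    · rfl

theorem thG_uu (r : K) : thG K (uu r) = uu r := by
  ext
  · rfl
  · show (0 : K) + 0 = 0; simp
  · rfl
  · rfl

/-- `(r, a, b, c) ↦ (s τ r, s s̄ τ a, s τ b, τ c)` -/
def torG (s : K) (hs : s ≠ 0) (τ : K ≃+* K) (hτ : ∀ x, τ (star x) = star (τ x)) : MulAut (PG K) where
  toFun g := ⟨s * τ g.r, s * star s * τ g.a, s * τ g.b, τ g.c,
    by rw [star_mul', star_mul', star_star, ← hτ, g.ha]; ring, by rw [← hτ, g.hc]⟩
  invFun g := ⟨τ.symm (s⁻¹ * g.r), τ.symm ((s * star s)⁻¹ * g.a), τ.symm (s⁻¹ * g.b), τ.symm g.c,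
    by
      apply τ.injective
      rw [hτ, τ.apply_symm_apply, star_mul', star_inv₀, star_mul', star_star, g.ha, mul_comm (star s)],
    by
      apply τ.injective
      rw [hτ, τ.apply_symm_apply, g.hc]⟩
  left_inv g := by
    have hs' : star s ≠ 0 := by simpa only [_root_.ne_eq, _root_.star_eq_zero] using hs
    ext
    · show τ.symm (s⁻¹ * (s * τ g.r)) = g.r
      rw [inv_mul_cancel_left₀ hs, τ.symm_apply_apply]
    · show τ.symm ((s * star s)⁻¹ * (s * star s * τ g.a)) = g.a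
      rw [inv_mul_cancel_left₀ (mul_ne_zero hs hs'), τ.symm_apply_apply]
    · show τ.symm (s⁻¹ * (s * τ g.b)) = g.b
      rw [inv_mul_cancel_left₀ hs, τ.symm_apply_apply]
    · show τ.symm (τ g.c) = g.c
      rw [τ.symm_apply_apply]
  right_inv g := by
    have hs' : star s ≠ 0 := by simpa only [_root_.ne_eq, _root_.star_eq_zero] using hs
    ext
    · show s * τ (τ.symm (s⁻¹ * g.r)) = g.r
      rw [τ.apply_symm_apply, mul_inv_cancel_left₀ hs]
    · show s * star s * τ (τ.symm ((s * star s)⁻¹ * g.a)) = g.a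
      rw [τ.apply_symm_apply, mul_inv_cancel_left₀ (mul_ne_zero hs hs')]
    · show s * τ (τ.symm (s⁻¹ * g.b)) = g.b
      rw [τ.apply_symm_apply, mul_inv_cancel_left₀ hs]
    · show τ (τ.symm g.c) = g.c
      rw [τ.apply_symm_apply]
  map_mul' x y := by
    ext
    · show s * τ (x.r + y.r) = s * τ x.r + s * τ y.r
      rw [map_add, mul_add]
    · show s * star s * τ (x.a + y.a + x.r * star y.b + star x.r * y.b + x.r * star x.r * y.c) =
        s * star s * τ x.a + s * star s * τ y.a + (s * τ x.r) * star (s * τ y.b) + star (s * τ x.r) * (s * τ y.b) +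
          (s * τ x.r) * star (s * τ x.r) * τ y.c
      simp only [map_add, map_mul, star_mul', hτ]
      ring
    · show s * τ (x.b + y.b + x.r * y.c) = s * τ x.b + s * τ y.b + (s * τ x.r) * τ y.c
      simp only [map_add, map_mul]
      ring
    · show τ (x.c + y.c) = τ x.c + τ y.c
      rw [map_add]

theorem torG_uu (s : K) (hs : s ≠ 0) (τ : K ≃+* K) (hτ : ∀ x, τ (star x) = star (τ x)) (r : K) :
    torG s hs τ hτ (uu r) = uu (s * τ r) := by
  ext
  · rfl
  · show s * star s * τ 0 = 0; simp only [_root_.map_zero, _root_.MulZeroClass.mul_zero]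
  · show s * τ 0 = 0; simp
  · show τ 0 = 0; simp

omit [StarRing K] in
theorem map_bk (τ : K ≃+* K) (b : Bool) : τ (bk K b) = bk K b := by cases b <;> simp

/-- moving the coordinates -/
theorem move (h : Four K) {ρ ω ρ' ω' : K} (hρ : ρ ^ 3 = 1) (hω : ω ^ 2 + ω + 1 = 0) (hρ' : ρ' ^ 3 = 1)
    (hω' : ω' ^ 2 + ω' + 1 = 0) : ∃ (θ : MulAut (PG K)) (t : MulAut (PV K)), IsRP θ t ∧
      (∀ r', ∃ r, t * au r * t⁻¹ = au r') ∧ ∀ x, t (vV ρ ω x) = vV ρ' ω' x := by
  have hρ0 : ρ ≠ 0 := by rintro rfl; norm_num at hρ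
  have hρ0' : ρ' ≠ 0 := by rintro rfl; norm_num at hρ'
  have hτ : ∃ τ : K ≃+* K, (∀ x, τ (star x) = star (τ x)) ∧ τ ω = ω' := by
    rcases cases_four h.four hω h.two ω' with h1 | h1 | h1 | h1
    · rw [h1] at hω'; norm_num at hω'
    · rw [h1] at hω'
      exfalso
      have h2 := h.two
      have : (1 : K) = 0 := by linear_combination hω' - h2
      exact one_ne_zero this
    · exact ⟨RingEquiv.refl K, fun _ => rfl, h1.symm⟩
    · exact ⟨starRingAut, fun _ => rfl, by rw [starRingAut_apply, h.star_sq, h1]⟩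
  obtain ⟨τ, hτ, hτω⟩ := hτ
  have hτρ : τ ρ ≠ 0 := by simpa using hρ0
  have hτρ3 : (τ ρ) ^ 3 = 1 := by rw [← map_pow, hρ, map_one]
  set s : K := ρ' * (τ ρ)⁻¹ with hs
  have hs0 : s ≠ 0 := mul_ne_zero hρ0' (inv_ne_zero hτρ)
  have hsρ : s * τ ρ = ρ' := by rw [hs, inv_mul_cancel_right₀ hτρ]
  have hss : s * star s = 1 := by
    rw [h.star_sq, ← pow_succ', hs, mul_pow, inv_pow, hρ', hτρ3, inv_one, mul_one]
  obtain ⟨t, ht⟩ := res_V (torG s hs0 τ hτ) (by
    intro g
    show s * τ g.r = 0 ↔ g.r = 0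
    simp [hs0])
  refine ⟨torG s hs0 τ hτ, t, ht, fun r' => ⟨τ.symm (s⁻¹ * r'), ?_⟩, fun x => ?_⟩
  · have h1 : torG s hs0 τ hτ (uu (τ.symm (s⁻¹ * r'))) = uu r' := by
      rw [torG_uu, τ.apply_symm_apply, mul_inv_cancel_left₀ hs0]
    rw [conj_au ht h1, mul_inv_cancel_right]
  · apply Subtype.ext
    rw [ht]
    show torG s hs0 τ hτ (vec ρ ω x) = vec ρ' ω' x
    ext
    · show s * τ 0 = 0; simp
    · show s * star s * τ (bk K x.2.1 + bk K x.2.2.1 + bk K x.2.2.2) = _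
      rw [hss, one_mul]
      simp only [map_add, map_bk]
      rfl
    · show s * τ (bk K x.2.1 * ρ + bk K x.2.2.1 * (ρ * ω) + bk K x.2.2.2 * (ρ * ω ^ 2)) =
        bk K x.2.1 * ρ' + bk K x.2.2.1 * (ρ' * ω') + bk K x.2.2.2 * (ρ' * ω' ^ 2)
      simp only [map_add, map_mul, map_pow, map_bk, hτω, ← hsρ]
      ring
    · show τ (bk K x.1 + bk K x.2.1 + bk K x.2.2.1 + bk K x.2.2.2) = _
      simp only [map_add, map_bk]
      rfl

/-- the restriction of `thG` -/
theorem th_act (h : Four K) {ρ ω : K} (hω : ω ^ 2 + ω + 1 = 0) : ∃ t : MulAut (PV K), IsRP (thG K) t ∧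
    (∀ r, t * au r = au r * t) ∧ Acts ρ ω t th := by
  have h2 := h.two
  obtain ⟨t, ht⟩ := res_V (thG K) (fun g => Iff.rfl)
  refine ⟨t, ht, fun r => conj_au ht (thG_uu r), fun x => ?_⟩
  apply Subtype.ext
  rw [ht]
  show thG K (vec ρ ω x) = vec ρ ω (th x)
  have h1 : ∀ b : Bool, bk K (!b) = bk K b + 1 := by
    intro b; cases b <;> simp
    linear_combination -h2
  have hp : bk K (par x) = bk K x.1 + bk K x.2.1 + bk K x.2.2.1 + bk K x.2.2.2 := by
    rw [par, bk_xor h2, bk_xor h2, bk_xor h2]; ring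
  have h3 : vec ρ ω (th x) = ⟨0, bk K x.2.1 + bk K x.2.2.1 + bk K x.2.2.2 + bk K (par x),
      bk K x.2.1 * ρ + bk K x.2.2.1 * (ρ * ω) + bk K x.2.2.2 * (ρ * ω ^ 2),
      bk K x.1 + bk K x.2.1 + bk K x.2.2.1 + bk K x.2.2.2, by simp only [star_add, star_bk], by simp only [star_add, star_bk]⟩ := by
    rw [th]
    cases hpx : par x
    · ext <;> simp only [vec, _root_.cond_false, _root_.Cfsg.Agent.H568.P4.bk_false, _root_.add_zero]
    · ext
      · rfl
      · simp only [cond_true, vec, h1, bk_true]; linear_combination h2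
      · simp only [cond_true, vec, h1]; linear_combination ρ * hω
      · simp only [cond_true, vec, h1]; linear_combination 2 * h2
  rw [h3]
  ext
  · rfl
  · show bk K x.2.1 + bk K x.2.2.1 + bk K x.2.2.2 + (bk K x.1 + bk K x.2.1 + bk K x.2.2.1 + bk K x.2.2.2) =
      bk K x.2.1 + bk K x.2.2.1 + bk K x.2.2.2 + bk K (par x)
    rw [hp]
  · rfl
  · rfl

theorem transport (h : Four K) {ρ ω : K} (hρ : ρ ^ 3 = 1) (hω : ω ^ 2 + ω + 1 = 0) {y z : MulAut (PV K)} (hy : EE ρ ω y)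
    (hy9 : y ^ 9 = 1) (hz : FF ρ ω z) (hz9 : z ^ 9 = 1) (hc : y * z = z * y) (hy1 : y ≠ 1) (hz1 : z ≠ 1) :
    ∃ (θ : MulAut (PG K)) (t : MulAut (PV K)), IsRP θ t ∧ (∀ r, t * au r = au r * t) ∧
      Acts ρ ω (t * y * t⁻¹) Y0 ∧ Acts ρ ω (t * z * t⁻¹) W0 := by
  obtain ⟨a, ha, hA⟩ := (EE_acts h hρ hω hy hy9).resolve_left hy1
  obtain ⟨b, hb, hB⟩ := (FF_acts h hρ hω hz hz9).resolve_left hz1
  have hAB := hA.mul hB
  rw [hc] at hAB
  obtain ⟨i, j, k, hijk⟩ := finTr a ha b hb (fun x _ => hAB.eq_of h hρ hω (hB.mul hA) x)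
  have key : ∃ (θ : MulAut (PG K)) (t : MulAut (PV K)), IsRP θ t ∧ (∀ r, t * au r = au r * t) ∧ Acts ρ ω t (tr i j k) := by
    have hcomm : ∀ s r : K, au s * au r = au r * au s := by
      intro s r; rw [← au_add, ← au_add, add_comm]
    have h1 : ∃ (θ : MulAut (PG K)) (t : MulAut (PV K)), IsRP θ t ∧ (∀ r, t * au r = au r * t) ∧
        Acts ρ ω t (fun x => bif i then s1 x else x) := by
      cases i
      · exact ⟨1, 1, isRP_one, fun r => by rw [one_mul, mul_one], Acts.one⟩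
      · exact ⟨_, _, isRP_au ρ, hcomm ρ, acts_u1 h hρ hω⟩
    obtain ⟨θ1, t1, hr1, hc1, ha1⟩ := h1
    have h2 : ∃ (θ : MulAut (PG K)) (t : MulAut (PV K)), IsRP θ t ∧ (∀ r, t * au r = au r * t) ∧
        Acts ρ ω t (fun x => bif j then s2 x else x) := by
      cases j
      · exact ⟨1, 1, isRP_one, fun r => by rw [one_mul, mul_one], Acts.one⟩
      · exact ⟨_, _, isRP_au _, hcomm _, acts_u2 h hρ hω⟩
    obtain ⟨θ2, t2, hr2, hc2, ha2⟩ := h2
    have h3 : ∃ (θ : MulAut (PG K)) (t : MulAut (PV K)), IsRP θ t ∧ (∀ r, t * au r = au r * t) ∧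
        Acts ρ ω t (fun x => bif k then th x else x) := by
      cases k
      · exact ⟨1, 1, isRP_one, fun r => by rw [one_mul, mul_one], Acts.one⟩
      · obtain ⟨t, h4, h5, h6⟩ := th_act h (ρ := ρ) hω
        exact ⟨_, t, h4, h5, h6⟩
    obtain ⟨θ3, t3, hr3, hc3, ha3⟩ := h3
    refine ⟨_, t3 * (t2 * t1), isRP_mul hr3 (isRP_mul hr2 hr1), fun r => ?_, ?_⟩
    · rw [mul_assoc, mul_assoc, hc1, ← mul_assoc t2, hc2, mul_assoc, ← mul_assoc, hc3, mul_assoc]
    · intro x
      rw [(ha3.mul (ha2.mul ha1)) x]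
      unfold tr
      cases k <;> rfl
  obtain ⟨θ, t, hr, hcm, hact⟩ := key
  refine ⟨θ, t, hr, hcm, fun x => ?_, fun x => ?_⟩
  · obtain ⟨x', rfl⟩ := tr_surj i j k x
    rw [← hact x', MulAut.mul_apply, MulAut.mul_apply, MulAut.inv_apply_self, hA, hact, (hijk x').1]
  · obtain ⟨x', rfl⟩ := tr_surj i j k x
    rw [← hact x', MulAut.mul_apply, MulAut.mul_apply, MulAut.inv_apply_self, hB, hact, (hijk x').2]

end Cfsg.Agent.H568.P4
end

-- part: H568/P4/TwoU
section
/-!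
# S5210, `q = 2`, piece (2U) (helper568)
-/

set_option autoImplicit false

namespace Cfsg.Agent.H568.P4

open Cfsg Cfsg.FusionSystem Cfsg.Agent.H776.P4
open Cfsg.Agent.H756.PU (HypK)

universe u

variable {K : Type u} [Field K] [StarRing K]

theorem au_injective : Function.Injective (au : K → MulAut (PV K)) := by
  intro r s h
  have h1 := au_b r (vV 1 1 e0)
  have h2 := au_b s (vV 1 1 e0)
  rw [h, h2] at h1
  have hc : ((vV 1 1 e0 : PV K) : PG K).c = 1 := by
    show bk K true + bk K false + bk K false + bk K false = 1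
    simp
  rw [hc, mul_one, mul_one] at h1
  exact (add_left_cancel h1).symm

/-- the standard group -/
structure Std (ω : K) (Δ : Subgroup (MulAut (PV K))) : Prop where
  card : Nat.card Δ = 36
  hau : ∀ r, au r ∈ Δ
  y : ∃ y ∈ Δ, Acts 1 ω y Y0
  z : ∃ z ∈ Δ, Acts 1 ω z W0

theorem Std.uniq (h : Four K) {ω : K} (hω : ω ^ 2 + ω + 1 = 0) {Δ Δ' : Subgroup (MulAut (PV K))} (hΔ : Std ω Δ)
    (hΔ' : Std ω Δ') : Δ = Δ' := by
  have hρ : (1 : K) ^ 3 = 1 := one_pow 3
  have : Finite Δ := Nat.finite_of_card_ne_zero (by rw [hΔ.card]; omega)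
  have : Finite Δ' := Nat.finite_of_card_ne_zero (by rw [hΔ'.card]; omega)
  set H := Δ ⊓ Δ' with hH
  have hHf : Finite H := Finite.Set.subset (Δ : Set (MulAut (PV K))) (fun x hx => hx.1)
  obtain ⟨y, hy, hyA⟩ := hΔ.y
  obtain ⟨y', hy', hyA'⟩ := hΔ'.y
  obtain ⟨z, hz, hzA⟩ := hΔ.z
  obtain ⟨z', hz', hzA'⟩ := hΔ'.z
  have hyy : y' = y := hyA'.ext h hρ hω hyA (fun _ => rfl)
  have hzz : z' = z := hzA'.ext h hρ hω hzA (fun _ => rfl)
  subst hyy; subst hzz
  have h9 : 9 ∣ Nat.card H := by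
    have hy3 : y' ^ 3 = 1 := by
      rw [pow_succ, sq]
      exact ((hyA.mul hyA).mul hyA).ext h hρ hω Acts.one Y0_three
    have hz3 : z' ^ 3 = 1 := by
      rw [pow_succ, sq]
      exact ((hzA.mul hzA).mul hzA).ext h hρ hω Acts.one W0_three
    have hc : y' * z' = z' * y' := (hyA.mul hzA).ext h hρ hω (hzA.mul hyA) finCom
    refine nine_dvd (H := H) (y := ⟨y', hy, hy'⟩) (z := ⟨z', hz, hz'⟩) (Subtype.ext hc) (Subtype.ext hy3) (Subtype.ext hz3)
      ?_ ?_ ?_ ?_
    · intro h1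
      have h2 : z' = 1 := congrArg Subtype.val h1
      rw [h2] at hzA
      exact finStd.2.1 (hzA.eq_of h hρ hω Acts.one e0)
    · intro h1
      have h2 : y' = 1 := congrArg Subtype.val h1
      rw [h2] at hyA
      exact finStd.1 (hyA.eq_of h hρ hω Acts.one e0)
    · intro h1
      have h2 : z' = y' := congrArg Subtype.val h1
      rw [h2] at hzA
      obtain ⟨x, hx⟩ := finNe.1
      exact hx (hzA.eq_of h hρ hω hyA x)
    · intro h1
      have h2 : z' = y' ^ 2 := congrArg Subtype.val h1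
      rw [h2, sq] at hzA
      obtain ⟨x, hx⟩ := finNe.2
      exact hx (hzA.eq_of h hρ hω (hyA.mul hyA) x)
  have h4 : 4 ∣ Nat.card H := by
    let f : Multiplicative K →* H := MonoidHom.mk' (fun r => ⟨au r.toAdd, hΔ.hau _, hΔ'.hau _⟩) (by
      intro a b; exact Subtype.ext (au_add _ _))
    have hf : Function.Injective f := by
      intro a b hab
      exact Multiplicative.toAdd.injective (au_injective (congrArg Subtype.val hab))
    have h5 := Subgroup.card_dvd_of_injective f hf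
    have h6 : Nat.card (Multiplicative K) = 4 := h.card
    rwa [h6] at h5
  have h36 : 36 ∣ Nat.card H := (Nat.Coprime.mul_dvd_of_dvd_of_dvd (by norm_num : Nat.Coprime 9 4) h9 h4)
  have hpos : 0 < Nat.card H := Nat.card_pos
  have h36' : 36 ≤ Nat.card H := Nat.le_of_dvd hpos h36
  have h1 : H = Δ := Subgroup.eq_of_le_of_card_ge inf_le_left (by rw [hΔ.card]; exact h36')
  have h2 : H = Δ' := Subgroup.eq_of_le_of_card_ge inf_le_right (by rw [hΔ'.card]; exact h36')
  exact h1.symm.trans h2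

/-- the eigenspaces -/
theorem norm_form (h : Four K) {ω : K} (hω : ω ^ 2 + ω + 1 = 0) {Γ : Subgroup (MulAut (PV K))} (hΓ : Nat.card Γ = 36)
    (hau : ∀ r, au r ∈ Γ) : ∃ ρ ω' : K, ρ ^ 3 = 1 ∧ ω' ^ 2 + ω' + 1 = 0 ∧ ∃ y ∈ Γ, ∃ z ∈ Γ, y ≠ 1 ∧ z ≠ 1 ∧ y ^ 9 = 1 ∧
      z ^ 9 = 1 ∧ y * z = z * y ∧ EE ρ ω' y ∧ FF ρ ω' z := by
  have h2 := h.two
  have hω3 : ω ^ 3 = 1 := by linear_combination (ω - 1) * hω
  have hω2 : ω ^ 2 = 1 + ω := by linear_combination hω - (1 + ω) * h2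
  have hω' : (ω ^ 2) ^ 2 + ω ^ 2 + 1 = 0 := by linear_combination hω + ω * hω3
  have hρ : (1 : K) ^ 3 = 1 := one_pow 3
  have hΓf : Finite Γ := Nat.finite_of_card_ne_zero (by omega)
  -- no central element of odd order
  have hcen : ∀ d : Γ, d ^ 9 = 1 → (∀ x, d * x = x * d) → d = 1 := by
    intro d hd hx
    apply Subtype.ext
    refine F1 h hρ hω ?_ ?_ ?_
    · exact congrArg Subtype.val (hx ⟨au 1, hau 1⟩)
    · exact congrArg Subtype.val (hx ⟨au (1 * ω), hau _⟩)
    · exact congrArg Subtype.val hd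
  obtain ⟨Q, hQ⟩ : ∃ Q : Subgroup Γ, Nat.card Q = 9 := by
    have : Fact (Nat.Prime 3) := ⟨by norm_num⟩
    obtain ⟨Q, hQ⟩ := Sylow.exists_subgroup_card_pow_prime (G := Γ) 3 (n := 2) (by rw [hΓ]; norm_num)
    exact ⟨Q, by rw [hQ]; norm_num⟩
  have hQn : Q.Normal := by
    refine ⟨fun q hq x => ?_⟩
    have h1 : Nat.card (Q.map (MulAut.conj x).toMonoidHom) = 9 := by
      rw [← hQ]
      exact (Nat.card_congr (Q.equivMapOfInjective _ (MulAut.conj x).injective).toEquiv).symm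
    have h3 : Q.map (MulAut.conj x).toMonoidHom = Q := by
      by_contra hne
      obtain ⟨d, hd1, hd9, hd⟩ := centre_of_two hΓ h1 hQ hne
      exact hd1 (hcen d hd9 hd)
    rw [← h3]
    exact ⟨q, hq, rfl⟩
  have hQc : ∀ a b : Q, a * b = b * a := by
    have : Fact (Nat.Prime 3) := ⟨by norm_num⟩
    have h1 : IsMulCommutative Q := IsPGroup.isMulCommutative_of_card_eq_prime_sq (p := 3) (by rw [hQ]; norm_num)
    exact h1.is_comm.comm
  let _ : CommGroup Q := { (inferInstance : Group Q) with mul_comm := hQc }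
  set A1 : Γ := ⟨au 1, hau 1⟩ with hA1
  set A2 : Γ := ⟨au ω, hau ω⟩ with hA2
  have hAA : ∀ r : K, au r * au r = 1 := by
    intro r
    rw [← au_add, show r + r = 0 by linear_combination r * h2, au_zero]
  have hA11 : A1 * A1 = 1 := Subtype.ext (hAA 1)
  have hA22 : A2 * A2 = 1 := Subtype.ext (hAA ω)
  have hA12 : A1 * A2 = A2 * A1 := Subtype.ext (by
    show au 1 * au ω = au ω * au 1
    rw [← au_add, ← au_add, add_comm])
  let σ : Q →* Q := (MulAut.conjNormal (H := Q) A1).toMonoidHom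
  let τ : Q →* Q := (MulAut.conjNormal (H := Q) A2).toMonoidHom
  have hσe : ∀ x : Q, ((σ x : Q) : Γ) = A1 * x * A1⁻¹ := fun x => rfl
  have hτe : ∀ x : Q, ((τ x : Q) : Γ) = A2 * x * A2⁻¹ := fun x => rfl
  -- translation
  have com1 : ∀ x : Q, σ x = x → ((x : Γ) : MulAut (PV K)) * au 1 = au 1 * ((x : Γ) : MulAut (PV K)) := by
    intro x hx
    have h3 : A1 * x * A1⁻¹ = (x : Γ) := by rw [← hσe, hx]
    have h4 : A1 * x = x * A1 := mul_inv_eq_iff_eq_mul.1 h3
    exact (congrArg Subtype.val h4).symm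
  have com2 : ∀ x : Q, τ x = x → ((x : Γ) : MulAut (PV K)) * au ω = au ω * ((x : Γ) : MulAut (PV K)) := by
    intro x hx
    have h3 : A2 * x * A2⁻¹ = (x : Γ) := by rw [← hτe, hx]
    have h4 : A2 * x = x * A2 := mul_inv_eq_iff_eq_mul.1 h3
    exact (congrArg Subtype.val h4).symm
  have inv1 : ∀ x : Q, σ x = x⁻¹ → ((x : Γ) : MulAut (PV K)) * au 1 * ((x : Γ) : MulAut (PV K)) = au 1 := by
    intro x hx
    have h3 : A1 * x * A1⁻¹ = ((x : Γ))⁻¹ := by rw [← hσe, hx]; rfl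
    have h4 : A1 * x = (x : Γ)⁻¹ * A1 := mul_inv_eq_iff_eq_mul.1 h3
    have h5 : (x : Γ) * A1 * x = A1 := by rw [mul_assoc, h4, mul_inv_cancel_left]
    exact congrArg Subtype.val h5
  have inv2 : ∀ x : Q, τ x = x⁻¹ → ((x : Γ) : MulAut (PV K)) * au ω * ((x : Γ) : MulAut (PV K)) = au ω := by
    intro x hx
    have h3 : A2 * x * A2⁻¹ = ((x : Γ))⁻¹ := by rw [← hτe, hx]; rfl
    have h4 : A2 * x = (x : Γ)⁻¹ * A2 := mul_inv_eq_iff_eq_mul.1 h3
    have h5 : (x : Γ) * A2 * x = A2 := by rw [mul_assoc, h4, mul_inv_cancel_left]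
    exact congrArg Subtype.val h5
  have h9 : ∀ x : Q, ((x : Γ) : MulAut (PV K)) ^ 9 = 1 := by
    intro x
    have h3 : x ^ 9 = 1 := by rw [← hQ]; exact pow_card_eq_one'
    have h4 := congrArg (fun w : Q => ((w : Γ) : MulAut (PV K))) h3
    exact h4
  have h12 : au (ω ^ 2) = au 1 * au ω := by rw [hω2, au_add]
  -- `a b` commutes with `y` etc.
  have gCI : ∀ {a b y : MulAut (PV K)}, y * a = a * y → y * b * y = b → y * (a * b) * y = a * b := by
    intro a b y h3 h4
    rw [← mul_assoc, h3, mul_assoc a y b, mul_assoc a (y * b) y, h4]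
  have gIC : ∀ {a b y : MulAut (PV K)}, y * a * y = a → y * b = b * y → y * (a * b) * y = a * b := by
    intro a b y h3 h4
    rw [mul_assoc, mul_assoc, ← h4, ← mul_assoc, ← mul_assoc, h3]
  have gII : ∀ {a b y : MulAut (PV K)}, y * a * y = a → y * b * y = b → y * (a * b) = a * b * y := by
    intro a b y h3 h4
    have h5 : b * y = y⁻¹ * b := by rw [eq_inv_mul_iff_mul_eq, ← mul_assoc, h4]
    have h6 : y * a = a * y⁻¹ := by rw [eq_mul_inv_iff_mul_eq, h3]
    rw [← mul_assoc, h6, mul_assoc, mul_assoc, h5]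
  have hωω : ω * ω ^ 2 = 1 := by rw [← hω3]; ring
  have hωω' : ω ^ 2 * ω = 1 := by rw [← hω3]; ring
  have hω23 : (ω ^ 2) ^ 3 = 1 := by rw [← pow_mul, mul_comm, pow_mul, hω3, one_pow]
  have eA : ∀ x : Q, (σ x = x ∧ τ x = x⁻¹) → EE 1 ω ((x : Γ) : MulAut (PV K)) := by
    intro x hx
    refine ⟨com1 x hx.1, ?_⟩
    rw [one_mul]; exact inv2 x hx.2
  have eA' : ∀ x : Q, (σ x = x ∧ τ x = x⁻¹) → EE 1 (ω ^ 2) ((x : Γ) : MulAut (PV K)) := by
    intro x hx
    refine ⟨com1 x hx.1, ?_⟩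
    rw [one_mul, h12]; exact gCI (com1 x hx.1) (inv2 x hx.2)
  have eC : ∀ x : Q, (σ x = x⁻¹ ∧ τ x = x) → EE ω (ω ^ 2) ((x : Γ) : MulAut (PV K)) := by
    intro x hx
    refine ⟨com2 x hx.2, ?_⟩
    rw [hωω]; exact inv1 x hx.1
  have eC' : ∀ x : Q, (σ x = x⁻¹ ∧ τ x = x) → EE ω ω ((x : Γ) : MulAut (PV K)) := by
    intro x hx
    refine ⟨com2 x hx.2, ?_⟩
    rw [← sq, h12]; exact gIC (inv1 x hx.1) (com2 x hx.2)
  have eD : ∀ x : Q, (σ x = x⁻¹ ∧ τ x = x⁻¹) → EE (ω ^ 2) ω ((x : Γ) : MulAut (PV K)) := by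
    intro x hx
    refine ⟨?_, ?_⟩
    · rw [h12]; exact gII (inv1 x hx.1) (inv2 x hx.2)
    · rw [hωω']; exact inv1 x hx.1
  have hcom : ∀ y y' : Q, ((y : Γ) : MulAut (PV K)) * ((y' : Γ) : MulAut (PV K)) =
      ((y' : Γ) : MulAut (PV K)) * ((y : Γ) : MulAut (PV K)) := by
    intro y y'
    exact congrArg (fun w : Q => ((w : Γ) : MulAut (PV K))) (hQc y y')
  have hne : ∀ y : Q, y ≠ 1 → ((y : Γ) : MulAut (PV K)) ≠ 1 := by
    intro y hy h3; exact hy (Subtype.ext (Subtype.ext h3))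
  have back : ∀ y y' : Q, (((y' : Γ) : MulAut (PV K)) = 1 ∨ ((y' : Γ) : MulAut (PV K)) = ((y : Γ) : MulAut (PV K)) ∨
      ((y' : Γ) : MulAut (PV K)) = ((y : Γ) : MulAut (PV K)) ^ 2) → y' = 1 ∨ y' = y ∨ y' = y ^ 2 := by
    intro y y' h3
    rcases h3 with h3 | h3 | h3
    · exact Or.inl (Subtype.ext (Subtype.ext h3))
    · exact Or.inr (Or.inl (Subtype.ext (Subtype.ext h3)))
    · exact Or.inr (Or.inr (Subtype.ext (Subtype.ext h3)))
  obtain ⟨y, z, hy1, hz1, hyz⟩ := two_of_three hQ σ τ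
    (by
      intro x
      apply Subtype.ext
      rw [hσe, hσe, mul_assoc, mul_assoc, mul_assoc, ← mul_inv_rev, hA11, ← mul_assoc, ← mul_assoc, hA11]
      simp)
    (by
      intro x
      apply Subtype.ext
      rw [hτe, hτe, mul_assoc, mul_assoc, mul_assoc, ← mul_inv_rev, hA22, ← mul_assoc, ← mul_assoc, hA22]
      simp only [_root_.one_mul, _root_.inv_one, _root_.mul_one])
    (by
      intro x
      apply Subtype.ext
      rw [hσe, hτe, hτe, hσe]
      calc A1 * (A2 * (x : Γ) * A2⁻¹) * A1⁻¹ = (A1 * A2) * x * (A1 * A2)⁻¹ := by group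
        _ = (A2 * A1) * x * (A2 * A1)⁻¹ := by rw [hA12]
        _ = A2 * (A1 * x * A1⁻¹) * A2⁻¹ := by group)
    (by
      intro x hx hx'
      have h3 : ((x : Γ) : MulAut (PV K)) = 1 := F1 h hρ hω (com1 x hx) (by rw [one_mul]; exact com2 x hx') (h9 x)
      exact Subtype.ext (Subtype.ext h3))
    (fun y y' hy hy' hy1 => back y y' (EE_small h hρ hω (eA y hy) (h9 y) (eA y' hy') (h9 y') (hcom y y') (hne y hy1)))
    (fun y y' hy hy' hy1 => back y y' (EE_small h hω3 hω' (eC y hy) (h9 y) (eC y' hy') (h9 y') (hcom y y') (hne y hy1)))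
    (fun y y' hy hy' hy1 => back y y' (EE_small h hω23 hω (eD y hy) (h9 y) (eD y' hy') (h9 y') (hcom y y') (hne y hy1)))
  rcases hyz with (⟨hy, hz⟩ | ⟨hy, hz⟩) | ⟨hy, hz⟩
  · refine ⟨1, ω, hρ, hω, y, (y : Γ).2, z, (z : Γ).2, hne y hy1, hne z hz1, h9 y, h9 z, hcom y z, eA y hy, ?_, inv1 z hz.1⟩
    rw [one_mul]; exact com2 z hz.2
  · refine ⟨1, ω ^ 2, hρ, hω', y, (y : Γ).2, z, (z : Γ).2, hne y hy1, hne z hz1, h9 y, h9 z, hcom y z, eA' y hy, ?_,
      inv1 z hz.1⟩
    rw [one_mul]; exact (eD z hz).1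
  · refine ⟨ω, ω, hω3, hω, y, (y : Γ).2, z, (z : Γ).2, hne y hy1, hne z hz1, h9 y, h9 z, hcom y z, eC' y hy, ?_,
      inv2 z hz.2⟩
    rw [← sq]; exact (eD z hz).1

/-- conjugation into the standard group -/
theorem standard (h : Four K) {ω : K} (hω : ω ^ 2 + ω + 1 = 0) {Γ : Subgroup (MulAut (PV K))} (hΓ : Nat.card Γ = 36)
    (hau : ∀ r, au r ∈ Γ) : ∃ (θ : MulAut (PG K)) (t : MulAut (PV K)), IsRP θ t ∧
      Std ω (Γ.map (MulAut.conj t).toMonoidHom) := by
  have h1 : (1 : K) ^ 3 = 1 := one_pow 3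
  obtain ⟨ρ, ω', hρ, hω', y, hy, z, hz, hy1, hz1, hy9, hz9, hc, hE, hF⟩ := norm_form h hω hΓ hau
  obtain ⟨θ1, t1, hr1, hc1, hY, hW⟩ := transport h hρ hω' hE hy9 hF hz9 hc hy1 hz1
  obtain ⟨θ2, t2, hr2, hc2, hm⟩ := move h hρ hω' h1 hω
  have hact : ∀ {w : MulAut (PV K)} {f : Mk → Mk}, Acts ρ ω' w f → Acts 1 ω (t2 * w * t2⁻¹) f := by
    intro w f hw x
    rw [← hm x, MulAut.mul_apply, MulAut.mul_apply, MulAut.inv_apply_self, hw, hm]
  have hmem : ∀ w ∈ Γ, t2 * (t1 * w * t1⁻¹) * t2⁻¹ ∈ Γ.map (MulAut.conj (t2 * t1)).toMonoidHom := by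
    intro w hw
    refine ⟨w, hw, ?_⟩
    show t2 * t1 * w * (t2 * t1)⁻¹ = _
    group
  refine ⟨θ2 * θ1, t2 * t1, isRP_mul hr2 hr1, ?_, ?_, ⟨_, hmem y hy, hact hY⟩, ⟨_, hmem z hz, hact hW⟩⟩
  · rw [← hΓ]
    exact (Nat.card_congr (Γ.equivMapOfInjective _ (MulAut.conj (t2 * t1)).injective).toEquiv).symm
  · intro r'
    obtain ⟨r, hr⟩ := hc2 r'
    have h3 := hmem _ (hau r)
    rwa [hc1, mul_inv_cancel_right, hr] at h3

/-- (2U) -/
theorem twoU : StTwoU.{u} := by
  intro K _ _ p n hyp hpn Γ Γ' hΓ hΓ' hc hc'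
  have h := Four.of_hyp hyp hpn
  have hfin := h.fin
  -- an element of order three
  obtain ⟨ω, hω⟩ : ∃ ω : K, ω ^ 2 + ω + 1 = 0 := by
    have : Fintype K := Fintype.ofFinite K
    by_contra hno
    have h1 : ∀ x : K, x = 0 ∨ x = 1 := by
      intro x
      have h2 : x * ((x - 1) * (x ^ 2 + x + 1)) = 0 := by linear_combination h.four x
      rcases mul_eq_zero.1 h2 with h3 | h3
      · exact Or.inl h3
      rcases mul_eq_zero.1 h3 with h3 | h3
      · exact Or.inr (sub_eq_zero.1 h3)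
      · exact absurd ⟨x, h3⟩ hno
    have h2 : (Set.univ : Set K) ⊆ {0, 1} := by
      intro x _
      rcases h1 x with h3 | h3 <;> simp [h3]
    have h3 := Set.ncard_le_ncard h2 (Set.toFinite _)
    rw [Set.ncard_univ, h.card, Set.ncard_pair zero_ne_one] at h3
    omega
  obtain ⟨θ, t, hr, hS⟩ := standard h hω hc (fun r => hΓ (au_mem r))
  obtain ⟨θ', t', hr', hS'⟩ := standard h hω hc' (fun r => hΓ' (au_mem r))
  have heq := hS.uniq h hω hS'
  refine ⟨θ'⁻¹ * θ, t'⁻¹ * t, isRP_mul (isRP_inv hr') hr, ?_⟩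
  have h1 : (MulAut.conj (t'⁻¹ * t)).toMonoidHom = (MulAut.conj t'⁻¹).toMonoidHom.comp (MulAut.conj t).toMonoidHom := by
    ext1 x
    show t'⁻¹ * t * x * (t'⁻¹ * t)⁻¹ = t'⁻¹ * (t * x * t⁻¹) * t'⁻¹⁻¹
    group
  rw [h1, ← Subgroup.map_map, heq, Subgroup.map_map]
  have h2 : (MulAut.conj t'⁻¹).toMonoidHom.comp (MulAut.conj t').toMonoidHom = MonoidHom.id _ := by
    ext1 x
    show t'⁻¹ * (t' * x * t'⁻¹) * t'⁻¹⁻¹ = x
    group
  rw [h2, Subgroup.map_id]

end Cfsg.Agent.H568.P4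
end

private theorem dce_e2524969bcf3 : _root_.True := by
  try have : _root_.True := by simp only [_root_.Cfsg.Agent.H568.P4.s1.eq_1]
  try have : _root_.True := by simp only [_root_.Cfsg.Agent.H568.P4.s2.eq_1]
  try have : _root_.True := by simp only [_root_.Cfsg.Agent.H568.P4.z0.eq_1]
  try have : _root_.True := by simp only [_root_.Cfsg.Agent.H568.P4.th.eq_1]
  try have : _root_.True := by simp only [_root_.Cfsg.Agent.H568.P4.uu.eq_1]
  try have : _root_.True := by simp only [_root_.Cfsg.Agent.H568.P4.par.eq_1]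
  try have : _root_.True := by simp only [_root_.Cfsg.Agent.H568.P4.app.eq_1]
  try have : _root_.True := by simp only [_root_.Cfsg.Agent.H568.P4.xa.eq_1]
  try have : _root_.True := by simp only [_root_.Cfsg.Agent.H568.P4.vec.eq_1]
  try have : _root_.True := by simp only [_root_.Cfsg.Agent.H776.P4.PG.mk.congr_simp]
  exact _root_.True.intro
end

section
prune_inst 0xfcfffaaef8bfffdfff7e7ffe9bdffdbbd15fffffdff943ffe0ebff4f9f030209c1abad8de090fc1ed7629c10b87853f97eceffea6bd87ffffd1ff41ffbee4ff5f7b50971548c340fbc0fff03f07f8e7f000000000000000000000000000000004200000000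

-- part: H763/P4/Q_mg
section
prune_inst 0x20001000000000000000000040000442c200000000488000000008040480044000000021b0800010000000442030004811000000000000000000000001180080000000000000a000000000000000000000000000000000000000000000000000000000000
set_option linter.all false
open scoped Cfsg.Agent.FastGrp

-- part: H763/P4/Q
section
/-!
# S5210 (Q): the parabolic `Q`, `q > 3`, from the action on `Q/Z` (`StQa`) and the uniqueness of lifts (`StLift`) (helper763)

* `CP`: the automorphisms of `Q` acting trivially on `Q/Z`; `UP`: the image of `SL₂(k)` in `Aut(Q)`.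
-/

set_option autoImplicit false

namespace Cfsg.Agent.H763.P4

open Cfsg Cfsg.FusionSystem Cfsg.Agent.H776.P4 Cfsg.Agent.H802
open Cfsg.Agent.H756.PU (HypK Inv NormAut TIAut AF StLift)
open Cfsg.Agent.H541.PU (exists_prim exists_ne_star exists_theta not_dvd_of_syl le_normalizer_of_conj mem_sup_iff_map)

universe u

variable {K : Type u} [Field K] [StarRing K] {p n : ℕ}

/-! ### the group `Q` -/

theorem PQ_conj_mem (g : PG K) {e : PG K} (he : e ∈ PQ K) : g * e * g⁻¹ ∈ PQ K := by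
  have h1 : e.c = 0 := he
  change (g * e * g⁻¹).c = 0
  simp [h1]

instance PQ_normal : (PQ K).Normal := ⟨fun _ he g => PQ_conj_mem g he⟩

@[simp] theorem q_c (e : PQ K) : (e : PG K).c = 0 := e.2

/-- elements of `Q` are determined by the coordinates `r, a, b` -/
theorem ext3 {e e' : PQ K} (hr : (e : PG K).r = (e' : PG K).r) (ha : (e : PG K).a = (e' : PG K).a)
    (hb : (e : PG K).b = (e' : PG K).b) : e = e' := by
  apply Subtype.ext
  ext
  · exact hr
  · exact ha
  · exact hb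
  · rw [q_c, q_c]

theorem q_r (e e' : PQ K) : ((e * e' : PQ K) : PG K).r = (e : PG K).r + (e' : PG K).r := rfl
theorem q_b (e e' : PQ K) : ((e * e' : PQ K) : PG K).b = (e : PG K).b + (e' : PG K).b := by
  simp [PG.mul_b]
theorem q_a (e e' : PQ K) : ((e * e' : PQ K) : PG K).a = (e : PG K).a + (e' : PG K).a
    + (e : PG K).r * star (e' : PG K).b + star (e : PG K).r * (e' : PG K).b := by
  simp only [PG.mul_a, _root_.Subgroup.coe_mul, _root_.Cfsg.Agent.H763.P4.q_c, _root_.MulZeroClass.mul_zero, _root_.add_zero]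
theorem qi_r (e : PQ K) : ((e⁻¹ : PQ K) : PG K).r = - (e : PG K).r := rfl
theorem qi_b (e : PQ K) : ((e⁻¹ : PQ K) : PG K).b = - (e : PG K).b := by
  simp [PG.inv_b]

/-- the element with given coordinates -/
def mkQ (r a b : K) (h : star a = a) : PQ K :=
  ⟨{ r := r, a := a, b := b, c := 0, ha := h, hc := by simp }, rfl⟩

theorem exists_mk (r b : K) : ∃ e : PQ K, (e : PG K).r = r ∧ (e : PG K).b = b :=
  ⟨mkQ r 0 b (by simp), rfl, rfl⟩

theorem mem_center_of {z : PQ K} (hr : (z : PG K).r = 0) (hb : (z : PG K).b = 0) :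
    z ∈ Subgroup.center (PQ K) := by
  rw [Subgroup.mem_center_iff]
  intro g
  apply ext3
  · rw [q_r, q_r]; ring
  · rw [q_a, q_a, hr, hb]; simp only [add_comm, _root_.star_zero, _root_.MulZeroClass.mul_zero, _root_.add_zero, _root_.MulZeroClass.zero_mul]
  · rw [q_b, q_b]; ring

theorem coords_of_mem_center (h : HypK K p n) {z : PQ K} (hz : z ∈ Subgroup.center (PQ K)) :
    (z : PG K).r = 0 ∧ (z : PG K).b = 0 := by
  rw [Subgroup.mem_center_iff] at hz
  obtain ⟨θ, hθ⟩ := exists_theta h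
  have key : ∀ r b : K, r * star (z : PG K).b + star r * (z : PG K).b =
      (z : PG K).r * star b + star (z : PG K).r * b := by
    intro r b
    obtain ⟨e, h1, h3⟩ := exists_mk r b
    have := congrArg (fun x : PQ K => (x : PG K).a) (hz e)
    simp only [q_a, h1, h3] at this
    linear_combination this
  refine ⟨?_, ?_⟩
  · by_contra hr
    have hsr : star (z : PG K).r ≠ 0 := star_ne_zero.2 hr
    have h1 := key 0 (θ / star (z : PG K).r)
    simp only [zero_mul, star_zero, add_zero] at h1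
    rw [star_div₀, star_star, mul_div_cancel₀ _ hr, mul_div_cancel₀ _ hsr] at h1
    rw [add_comm, hθ] at h1
    exact zero_ne_one h1
  · by_contra hr
    have hsr : star (z : PG K).b ≠ 0 := star_ne_zero.2 hr
    have h1 := key (θ / star (z : PG K).b) 0
    simp only [mul_zero, star_zero, add_zero] at h1
    rw [star_div₀, star_star, div_mul_cancel₀ _ hsr, div_mul_cancel₀ _ hr, hθ] at h1
    exact one_ne_zero h1

variable (K) in
/-- the automorphisms of `Q` acting trivially on `Q/Z` -/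
def CP : Subgroup (MulAut (PQ K)) where
  carrier := {α | ∀ e : PQ K, ((α e : PQ K) : PG K).r = (e : PG K).r ∧ ((α e : PQ K) : PG K).b = (e : PG K).b}
  one_mem' := fun e => ⟨rfl, rfl⟩
  mul_mem' := by
    intro α β hα hβ e
    rw [MulAut.mul_apply]
    exact ⟨(hα _).1.trans (hβ _).1, (hα _).2.trans (hβ _).2⟩
  inv_mem' := by
    intro α hα e
    have h1 := hα (α⁻¹ e)
    have h3 : α (α⁻¹ e) = e := α.apply_symm_apply e
    rw [h3] at h1
    exact ⟨h1.1.symm, h1.2.symm⟩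

theorem conj_mem_CP (y : PQ K) : MulAut.conj y ∈ CP K := by
  intro e
  rw [MulAut.conj_apply]
  refine ⟨?_, ?_⟩
  · rw [q_r, q_r, qi_r]; ring
  · rw [q_b, q_b, qi_b]; ring

theorem inv_mul_mem_center {α : MulAut (PQ K)} (hα : α ∈ CP K) (e : PQ K) : e⁻¹ * α e ∈ Subgroup.center (PQ K) := by
  obtain ⟨h1, h3⟩ := hα e
  apply mem_center_of
  · rw [q_r, qi_r, h1]; ring
  · rw [q_b, qi_b, h3]; ring

/-- the elements of `CP` act trivially on the centre -/
theorem CP_center (h : HypK K p n) {α : MulAut (PQ K)} (hα : α ∈ CP K) {z : PQ K}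
    (hz : z ∈ Subgroup.center (PQ K)) : α z = z := by
  obtain ⟨h1, h3⟩ := coords_of_mem_center h hz
  obtain ⟨θ, hθ⟩ := exists_theta h
  have ha := (z : PG K).ha
  -- z is a commutator
  set e : PQ K := mkQ 1 0 0 (by simp) with he
  set f : PQ K := mkQ 0 0 ((z : PG K).a * θ) (by simp) with hf
  have hzc : e * f = z * (f * e) := by
    apply ext3
    · simp only [q_r, h1]; rw [he, hf]; simp [mkQ]
    · simp only [q_a, q_r, q_b, h1, h3]; rw [he, hf]; simp only [mkQ, _root_.add_zero, _root_.star_mul', _root_.one_mul, _root_.zero_add, _root_.star_one, _root_.star_zero, _root_.MulZeroClass.mul_zero, _root_.MulZeroClass.zero_mul]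
      linear_combination (z : PG K).a * hθ + star θ * ha
    · simp only [q_b, h3]; rw [he, hf]; simp [mkQ]
  have hc : ∀ x y : PQ K, α x * α y * (x * y)⁻¹ = (x⁻¹ * α x) * (y⁻¹ * α y) := by
    intro x y
    have c1 := Subgroup.mem_center_iff.1 (inv_mul_mem_center hα x)
    have c2 := Subgroup.mem_center_iff.1 (inv_mul_mem_center hα y)
    have e1 : α x = x * (x⁻¹ * α x) := by group
    have e2 : α y = y * (y⁻¹ * α y) := by group
    generalize x⁻¹ * α x = s at *
    generalize y⁻¹ * α y = t at *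
    rw [e1, e2, mul_inv_rev]
    calc x * s * (y * t) * (y⁻¹ * x⁻¹) = x * s * (y * t * y⁻¹) * x⁻¹ := by group
      _ = x * s * t * x⁻¹ := by rw [c2 y]; group
      _ = x * (s * t) * x⁻¹ := by group
      _ = s * t := by
        rw [← mul_assoc x, c1 x, mul_assoc s x t, c2 x]
        group
  have hα2 : α e * α f = α z * (α f * α e) := by
    rw [← map_mul, ← map_mul, ← map_mul, hzc]
  have k1 := hc e f
  have k2 := hc f e
  have c1 := Subgroup.mem_center_iff.1 (inv_mul_mem_center hα f) (e⁻¹ * α e)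
  have k3 : α e * α f * (e * f)⁻¹ = α f * α e * (f * e)⁻¹ := by rw [k1, k2, c1]
  rw [hα2, hzc, mul_inv_rev] at k3
  have k4 : α z * (α f * α e * (f * e)⁻¹) * z⁻¹ = α f * α e * (f * e)⁻¹ := by
    refine Eq.trans ?_ k3
    group
  have c3 : (α f * α e * (f * e)⁻¹) ∈ Subgroup.center (PQ K) := by
    rw [k2]
    exact (Subgroup.center (PQ K)).mul_mem (inv_mul_mem_center hα f) (inv_mul_mem_center hα e)
  have c4 := Subgroup.mem_center_iff.1 c3 (α z)
  rw [c4] at k4
  have k5 : α z * z⁻¹ = 1 := by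
    apply mul_left_cancel (a := α f * α e * (f * e)⁻¹)
    rw [← mul_assoc, k4, mul_one]
  exact mul_inv_eq_one.1 k5

theorem map_center {α : MulAut (PQ K)} {z : PQ K} (hz : z ∈ Subgroup.center (PQ K)) :
    α z ∈ Subgroup.center (PQ K) := by
  rw [Subgroup.mem_center_iff] at hz ⊢
  intro g
  have := congrArg α (hz (α.symm g))
  rwa [map_mul, map_mul, MulEquiv.apply_symm_apply] at this

theorem CP_normal (h : HypK K p n) : (CP K).Normal := by
  refine ⟨fun c hc γ e => ?_⟩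
  rw [MulAut.mul_apply, MulAut.mul_apply]
  set f := γ⁻¹ e with hf
  have h1 : γ f = e := γ.apply_symm_apply e
  have h2 : c f = f * (f⁻¹ * c f) := by group
  obtain ⟨k1, k3⟩ := coords_of_mem_center h (map_center (α := γ) (inv_mul_mem_center hc f))
  rw [h2, map_mul, h1, q_r, q_b, k1, k3]
  simp

theorem CP_comm (h : HypK K p n) {α β : MulAut (PQ K)} (hα : α ∈ CP K) (hβ : β ∈ CP K) : α * β = β * α := by
  apply MulEquiv.ext
  intro e
  rw [MulAut.mul_apply, MulAut.mul_apply]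
  have hα' := inv_mul_mem_center hα e
  have hβ' := inv_mul_mem_center hβ e
  have h1 : α e = e * (e⁻¹ * α e) := by group
  have h2 : β e = e * (e⁻¹ * β e) := by group
  generalize e⁻¹ * α e = s at *
  generalize e⁻¹ * β e = t at *
  rw [h2, map_mul, CP_center h hα hβ', h1, map_mul, CP_center h hβ hα', h2, mul_assoc, mul_assoc,
    Subgroup.mem_center_iff.1 hβ' s]

theorem CP_pow (h : HypK K p n) {α : MulAut (PQ K)} (hα : α ∈ CP K) (e : PQ K) (k : ℕ) :
    (α ^ k) e = e * (e⁻¹ * α e) ^ k := by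
  induction k with
  | zero => simp only [_root_.pow_zero, _root_.MulAut.one_apply, _root_.mul_one]
  | succ k ih =>
    rw [pow_succ', MulAut.mul_apply, ih, map_mul, map_pow, CP_center h hα (inv_mul_mem_center hα e), pow_succ',
      ← mul_assoc, mul_inv_cancel_left]

theorem CP_pgroup (hG : StGrp.{u}) (h : HypK K p n) : IsPGroup p (CP K) := by
  rintro ⟨α, hα⟩
  refine ⟨n * 6, ?_⟩
  apply Subtype.ext
  change α ^ (p ^ (n * 6)) = 1
  apply MulEquiv.ext
  intro e
  rw [CP_pow h hα]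
  have h1 : (e⁻¹ * α e) ^ (p ^ (n * 6)) = 1 := by
    apply Subtype.ext
    rw [Subgroup.coe_pow, pow_mul, ← (hG h).1]
    exact pow_card_eq_one'
  rw [h1, mul_one]
  rfl

/-! ### the image of `SL₂(k)` -/

/-- the automorphism given by a matrix -/
structure IsU (x y z w : K) (α : MulAut (PQ K)) : Prop where
  sx : star x = x
  sy : star y = y
  sz : star z = z
  sw : star w = w
  det : x * w - y * z = 1
  r : ∀ e : PQ K, ((α e : PQ K) : PG K).r = x * (e : PG K).r + y * (e : PG K).b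
  a : ∀ e : PQ K, ((α e : PQ K) : PG K).a = (e : PG K).a + x * z * ((e : PG K).r * star (e : PG K).r) +
    y * z * ((e : PG K).r * star (e : PG K).b + star (e : PG K).r * (e : PG K).b) +
    y * w * ((e : PG K).b * star (e : PG K).b)
  b : ∀ e : PQ K, ((α e : PQ K) : PG K).b = z * (e : PG K).r + w * (e : PG K).b

variable (K) in
/-- the image of `SL₂(k)` in `Aut(Q)` -/
def UP : Subgroup (MulAut (PQ K)) where
  carrier := {α | ∃ x y z w : K, IsU x y z w α}
  one_mem' := ⟨1, 0, 0, 1, by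
    refine ⟨by simp, by simp, by simp, by simp, by simp, ?_, ?_, ?_⟩ <;> intro e <;> simp only [_root_.MulAut.one_apply, _root_.one_mul, _root_.MulZeroClass.zero_mul, _root_.add_zero, _root_.MulZeroClass.mul_zero, _root_.mul_one, _root_.zero_add]⟩
  mul_mem' := by
    rintro α β ⟨x, y, z, w, hα⟩ ⟨x', y', z', w', hβ⟩
    refine ⟨x * x' + y * z', x * y' + y * w', z * x' + w * z', z * y' + w * w', ?_, ?_, ?_, ?_, ?_, ?_, ?_, ?_⟩
    · simp only [star_add, star_mul', hα.sx, hα.sy, hβ.sx, hβ.sz]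
    · simp only [star_add, star_mul', hα.sx, hα.sy, hβ.sw, hβ.sy]
    · simp only [star_add, star_mul', hα.sz, hα.sw, hβ.sx, hβ.sz]
    · simp only [star_add, star_mul', hα.sz, hα.sw, hβ.sw, hβ.sy]
    · linear_combination (x' * w' - y' * z') * hα.det + hβ.det
    · intro e
      rw [MulAut.mul_apply, hα.r, hβ.r, hβ.b]
      ring
    · intro e
      rw [MulAut.mul_apply, hα.a, hβ.a, hβ.r, hβ.b]
      simp only [star_add, star_mul', hβ.sx, hβ.sy, hβ.sz, hβ.sw]
      have h1 := hα.det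
      have h2 : x * w = 1 + y * z := by linear_combination h1
      linear_combination (x' * z' * ((e : PG K).r * star (e : PG K).r) +
        y' * z' * ((e : PG K).r * star (e : PG K).b + star (e : PG K).r * (e : PG K).b) +
        y' * w' * ((e : PG K).b * star (e : PG K).b)) * (-h1)
    · intro e
      rw [MulAut.mul_apply, hα.b, hβ.r, hβ.b]
      ring
  inv_mem' := by
    rintro α ⟨x, y, z, w, hα⟩
    have hd := hα.det
    have hi : ∀ e : PQ K, α (α⁻¹ e) = e := fun e => α.apply_symm_apply e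
    have hr : ∀ e : PQ K, ((α⁻¹ e : PQ K) : PG K).r = w * (e : PG K).r + (-y) * (e : PG K).b := by
      intro e
      have h1 := hα.r (α⁻¹ e)
      have h2 := hα.b (α⁻¹ e)
      rw [hi] at h1 h2
      rw [h1, h2]
      linear_combination (-((α⁻¹ e : PQ K) : PG K).r) * hd
    have hb : ∀ e : PQ K, ((α⁻¹ e : PQ K) : PG K).b = (-z) * (e : PG K).r + x * (e : PG K).b := by
      intro e
      have h1 := hα.r (α⁻¹ e)
      have h2 := hα.b (α⁻¹ e)
      rw [hi] at h1 h2
      rw [h1, h2]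
      linear_combination (-((α⁻¹ e : PQ K) : PG K).b) * hd
    refine ⟨w, -y, -z, x, ?_, ?_, ?_, ?_, ?_, hr, ?_, hb⟩
    · exact hα.sw
    · rw [star_neg, hα.sy]
    · rw [star_neg, hα.sz]
    · exact hα.sx
    · linear_combination hd
    · intro e
      have h1 := hα.a (α⁻¹ e)
      rw [hi, hr, hb] at h1
      simp only [star_add, star_mul', star_neg, hα.sx, hα.sy, hα.sz, hα.sw] at h1
      have h2 : ((α⁻¹ e : PQ K) : PG K).a = (e : PG K).a - (x * z * ((w * (e : PG K).r + (-y) * (e : PG K).b) *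
          (w * star (e : PG K).r + (-y) * star (e : PG K).b)) +
        y * z * ((w * (e : PG K).r + (-y) * (e : PG K).b) * ((-z) * star (e : PG K).r + x * star (e : PG K).b) +
          (w * star (e : PG K).r + (-y) * star (e : PG K).b) * ((-z) * (e : PG K).r + x * (e : PG K).b)) +
        y * w * (((-z) * (e : PG K).r + x * (e : PG K).b) * ((-z) * star (e : PG K).r + x * star (e : PG K).b))) := by
        linear_combination -h1
      rw [h2]
      have h3 : x * w = 1 + y * z := by linear_combination hd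
      linear_combination (-((z * w) * ((e : PG K).r * star (e : PG K).r) -
        y * z * ((e : PG K).r * star (e : PG K).b + star (e : PG K).r * (e : PG K).b) +
        x * y * ((e : PG K).b * star (e : PG K).b))) * hd

theorem eq_of_CP_UP {α : MulAut (PQ K)} (hC : α ∈ CP K) (hU : α ∈ UP K) : α = 1 := by
  obtain ⟨x, y, z, w, hα⟩ := hU
  obtain ⟨e, he1, he2⟩ := exists_mk (K := K) 1 0
  obtain ⟨f, hf1, hf2⟩ := exists_mk (K := K) 0 1
  have h1 := hα.r e
  have h2 := hα.b e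
  have h3 := hα.r f
  have h4 := hα.b f
  rw [(hC e).1, he1, he2, mul_one, mul_zero, add_zero] at h1
  rw [(hC e).2, he1, he2, mul_one, mul_zero, add_zero] at h2
  rw [(hC f).1, hf1, hf2, mul_one, mul_zero, zero_add] at h3
  rw [(hC f).2, hf1, hf2, mul_one, mul_zero, zero_add] at h4
  subst h1 h2 h3 h4
  apply MulEquiv.ext
  intro g
  refine ext3 (e := α g) (e' := g) (hC g).1 ?_ (hC g).2
  rw [hα.a]
  ring

theorem eq_of_coords {α β : MulAut (PQ K)} (hα : α ∈ UP K) (hβ : β ∈ UP K)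
    (h : ∀ e : PQ K, ((α e : PQ K) : PG K).r = ((β e : PQ K) : PG K).r ∧
      ((α e : PQ K) : PG K).b = ((β e : PQ K) : PG K).b) :
    α = β := by
  rw [← mul_inv_eq_one]
  refine eq_of_CP_UP ?_ ((UP K).mul_mem hα ((UP K).inv_mem hβ))
  intro e
  have h1 := h (β⁻¹ e)
  have h2 : β (β⁻¹ e) = e := β.apply_symm_apply e
  rw [h2] at h1
  rw [MulAut.mul_apply]
  exact h1

/-! ### inner automorphisms -/

variable (K) in
/-- the inner automorphisms -/
abbrev IQ : Subgroup (MulAut (PQ K)) := (MulAut.conj : PQ K →* MulAut (PQ K)).range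

theorem conj_conj (γ : MulAut (PQ K)) (y : PQ K) : γ * MulAut.conj y * γ⁻¹ = MulAut.conj (γ y) := by
  apply MulEquiv.ext
  intro e
  rw [MulAut.mul_apply, MulAut.mul_apply, MulAut.conj_apply, MulAut.conj_apply, map_mul, map_mul, map_inv]
  congr 2
  exact γ.apply_symm_apply e

instance IQ_normal : (IQ K).Normal := by
  refine ⟨?_⟩
  rintro _ ⟨y, rfl⟩ γ
  exact ⟨γ y, (conj_conj γ y).symm⟩

theorem IQ_le_CP : IQ K ≤ CP K := by
  rintro _ ⟨y, rfl⟩
  exact conj_mem_CP y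

/-- conjugation by an element of the whole group -/
noncomputable abbrev cj (s : PG K) : MulAut (PQ K) := MulAut.conjNormal s

theorem cj_apply (s : PG K) (e : PQ K) : ((cj s e : PQ K) : PG K) = s * e * s⁻¹ := rfl

theorem mem_P_iff {α : MulAut (PQ K)} : α ∈ autInducedBy ⊤ (PQ K) ↔ ∃ s, α = cj s := by
  rw [mem_autInducedBy_iff]
  constructor
  · rintro ⟨g, -, hg⟩
    exact ⟨g, MulEquiv.ext fun e => Subtype.ext (hg e)⟩
  · rintro ⟨s, rfl⟩
    exact ⟨s, Subgroup.mem_top _, fun e => rfl⟩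

theorem cj_mem (s : PG K) : cj s ∈ autInducedBy ⊤ (PQ K) := mem_P_iff.2 ⟨s, rfl⟩

theorem cj_coe (y : PQ K) : cj (y : PG K) = MulAut.conj y := MulEquiv.ext fun _ => Subtype.ext rfl

theorem IQ_le_P : IQ K ≤ autInducedBy ⊤ (PQ K) := by
  rintro _ ⟨y, rfl⟩
  rw [← cj_coe]
  exact cj_mem _

theorem P_le_Lam : autInducedBy ⊤ (PQ K) ≤ LamQ K := le_sup_left

/-- the complement of `Q` -/
def s0 (c : K) (h : star c = c) : PG K :=
  { r := 0, a := 0, b := 0, c := c, ha := by simp, hc := h }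

theorem cj_s0 {c : K} (h : star c = c) : IsU 1 0 (-c) 1 (cj (s0 c h)) := by
  refine ⟨by simp, by simp, by simp [h], by simp, by simp, ?_, ?_, ?_⟩
  · intro e
    rw [cj_apply]; simp only [s0, _root_.Cfsg.Agent.H776.P4.PG.mul_r, _root_.zero_add, _root_.Cfsg.Agent.H776.P4.PG.inv_r, _root_.neg_zero, _root_.add_zero, _root_.one_mul, _root_.MulZeroClass.zero_mul]
  · intro e
    have h1 := q_c e
    rw [cj_apply]; simp only [s0, PG.mul_a, PG.inv_a, PG.mul_b, PG.inv_b, _root_.zero_add, _root_.MulZeroClass.zero_mul, _root_.add_zero, _root_.star_zero, _root_.MulZeroClass.mul_zero, _root_.Cfsg.Agent.H763.P4.q_c, _root_.neg_zero, _root_.sub_self, _root_.Cfsg.Agent.H776.P4.PG.mul_r, _root_.Cfsg.Agent.H776.P4.PG.inv_c, _root_.mul_neg, _root_.one_mul, _root_.neg_mul, _root_.mul_one, _root_.add_right_inj, _root_.neg_inj]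
    ring
  · intro e
    have h1 := q_c e
    rw [cj_apply]; simp only [s0, PG.mul_b, PG.inv_b, _root_.zero_add, _root_.Cfsg.Agent.H763.P4.q_c, _root_.MulZeroClass.mul_zero, _root_.add_zero, _root_.neg_zero, _root_.MulZeroClass.zero_mul, _root_.Cfsg.Agent.H776.P4.PG.mul_r, _root_.Cfsg.Agent.H776.P4.PG.inv_c, _root_.mul_neg, _root_.neg_mul, _root_.one_mul]
    ring

theorem cj_mem_sup (s : PG K) : cj s ∈ IQ K ⊔ UP K := by
  have hmem : s * (s0 s.c s.hc)⁻¹ ∈ PQ K := by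
    change (s * (s0 s.c s.hc)⁻¹).c = 0
    simp [s0]
  have h1 : s = ((⟨_, hmem⟩ : PQ K) : PG K) * s0 s.c s.hc := by simp
  have h2 : cj s = MulAut.conj (⟨_, hmem⟩ : PQ K) * cj (s0 s.c s.hc) := by
    rw [← cj_coe, ← map_mul, ← h1]
  rw [h2]
  exact Subgroup.mul_mem_sup ⟨_, rfl⟩ ⟨_, _, _, _, cj_s0 s.hc⟩

theorem wq_isU {w : MulAut (PQ K)} (hw : IsWQ w) : IsU 0 1 (-1) 0 w := by
  refine ⟨by simp, by simp, by simp, by simp, by simp, ?_, ?_, ?_⟩
  · intro e; rw [hw.r]; ring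
  · intro e; rw [hw.a]; ring
  · intro e; rw [hw.b]; ring

theorem wq_mem_UP {w : MulAut (PQ K)} (hw : IsWQ w) : w ∈ UP K := ⟨_, _, _, _, wq_isU hw⟩

theorem Lam_le : LamQ K ≤ IQ K ⊔ UP K := by
  refine sup_le ?_ ?_
  · intro α hα
    obtain ⟨s, rfl⟩ := mem_P_iff.1 hα
    exact cj_mem_sup s
  · rw [Subgroup.closure_le]
    rintro w hw
    exact Subgroup.mem_sup_right (wq_mem_UP hw)

theorem Lam_inf_le : LamQ K ⊓ CP K ≤ IQ K := by
  rintro α ⟨h1, h2⟩
  have h3 := Lam_le h1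
  rw [Subgroup.mem_sup_of_normal_left] at h3
  obtain ⟨i, hi, v, hv, rfl⟩ := h3
  have h4 : v ∈ CP K := by
    have := (CP K).mul_mem ((CP K).inv_mem (IQ_le_CP hi)) h2
    rwa [inv_mul_cancel_left] at this
  rw [eq_of_CP_UP h4 hv, mul_one]
  exact hi

/-! ### the Weyl element -/

theorem wq_inv {w : MulAut (PQ K)} (hw : IsWQ w) (e : PQ K) :
    ((w⁻¹ e : PQ K) : PG K).r = - (e : PG K).b ∧ ((w⁻¹ e : PQ K) : PG K).b = (e : PG K).r := by
  have h3 : w (w⁻¹ e) = e := w.apply_symm_apply e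
  have h1 := hw.r (w⁻¹ e)
  have h4 := hw.b (w⁻¹ e)
  rw [h3] at h1 h4
  exact ⟨by rw [h4, neg_neg], h1.symm⟩

/-- the elements `[0, 1/l; -l, 0]` -/
theorem weyl_eq {w : MulAut (PQ K)} (hw : IsWQ w) {l : K} (hl : star l = l) (hl0 : l ≠ 0) {v : MulAut (PQ K)}
    (hv : v ∈ UP K) (hvr : ∀ e : PQ K, ((v e : PQ K) : PG K).r = l⁻¹ * (e : PG K).b)
    (hvb : ∀ e : PQ K, ((v e : PQ K) : PG K).b = -l * (e : PG K).r) :
    ∃ x ∈ autInducedBy ⊤ (PQ K), ∃ y ∈ autInducedBy ⊤ (PQ K), v = x * (w⁻¹ * y * w) * x := by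
  have hli : star l⁻¹ = l⁻¹ := by rw [star_inv₀, hl]
  have hx := cj_s0 hl
  have hy := cj_s0 hli
  set x := cj (s0 l hl) with hxd
  set y := cj (s0 l⁻¹ hli) with hyd
  have hxU : x ∈ UP K := ⟨_, _, _, _, hx⟩
  have hyU : y ∈ UP K := ⟨_, _, _, _, hy⟩
  have hwU := wq_mem_UP hw
  refine ⟨x, cj_mem _, y, cj_mem _, eq_of_coords hv ?_ ?_⟩
  · exact (UP K).mul_mem ((UP K).mul_mem hxU ((UP K).mul_mem ((UP K).mul_mem ((UP K).inv_mem hwU) hyU) hwU)) hxU
  intro e
  simp only [MulAut.mul_apply]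
  obtain ⟨b1, b3⟩ := wq_inv hw (y (w (x e)))
  rw [hx.r (w⁻¹ (y (w (x e)))), hx.b (w⁻¹ (y (w (x e)))), b1, b3, hy.r, hy.b, hw.r, hw.b, hx.r e, hx.b e, hvr, hvb]
  refine ⟨?_, ?_⟩
  · field_simp
    ring
  · field_simp
    ring

/-! ### the torus -/

theorem tor_conj_P {d : MulAut (PG K)} {δ : MulAut (PQ K)} (hd : IsRP d δ) {α : MulAut (PQ K)}
    (hα : α ∈ autInducedBy ⊤ (PQ K)) : δ * α * δ⁻¹ ∈ autInducedBy ⊤ (PQ K) := by
  obtain ⟨s, rfl⟩ := mem_P_iff.1 hα
  refine mem_P_iff.2 ⟨d s, ?_⟩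
  apply MulEquiv.ext
  intro e
  apply Subtype.ext
  rw [MulAut.mul_apply, MulAut.mul_apply, hd, cj_apply, cj_apply, map_mul, map_mul, map_inv, ← hd]
  congr 2
  exact congrArg _ (δ.apply_symm_apply e)

theorem tor_conj_U {d : MulAut (PG K)} {s l : K} {τ : K ≃+* K} (ht : IsTorP d s l τ) {δ : MulAut (PQ K)}
    (hd : IsRP d δ) {x y z w : K} {α : MulAut (PQ K)} (hα : IsU x y z w α) :
    IsU (τ x) (l⁻¹ * τ y) (l * τ z) (τ w) (δ * α * δ⁻¹) := by
  have hl := ht.nl
  have hs := ht.ns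
  have hs' : star s ≠ 0 := star_ne_zero.2 hs
  have hinv : ∀ e : PQ K, δ (δ⁻¹ e) = e := fun e => δ.apply_symm_apply e
  have key : ∀ P : PQ K → Prop, (∀ f : PQ K, P (δ f)) → ∀ e, P e := by
    intro P h e
    rw [← hinv e]
    exact h _
  have hδ : ∀ f : PQ K, (δ * α * δ⁻¹) (δ f) = δ (α f) := by
    intro f
    rw [MulAut.mul_apply, MulAut.mul_apply]
    congr 2
    exact δ.symm_apply_apply f
  have h2 : τ x * τ w - τ y * τ z = 1 := by rw [← map_mul, ← map_mul, ← map_sub, hα.det, map_one]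
  refine ⟨?_, ?_, ?_, ?_, ?_, key _ fun f => ?_, key _ fun f => ?_, key _ fun f => ?_⟩
  · rw [← ht.tst, hα.sx]
  · rw [star_mul', star_inv₀, ht.sl, ← ht.tst, hα.sy]
  · rw [star_mul', ht.sl, ← ht.tst, hα.sz]
  · rw [← ht.tst, hα.sw]
  · field_simp
    linear_combination h2
  · rw [hδ, hd, hd, ht.r, ht.r, ht.b, hα.r, map_add, map_mul, map_mul]
    field_simp
  · rw [hδ, hd, hd, ht.a, ht.a, ht.r, ht.b, hα.a]
    simp only [map_add, map_sub, map_mul, ht.tst, star_mul', star_inv₀, star_star, ht.sl]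
    field_simp
  · rw [hδ, hd, hd, ht.r, ht.b, ht.b, hα.b, map_add, map_mul, map_mul]
    ring

theorem tor_conj_Lam {d : MulAut (PG K)} {s l : K} {τ : K ≃+* K} (ht : IsTorP d s l τ) {δ : MulAut (PQ K)}
    (hd : IsRP d δ) {g : MulAut (PQ K)} (hg : g ∈ LamQ K) : δ * g * δ⁻¹ ∈ LamQ K := by
  have h : LamQ K ≤ (LamQ K).comap (MulAut.conj δ).toMonoidHom := by
    refine sup_le ?_ ?_
    · intro α hα
      exact P_le_Lam (tor_conj_P hd hα)
    · rw [Subgroup.closure_le]
      rintro w hw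
      have hU := tor_conj_U ht hd (wq_isU hw)
      obtain ⟨x, hx, y, hy, he⟩ := weyl_eq hw ht.sl ht.nl (v := δ * w * δ⁻¹) ⟨_, _, _, _, hU⟩
        (fun e => by rw [hU.r]; simp only [_root_.map_zero, _root_.MulZeroClass.zero_mul, _root_.map_one, _root_.mul_one, _root_.zero_add]) (fun e => by rw [hU.b]; simp only [_root_.RingEquiv.map_neg_one, _root_.mul_neg, _root_.mul_one, _root_.neg_mul, _root_.map_zero, _root_.MulZeroClass.zero_mul, _root_.add_zero])
      have hwL : w ∈ LamQ K := Subgroup.mem_sup_right (Subgroup.subset_closure hw)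
      change δ * w * δ⁻¹ ∈ LamQ K
      rw [he]
      exact (LamQ K).mul_mem ((LamQ K).mul_mem (P_le_Lam hx) ((LamQ K).mul_mem ((LamQ K).mul_mem
        ((LamQ K).inv_mem hwL) (P_le_Lam hy)) hwL)) (P_le_Lam hx)
  exact h hg

/-! ### restrictions -/

/-- the restrictions of the elements of `D` to `Q` -/
def RD (D : Subgroup (MulAut (PG K))) : Subgroup (MulAut (PQ K)) where
  carrier := {δ | ∃ d ∈ D, IsRP d δ}
  one_mem' := ⟨1, D.one_mem, fun e => rfl⟩
  mul_mem' := by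
    rintro a b ⟨d, hd, h⟩ ⟨d', hd', h'⟩
    exact ⟨d * d', D.mul_mem hd hd', fun e => by rw [MulAut.mul_apply, MulAut.mul_apply, h, h']⟩
  inv_mem' := by
    rintro a ⟨d, hd, h⟩
    refine ⟨d⁻¹, D.inv_mem hd, fun e => ?_⟩
    have h1 := h (a⁻¹ e)
    have h3 : a (a⁻¹ e) = e := a.apply_symm_apply e
    rw [h3] at h1
    rw [h1]
    exact (d.symm_apply_apply _).symm

theorem IsRP_pow {d : MulAut (PG K)} {δ : MulAut (PQ K)} (h : IsRP d δ) (k : ℕ) : IsRP (d ^ k) (δ ^ k) := by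
  induction k with
  | zero => exact fun e => rfl
  | succ k ih =>
    intro e
    rw [pow_succ', pow_succ', MulAut.mul_apply, MulAut.mul_apply, h, ih]

theorem RD_coprime [Finite (PG K)] {D : Subgroup (MulAut (PG K))} (hp : p.Prime) (hD : (Nat.card D).Coprime p) :
    (Nat.card (RD D)).Coprime p := by
  haveI : Fact p.Prime := ⟨hp⟩
  rw [Nat.coprime_comm, Nat.Prime.coprime_iff_not_dvd hp] at hD ⊢
  intro hdvd
  haveI : Finite (MulAut (PQ K)) := inferInstance
  obtain ⟨⟨δ, d, hd, h⟩, hx⟩ := exists_prime_orderOf_dvd_card' p hdvd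
  apply hD
  rw [← hx]
  apply orderOf_dvd_of_pow_eq_one
  apply Subtype.ext
  change δ ^ (Nat.card D) = 1
  have h1 : d ^ (Nat.card D) = 1 := by
    have : (⟨d, hd⟩ : D) ^ (Nat.card D) = 1 := pow_card_eq_one'
    exact congrArg Subtype.val this
  apply MulEquiv.ext
  intro e
  apply Subtype.ext
  rw [IsRP_pow h, h1]
  rfl

theorem exists_restr {α : MulAut (PG K)} {s l : K} {τ : K ≃+* K} (ht : IsTorP α s l τ) :
    ∃ δ : MulAut (PQ K), IsRP α δ := by
  have h1 : ∀ e ∈ PQ K, α e ∈ PQ K := by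
    intro e k1
    have k1' : e.c = 0 := k1
    change (α e).c = 0
    rw [ht.c, k1']; simp
  have h2 : ∀ e ∈ PQ K, α.symm e ∈ PQ K := by
    intro e k1
    have k1' : e.c = 0 := k1
    have e1 := ht.c (α.symm e)
    rw [MulEquiv.apply_symm_apply] at e1
    rw [k1'] at e1
    change (α.symm e).c = 0
    have := (mul_eq_zero.1 e1.symm).resolve_left ht.nl
    simpa using this
  refine ⟨{ toFun := fun e => ⟨α e, h1 e e.2⟩
            invFun := fun e => ⟨α.symm e, h2 e e.2⟩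
            left_inv := fun e => Subtype.ext (by simp)
            right_inv := fun e => Subtype.ext (by simp)
            map_mul' := fun x y => Subtype.ext (by simp) }, fun e => rfl⟩

/-- an element of norm one whose square is not one -/
theorem exists_norm_one (h : HypK K p n) (hq : 3 < p ^ n) : ∃ t : K, t ≠ 0 ∧ t ^ 2 ≠ 1 ∧ t * star t = 1 := by
  obtain ⟨θ, h0, h1⟩ := exists_prim h
  haveI := h.fin
  haveI := Fintype.ofFinite K
  refine ⟨θ ^ (p ^ n - 1), pow_ne_zero _ h0, ?_, ?_⟩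
  · rw [← pow_mul]
    refine h1 _ (by omega) ?_
    have h2 : 4 * p ^ n ≤ (p ^ n) ^ 2 := by rw [pow_two]; exact Nat.mul_le_mul_right _ hq
    omega
  · rw [h.star_eq, ← pow_succ', ← pow_mul]
    have h2 : (p ^ n - 1) * (p ^ n + 1) = (p ^ n) ^ 2 - 1 := by
      have := Nat.sq_sub_sq (p ^ n) 1
      rw [one_pow, mul_comm] at this
      exact this.symm
    rw [h2]
    have h3 := FiniteField.pow_card_sub_one_eq_one θ h0
    rwa [← Nat.card_eq_fintype_card, h.card] at h3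

theorem fix_trivial (hG : StGrp.{u}) (h : HypK K p n) (hq : 3 < p ^ n) {D : Subgroup (MulAut (PG K))}
    (hT : HasTorP D (fun t => t ^ 2) (fun t => (t * star t)⁻¹)) {c : MulAut (PQ K)} (hc : c ∈ CP K)
    (hcomm : ∀ δ ∈ RD D, δ * c = c * δ) : c = 1 := by
  obtain ⟨t, ht0, ht1, htN⟩ := exists_norm_one h hq
  have hs0 : star t ≠ 0 := star_ne_zero.2 ht0
  obtain ⟨α, hα⟩ := (hG h).2.2.1 (t ^ 2) (t * star t)⁻¹ (RingEquiv.refl K)
    (pow_ne_zero _ ht0) (inv_ne_zero (mul_ne_zero ht0 hs0)) (by rw [htN]; simp)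
  have hαD := hT t ht0 α hα
  obtain ⟨δ, hδ⟩ := exists_restr hα
  have hδc := hcomm δ ⟨α, hαD, hδ⟩
  have ht2 : t ^ 2 - 1 ≠ 0 := sub_ne_zero.2 ht1
  have hl : (t * star t)⁻¹ = 1 := by rw [htN, inv_one]
  rw [hl] at hα
  -- `δ` is trivial on the centre
  have hδz : ∀ z ∈ Subgroup.center (PQ K), δ z = z := by
    intro z hz
    obtain ⟨k1, k3⟩ := coords_of_mem_center h hz
    apply ext3
    · rw [hδ, hα.r, k1]; simp
    · rw [hδ, hα.a]
      simp only [star_pow, RingEquiv.refl_apply]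
      have : t ^ 2 * star t ^ 2 = 1 := by rw [← mul_pow, htN, one_pow]
      rw [this]; ring
    · rw [hδ, hα.b, k3]; simp
  have hg : ∀ e : PQ K, c (δ e * e⁻¹) = δ e * e⁻¹ := by
    intro e
    have h1 : c (δ e) = δ (c e) := by
      rw [← MulAut.mul_apply, ← MulAut.mul_apply, hδc]
    have h2 : c e = e * (e⁻¹ * c e) := by group
    rw [map_mul, map_inv, h1, h2, map_mul, hδz _ (inv_mul_mem_center hc e)]
    group
  apply MulEquiv.ext
  intro f
  change c f = f
  obtain ⟨e, he1, he3⟩ := exists_mk ((f : PG K).r / (t ^ 2 - 1)) ((f : PG K).b / (t ^ 2 - 1))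
  have hz : (δ e * e⁻¹)⁻¹ * f ∈ Subgroup.center (PQ K) := by
    apply mem_center_of
    · rw [q_r, qi_r, q_r, qi_r, hδ, hα.r, he1]
      simp only [RingEquiv.refl_apply]
      field_simp
      ring
    · rw [q_b, qi_b, q_b, qi_b, hδ, hα.b, he3]
      simp only [RingEquiv.refl_apply]
      field_simp
      ring
  have h1 : f = (δ e * e⁻¹) * ((δ e * e⁻¹)⁻¹ * f) := by group
  rw [h1, map_mul, hg, CP_center h hc hz]

/-! ### the theorem -/

/-- **(Q)** -/
theorem stQ (hG : StGrp.{u}) (hLift : StLift.{u}) (hQa : StQa.{u}) : StQ.{u} := by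
  intro K _ _ p n h hq Γ D hPar hT
  obtain ⟨hTor, hA1, hA2⟩ := hQa h hq Γ D hPar hT
  refine ⟨hTor, ?_⟩
  haveI : Fact p.Prime := ⟨h.pp⟩
  haveI hCN := CP_normal h
  haveI : Finite (PG K) := by
    apply Nat.finite_of_card_ne_zero
    rw [(hG h).1]
    exact pow_ne_zero _ (pow_ne_zero _ h.pp.ne_zero)
  haveI : Finite (MulAut (PQ K)) := inferInstance
  set P : Subgroup (MulAut (PQ K)) := autInducedBy ⊤ (PQ K) with hP
  have hPp : IsPGroup p P := isPGroup_autInducedBy (hG h).2.1 _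
  set L : Subgroup (MulAut (PQ K)) := Subgroup.closure {x | ∃ γ ∈ Γ, ∃ y ∈ P, x = γ * y * γ⁻¹} with hL
  have agree : ∀ γ l : MulAut (PQ K), (∀ e : PQ K, ((γ e : PQ K) : PG K).r = ((l e : PQ K) : PG K).r ∧
      ((γ e : PQ K) : PG K).b = ((l e : PQ K) : PG K).b) → γ * l⁻¹ ∈ CP K := by
    intro γ l hh e
    rw [MulAut.mul_apply]
    have h1 := hh (l⁻¹ e)
    have h3 : l (l⁻¹ e) = e := l.apply_symm_apply e
    rwa [h3] at h1
  have hPL : P ≤ L := fun y hy => Subgroup.subset_closure ⟨1, Γ.one_mem, y, hy, by simp⟩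
  have hLΓ : L ≤ Γ := by
    rw [hL, Subgroup.closure_le]
    rintro _ ⟨γ, hγ, y, hy, rfl⟩
    exact Γ.mul_mem (Γ.mul_mem hγ (hPar.indu hy)) (Γ.inv_mem hγ)
  have hRΓ : RD D ≤ Γ := by
    rintro δ ⟨d, hd, hh⟩
    exact hPar.D_res d hd δ hh
  have hRLam : ∀ δ ∈ RD D, ∀ l ∈ LamQ K, δ * l * δ⁻¹ ∈ LamQ K := by
    rintro δ ⟨d, hd, hh⟩ l hl
    obtain ⟨x1, x2, τ, ht⟩ := (hG h).2.2.2.1 d (hPar.D_le hd)
    exact tor_conj_Lam ht hh hl
  have hLΓN : ∀ γ ∈ Γ, ∀ x ∈ L, γ * x * γ⁻¹ ∈ L := by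
    intro γ hγ
    have : L ≤ L.comap (MulAut.conj γ).toMonoidHom := by
      rw [hL, Subgroup.closure_le]
      rintro _ ⟨γ', hγ', y, hy, rfl⟩
      refine Subgroup.subset_closure ⟨γ * γ', Γ.mul_mem hγ hγ', y, hy, ?_⟩
      simp only [MulEquiv.toMonoidHom_eq_coe, MonoidHom.coe_coe, MulAut.conj_apply]
      group
    exact fun x hx => this hx
  -- elements of `Γ`
  have hdec : ∀ γ ∈ Γ, ∃ l ∈ LamQ K, ∃ δ ∈ RD D, ∃ c ∈ CP K, γ = c * (l * δ) := by
    intro γ hγ
    obtain ⟨l, hl, d, hd, δ, hδ, hh⟩ := hA2 γ hγ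
    exact ⟨l, hl, δ, ⟨d, hd, hδ⟩, γ * (l * δ)⁻¹, agree _ _ hh, by group⟩
  have hN : ∀ γ ∈ Γ, ∀ x ∈ LamQ K ⊔ CP K, γ * x * γ⁻¹ ∈ LamQ K ⊔ CP K := by
    intro γ hγ x hx
    obtain ⟨l, hl, δ, hδ, c, hc, rfl⟩ := hdec γ hγ
    have h1 : δ * x * δ⁻¹ ∈ LamQ K ⊔ CP K := by
      have : LamQ K ⊔ CP K ≤ (LamQ K ⊔ CP K).comap (MulAut.conj δ).toMonoidHom := by
        refine sup_le ?_ ?_
        · intro y hy
          exact Subgroup.mem_sup_left (hRLam δ hδ y hy)
        · intro y hy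
          exact Subgroup.mem_sup_right (hCN.conj_mem y hy δ)
      exact this hx
    have hl' : l ∈ LamQ K ⊔ CP K := Subgroup.mem_sup_left hl
    have hc' : c ∈ LamQ K ⊔ CP K := Subgroup.mem_sup_right hc
    have h2 := (LamQ K ⊔ CP K).mul_mem ((LamQ K ⊔ CP K).mul_mem ((LamQ K ⊔ CP K).mul_mem hc' hl') h1)
      ((LamQ K ⊔ CP K).inv_mem ((LamQ K ⊔ CP K).mul_mem hc' hl'))
    have h3 : c * (l * δ) * x * (c * (l * δ))⁻¹ = c * l * (δ * x * δ⁻¹) * (c * l)⁻¹ := by group
    rw [h3]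
    exact h2
  have hsup : L ⊔ CP K = LamQ K ⊔ CP K := by
    apply le_antisymm
    · refine sup_le ?_ le_sup_right
      rw [hL, Subgroup.closure_le]
      rintro _ ⟨γ, hγ, y, hy, rfl⟩
      exact hN γ hγ y (Subgroup.mem_sup_left (P_le_Lam hy))
    · refine sup_le ?_ le_sup_right
      refine sup_le (hPL.trans le_sup_left) ?_
      rw [Subgroup.closure_le]
      rintro w hw
      have hwU := wq_isU hw
      obtain ⟨x, hx, y, hy, hwx⟩ := weyl_eq hw (l := 1) (by simp) one_ne_zero ⟨_, _, _, _, hwU⟩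
        (fun e => by rw [hwU.r]; simp) (fun e => by rw [hwU.b]; simp)
      obtain ⟨γ, hγ, hh⟩ := hA1 w (Subgroup.mem_sup_right (Subgroup.subset_closure hw))
      have hγw := agree γ w hh
      have hq : QuotientGroup.mk' (CP K) γ = QuotientGroup.mk' (CP K) w := by
        have h1 : QuotientGroup.mk' (CP K) (γ * w⁻¹) = 1 := (QuotientGroup.eq_one_iff _).2 hγw
        rw [map_mul, map_inv] at h1
        exact mul_inv_eq_one.1 h1
      change w ∈ L ⊔ CP K
      rw [mem_sup_iff_map, hwx]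
      have hx' : QuotientGroup.mk' (CP K) x ∈ L.map (QuotientGroup.mk' (CP K)) := ⟨x, hPL hx, rfl⟩
      have hy' : QuotientGroup.mk' (CP K) (w⁻¹ * y * w) ∈ L.map (QuotientGroup.mk' (CP K)) := by
        rw [map_mul, map_mul, map_inv, ← hq, ← map_inv, ← map_mul, ← map_mul]
        have := hLΓN γ⁻¹ (Γ.inv_mem hγ) y (hPL hy)
        rw [inv_inv] at this
        exact ⟨_, this, rfl⟩
      rw [map_mul, map_mul]
      exact Subgroup.mul_mem _ (Subgroup.mul_mem _ hx' hy') hx'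
  -- intersections with `CP`
  have hΓC : Γ ⊓ CP K ≤ IQ K := by
    obtain ⟨g, hg, hgx⟩ := hPar.syl (Γ ⊓ CP K) inf_le_left
      ((CP_pgroup (K := K) hG h).to_le inf_le_right)
    intro x hx
    have hx' : g⁻¹ * x * g ∈ Γ ⊓ CP K := by
      refine ⟨Γ.mul_mem (Γ.mul_mem (Γ.inv_mem hg) hx.1) hg, ?_⟩
      have := hCN.conj_mem x hx.2 g⁻¹
      rwa [inv_inv] at this
    have h1 := hgx _ hx'
    have h2 : g * (g⁻¹ * x * g) * g⁻¹ = x := by group
    rw [h2] at h1
    exact Lam_inf_le ⟨P_le_Lam h1, hx.2⟩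
  have hLC : L ⊓ CP K = IQ K :=
    le_antisymm (fun x hx => hΓC ⟨hLΓ hx.1, hx.2⟩) (le_inf (IQ_le_P.trans hPL) IQ_le_CP)
  have hLamC : LamQ K ⊓ CP K = IQ K :=
    le_antisymm Lam_inf_le (le_inf (IQ_le_P.trans P_le_Lam) IQ_le_CP)
  have hLL : L = LamQ K := by
    refine hLift (p := p) (CP K) L (LamQ K) P (RD D) hCN (fun x hx y hy => CP_comm h hx hy) (CP_pgroup hG h) hsup
      (hLC.trans hLamC.symm) hPL P_le_Lam (hLC.le.trans IQ_le_P) (not_dvd_of_syl hPp hPar.syl hPL hLΓ) ?_ ?_ ?_ ?_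
      (RD_coprime h.pp hPar.D_cop) ?_
    · rw [hLC]
      exact le_normalizer_of_conj fun x _ y hy => (IQ_normal (K := K)).conj_mem y hy x
    · rw [hLC]
      exact le_normalizer_of_conj fun x _ y hy => (IQ_normal (K := K)).conj_mem y hy x
    · exact le_normalizer_of_conj fun x hx y hy => hLΓN x (hRΓ hx) y hy
    · exact le_normalizer_of_conj fun x hx y hy => hRLam x hx y hy
    · intro c hc hcc
      exact fix_trivial hG h hq hT hc hcc
  intro γ
  constructor
  · intro hγ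
    obtain ⟨l, hl, d, hd, δ, hδ, hh⟩ := hA2 γ hγ
    have hc := agree _ _ hh
    have hδΓ : δ ∈ Γ := hRΓ ⟨d, hd, hδ⟩
    have hlΓ : l ∈ Γ := hLΓ (hLL ▸ hl)
    have h1 : γ * (l * δ)⁻¹ ∈ IQ K := hΓC ⟨Γ.mul_mem hγ (Γ.inv_mem (Γ.mul_mem hlΓ hδΓ)), hc⟩
    refine ⟨γ * (l * δ)⁻¹ * l, (LamQ K).mul_mem (P_le_Lam (IQ_le_P h1)) hl, d, hd, δ, hδ, by group⟩
  · rintro ⟨l, hl, d, hd, δ, hδ, rfl⟩
    exact Γ.mul_mem (hLΓ (hLL ▸ hl)) (hRΓ ⟨d, hd, hδ⟩)

end Cfsg.Agent.H763.P4
end

-- part: H859/P4/Fld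
section
/-!
# S5210, Q1 for odd `p`: facts on the field (helper859)
-/

set_option autoImplicit false

namespace Cfsg.Agent.H859.P4

open Cfsg.Agent.H756.PU (HypK)

universe u

/-- the facts on the field which are needed -/
structure FH (K : Type u) [Field K] [StarRing K] : Prop where
  two : (2 : K) ≠ 0
  fin : Finite K
  om : ∃ ω : K, ω ≠ 0 ∧ star ω = -ω
  c0 : ∃ c : K, star c = c ∧ c ≠ 0 ∧ c * c ≠ 1
  t0 : ∃ t : K, t ≠ 0 ∧ star t * star t * (star t * star t) ≠ t * t * (t * t)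
  sq : ∀ ν c : K, star ν = ν → star c = c → (∀ x, star x = x → x * x ≠ ν) →
    ∃ x, star x = x ∧ (c = x * x ∨ c = ν * (x * x))

section
variable {K : Type u} [Field K] [StarRing K] {p n : ℕ}

theorem fh (h : HypK K p n) (hp : p ≠ 2) (hq : 3 < p ^ n) : FH K := by
  have := h.fin
  have hpp := h.pp
  have := h.char
  have htwo : (2 : K) ≠ 0 := by
    intro h2
    have h3 : ((2 : ℕ) : K) = 0 := by exact_mod_cast h2
    rw [CharP.cast_eq_zero_iff K p 2] at h3
    exact hp ((Nat.prime_dvd_prime_iff_eq hpp Nat.prime_two).1 h3)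
  set q := p ^ n with hqd
  obtain ⟨g, hg⟩ := IsCyclic.exists_generator (α := Kˣ)
  have hog : orderOf g = q ^ 2 - 1 := by
    rw [orderOf_eq_card_of_forall_mem_zpowers hg, Nat.card_units, h.card]
  have hq2 : q ^ 2 - 1 = (q + 1) * (q - 1) := by
    obtain ⟨m, hm⟩ : ∃ m, q = m + 1 := ⟨q - 1, by omega⟩
    rw [hm]
    have : (m + 1) ^ 2 = (m + 1 + 1) * (m + 1 - 1) + 1 := by
      rw [Nat.add_sub_cancel]; ring
    rw [this, Nat.add_sub_cancel]
  have hkey : ∀ i : ℕ, g ^ i = 1 ↔ (q + 1) * (q - 1) ∣ i := by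
    intro i
    rw [← orderOf_dvd_iff_pow_eq_one, hog, hq2]
  have hstar : ∀ x : K, star x = x ^ q := h.star_eq
  have hgq : g ^ ((q + 1) * q) = g ^ (q + 1) := by
    have h1 : (q + 1) * q = (q + 1) * (q - 1) + (q + 1) := by
      obtain ⟨m, hm⟩ : ∃ m, q = m + 1 := ⟨q - 1, by omega⟩
      rw [hm, Nat.add_sub_cancel]; ring
    rw [h1, pow_add, (hkey _).2 (dvd_refl _), one_mul]
  set ε : K := ((g ^ (q + 1) : Kˣ) : K) with hε
  have hεs : star ε = ε := by
    rw [hstar, hε, ← Units.val_pow_eq_pow_val, ← pow_mul, hgq]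
  have hε0 : ε ≠ 0 := Units.ne_zero _
  -- `k` is generated by `ε`
  have hk : ∀ c : K, star c = c → c ≠ 0 → ∃ j : ℕ, c = ε ^ j := by
    intro c hc hc0
    obtain ⟨i, hi⟩ := (Submonoid.mem_powers_iff _ _).1 (mem_powers_iff_mem_zpowers.2 (hg (Units.mk0 c hc0)))
    have h1 : g ^ (i * q) = g ^ i := by
      rw [pow_mul, hi]
      ext
      rw [Units.val_pow_eq_pow_val, Units.val_mk0, ← hstar, hc]
    have h2 : g ^ (i * (q - 1)) = 1 := by
      have h3 : i * q = i * (q - 1) + i := by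
        obtain ⟨m, hm⟩ : ∃ m, q = m + 1 := ⟨q - 1, by omega⟩
        rw [hm, Nat.add_sub_cancel]; ring
      rw [h3, pow_add] at h1
      exact mul_eq_right.1 h1
    rw [hkey] at h2
    obtain ⟨j, hj⟩ := Nat.dvd_of_mul_dvd_mul_right (by omega) h2
    refine ⟨j, ?_⟩
    rw [hε, ← Units.val_pow_eq_pow_val, ← pow_mul, ← hj, hi, Units.val_mk0]
  have hεp : ∀ j : ℕ, star (ε ^ j) = ε ^ j := fun j => by rw [star_pow, hεs]
  refine ⟨htwo, inferInstance, ?_, ⟨ε, hεs, hε0, ?_⟩, ⟨(g : K), g.ne_zero, ?_⟩, ?_⟩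
  · refine ⟨(g : K) - star (g : K), ?_, by rw [star_sub, star_star]; ring⟩
    intro h1
    have h2 : (g : K) ^ q = g := by rw [← hstar]; linear_combination -h1
    have h3 : g ^ q = g := Units.ext (by rw [Units.val_pow_eq_pow_val, h2])
    have h4 : g ^ (q - 1) = 1 := by
      have h5 : q = (q - 1) + 1 := by omega
      rw [h5, pow_succ] at h3
      exact mul_eq_right.1 h3
    rw [hkey] at h4
    have h5 : q + 1 ∣ 1 := Nat.dvd_of_mul_dvd_mul_right (k := q - 1) (by omega) (by rw [one_mul]; exact h4)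
    have := Nat.le_of_dvd one_pos h5
    omega
  · intro h1
    have h2 : g ^ ((q + 1) * 2) = 1 := Units.ext (by
      rw [pow_mul, Units.val_pow_eq_pow_val, ← hε, pow_two, h1, Units.val_one])
    rw [hkey] at h2
    have := Nat.le_of_dvd (by omega) (Nat.dvd_of_mul_dvd_mul_left (by omega) h2)
    omega
  · intro h1
    have h2 : g ^ (q * 4) = g ^ 4 := Units.ext (by
      rw [Units.val_pow_eq_pow_val, Units.val_pow_eq_pow_val, pow_mul, ← hstar]
      linear_combination h1)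
    have h3 : g ^ (4 * (q - 1)) = 1 := by
      have h3 : q * 4 = 4 * (q - 1) + 4 := by omega
      rw [h3, pow_add] at h2
      exact mul_eq_right.1 h2
    rw [hkey] at h3
    have := Nat.le_of_dvd (by omega) (Nat.dvd_of_mul_dvd_mul_right (by omega) h3)
    omega
  · intro ν c hν hc hns
    have hν0 : ν ≠ 0 := by
      rintro rfl
      exact hns 0 (star_zero _) (mul_zero _)
    rcases eq_or_ne c 0 with rfl | hc0
    · exact ⟨0, star_zero _, Or.inl (by simp)⟩
    obtain ⟨j, rfl⟩ := hk c hc hc0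
    obtain ⟨i, rfl⟩ := hk ν hν hν0
    rcases Nat.even_or_odd j with ⟨j', rfl⟩ | hj
    · exact ⟨ε ^ j', hεp _, Or.inl (by rw [pow_add])⟩
    rcases Nat.even_or_odd i with ⟨i', rfl⟩ | hi
    · exact absurd (by rw [pow_add]) (hns (ε ^ i') (hεp _))
    obtain ⟨m, hm⟩ := hj.add_odd hi
    refine ⟨ε ^ m * (ε ^ i)⁻¹, by rw [star_mul', star_inv₀, hεp, hεp], Or.inr ?_⟩
    have h1 : ε ^ j * ε ^ i = ε ^ m * ε ^ m := by rw [← pow_add, hm, pow_add]
    field_simp
    linear_combination h1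

end

end Cfsg.Agent.H859.P4
end

-- part: H859/P4/Core
section
/-!
# S5210, Q1 for odd `p`: the core, part 1 (helper859)

`L` is a group of automorphisms of `K × K` preserving the symplectic form `ff`, containing `(r, b) ↦ (r, b + c r)`, `c ∈ k`.
Part 1: `C = {(0, b)}` and `l C` are equal or meet trivially.
-/

set_option autoImplicit false

namespace Cfsg.Agent.H859.P4

universe u

variable {K : Type u} [Field K] [StarRing K]

/-- the form `Tr(r star b' - r' star b)` -/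
def ff (v w : K × K) : K := v.1 * star w.2 + star v.1 * w.2 - (w.1 * star v.2 + star w.1 * v.2)

/-- the hypotheses on `L` -/
structure CL (L : Subgroup (Equiv.Perm (K × K))) : Prop where
  add : ∀ g ∈ L, ∀ v w, g (v + w) = g v + g w
  sp : ∀ g ∈ L, ∀ v w, ff (g v) (g w) = ff v w
  rx : ∀ c : K, star c = c → ∃ g ∈ L, ∀ v, g v = v + c • ((0 : K), v.1)
  u1 : ∀ g ∈ L, (∀ b : K, g (0, b) = (0, b)) → ∃ c : K, star c = c ∧ ∀ v, g v = v + c • ((0 : K), v.1)
  tor : ∀ t : K, t ≠ 0 → ∀ g ∈ L, ∃ g' ∈ L, ∀ v : K × K,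
    g' (t * t * v.1, t * t * (t * star t)⁻¹ * v.2) = (t * t * (g v).1, t * t * (t * star t)⁻¹ * (g v).2)

/-- a scalar outside `k` spans with `1` -/
theorem span_k {u : K} (hu : star u ≠ u) (z : K) : ∃ c₁ c₂ : K, star c₁ = c₁ ∧ star c₂ = c₂ ∧ z = c₁ + c₂ * u := by
  have h0 : u - star u ≠ 0 := fun h => hu (sub_eq_zero.1 h).symm
  have h0' : star u - u ≠ 0 := fun h => hu (sub_eq_zero.1 h)
  have h2 : star ((z - star z) / (u - star u)) = (z - star z) / (u - star u) := by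
    rw [star_div₀, star_sub, star_sub, star_star, star_star, div_eq_div_iff h0' h0]
    ring
  refine ⟨z - (z - star z) / (u - star u) * u, (z - star z) / (u - star u), ?_, h2, by ring⟩
  rw [star_sub, star_mul', h2]
  field_simp
  ring

/-- two elements of `K` which are not proportional over `k` span `K` over `k` -/
theorem span_two {a b : K} (ha : a ≠ 0) (hab : ∀ c, star c = c → b ≠ c * a) (z : K) :
    ∃ c₁ c₂ : K, star c₁ = c₁ ∧ star c₂ = c₂ ∧ z = c₁ * a + c₂ * b := by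
  have hu : star (b / a) ≠ b / a := fun h => hab _ h (by field_simp)
  obtain ⟨c₁, c₂, h1, h2, h3⟩ := span_k hu (z / a)
  refine ⟨c₁, c₂, h1, h2, ?_⟩
  have h4 : z = z / a * a := by field_simp
  rw [h4, h3]
  field_simp

theorem ff_add (v v' w : K × K) : ff (v + v') w = ff v w + ff v' w := by
  simp only [ff, Prod.fst_add, Prod.snd_add, star_add]; ring

theorem ff_smul {c : K} (hc : star c = c) (v w : K × K) : ff (c • v) w = c * ff v w := by
  simp only [ff, Prod.smul_fst, Prod.smul_snd, smul_eq_mul, star_mul', hc]; ring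

theorem ff_smul_right {c : K} (hc : star c = c) (v w : K × K) : ff v (c • w) = c * ff v w := by
  simp only [ff, Prod.smul_fst, Prod.smul_snd, smul_eq_mul, star_mul', hc]; ring

theorem ff_nd (H : FH K) {v : K × K} (h : ∀ w, ff v w = 0) : v = 0 := by
  have h2 := H.two
  ext
  · by_contra h1
    have h1' : v.1 ≠ 0 := h1
    have h3 := h (0, star (v.1)⁻¹)
    simp only [ff, star_star, star_zero, zero_mul, add_zero, sub_zero, star_inv₀] at h3
    rw [mul_inv_cancel₀ h1', mul_inv_cancel₀ (by simpa only [_root_.ne_eq, _root_.star_eq_zero] using h1')] at h3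
    exact h2 (by rw [← h3]; norm_num)
  · by_contra h1
    have h1' : v.2 ≠ 0 := h1
    have h3 := h (star (v.2)⁻¹, 0)
    simp only [ff, star_star, star_zero, mul_zero, add_zero, zero_sub, star_inv₀] at h3
    rw [inv_mul_cancel₀ h1', inv_mul_cancel₀ (by simpa only [_root_.ne_eq, _root_.star_eq_zero] using h1')] at h3
    exact h2 (by linear_combination -h3)

variable {L : Subgroup (Equiv.Perm (K × K))}

theorem klin (H : FH K) (hL : CL L) {g : Equiv.Perm (K × K)} (hg : g ∈ L) {c : K} (hc : star c = c) (v : K × K) :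
    g (c • v) = c • g v := by
  have h1 : g (c • v) + (-1 : K) • (c • g v) = 0 := by
    apply ff_nd H
    intro w
    obtain ⟨w', rfl⟩ := g.surjective w
    rw [ff_add, ff_smul (by simp), ff_smul hc, hL.sp g hg, hL.sp g hg, ff_smul hc]
    ring
  rw [neg_one_smul] at h1
  exact add_neg_eq_zero.1 h1

/-- the nilpotent map `l N l⁻¹` -/
def MM (l : Equiv.Perm (K × K)) (v : K × K) : K × K := l (0, (l⁻¹ v).1)

theorem inv_smul' (H : FH K) (hL : CL L) {l : Equiv.Perm (K × K)} (hl : l ∈ L) {c : K} (hc : star c = c) (v : K × K) :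
    l⁻¹ (c • v) = c • l⁻¹ v := klin H hL (L.inv_mem hl) hc v

theorem map_zero' (hL : CL L) {g : Equiv.Perm (K × K)} (hg : g ∈ L) : g 0 = 0 := by
  have h := hL.add g hg 0 0
  rw [add_zero] at h
  exact left_eq_add.1 h

theorem MM_add (hL : CL L) {l : Equiv.Perm (K × K)} (hl : l ∈ L) (v w : K × K) : MM l (v + w) = MM l v + MM l w := by
  rw [MM, MM, MM, hL.add _ (L.inv_mem hl), ← hL.add l hl]
  congr 1
  ext <;> simp

theorem MM_smul (H : FH K) (hL : CL L) {l : Equiv.Perm (K × K)} (hl : l ∈ L) {c : K} (hc : star c = c) (v : K × K) :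
    MM l (c • v) = c • MM l v := by
  rw [MM, MM, inv_smul' H hL hl hc, ← klin H hL hl hc]
  congr 1
  ext <;> simp

theorem inv_MM (l : Equiv.Perm (K × K)) (v : K × K) : l⁻¹ (MM l v) = (0, (l⁻¹ v).1) := by
  rw [MM]; exact l.symm_apply_apply _

theorem MM_eq_zero (hL : CL L) {l : Equiv.Perm (K × K)} (hl : l ∈ L) {v : K × K} (h : (l⁻¹ v).1 = 0) : MM l v = 0 := by
  rw [MM, h]; exact map_zero' hL hl

theorem ff_MM (hL : CL L) {l : Equiv.Perm (K × K)} (hl : l ∈ L) (v : K × K) :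
    ff v (MM l v) = 2 * ((l⁻¹ v).1 * star (l⁻¹ v).1) := by
  have h1 := hL.sp _ (L.inv_mem hl) v (MM l v)
  rw [← h1, inv_MM]
  simp only [ff, star_zero, zero_mul, add_zero, sub_zero]
  ring

theorem ff_CC (hL : CL L) {l : Equiv.Perm (K × K)} (hl : l ∈ L) {v w : K × K} (hv : (l⁻¹ v).1 = 0) (hw : (l⁻¹ w).1 = 0) :
    ff v w = 0 := by
  have h1 := hL.sp _ (L.inv_mem hl) v w
  rw [← h1, ff, hv, hw, star_zero, zero_mul, zero_mul, zero_mul, zero_mul, add_zero, sub_zero]

theorem apply_inv (l : Equiv.Perm (K × K)) (v : K × K) : l (l⁻¹ v) = v := l.apply_symm_apply v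

theorem inv_apply (l : Equiv.Perm (K × K)) (v : K × K) : l⁻¹ (l v) = v := l.symm_apply_apply v

/-- the elements of `l R l⁻¹` -/
theorem ry (H : FH K) (hL : CL L) {l : Equiv.Perm (K × K)} (hl : l ∈ L) {c : K} (hc : star c = c) :
    ∃ g ∈ L, ∀ v, g v = v + c • MM l v := by
  obtain ⟨x, hx, hx'⟩ := hL.rx c hc
  refine ⟨l * x * l⁻¹, L.mul_mem (L.mul_mem hl hx) (L.inv_mem hl), fun v => ?_⟩
  rw [Equiv.Perm.mul_apply, Equiv.Perm.mul_apply, hx', hL.add l hl, apply_inv, klin H hL hl hc]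
  rfl

/-- an element of `L` fixing `l C` pointwise is in `l R l⁻¹` -/
theorem uy (H : FH K) (hL : CL L) {l : Equiv.Perm (K × K)} (hl : l ∈ L) {z : Equiv.Perm (K × K)} (hz : z ∈ L)
    (h : ∀ b : K, z (l (0, b)) = l (0, b)) : ∃ c : K, star c = c ∧ ∀ v, z v = v + c • MM l v := by
  obtain ⟨c, hc, hc'⟩ := hL.u1 (l⁻¹ * z * l) (L.mul_mem (L.mul_mem (L.inv_mem hl) hz) hl) (fun b => by
    rw [Equiv.Perm.mul_apply, Equiv.Perm.mul_apply, h b, inv_apply])
  refine ⟨c, hc, fun v => ?_⟩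
  have h1 := hc' (l⁻¹ v)
  rw [Equiv.Perm.mul_apply, Equiv.Perm.mul_apply, apply_inv] at h1
  have h2 := congrArg l h1
  rw [apply_inv, hL.add l hl, apply_inv, klin H hL hl hc] at h2
  exact h2

/-- a computation: `N` and `M` act on `w₁, w'` as for `SL₂` and on `u, e` as commuting maps -/
theorem key (H : FH K) (hL : CL L) {l : Equiv.Perm (K × K)} (hl : l ∈ L) {u w₁ w' e : K × K} {lam a₁ : K}
    (hlam : star lam = lam) (hlam0 : lam ≠ 0) (ha₁ : star a₁ = a₁)
    (hu : u.1 = 0) (hw₁ : w₁ = (0, w'.1)) (he : e.1 = u.2) (hw0 : w' ≠ 0) (hu0 : u ≠ 0)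
    (mu : MM l u = 0) (mw' : MM l w' = 0) (mw₁ : MM l w₁ = lam • w') (me : MM l e = a₁ • u)
    (hC : ∀ b, ∃ c₁ c₂ : K, star c₁ = c₁ ∧ star c₂ = c₂ ∧ l (0, b) = c₁ • u + c₂ • w')
    {c : K} (hc : star c = c) (hc0 : c ≠ 0) : a₁ = - lam * (c * c) := by
  have hd : star (-(c * lam)⁻¹) = -(c * lam)⁻¹ := by
    rw [star_neg, star_inv₀, star_mul', hc, hlam]
  obtain ⟨x, hx, hx'⟩ := hL.rx c hc
  obtain ⟨x1, hx1, hx1'⟩ := hL.rx 1 (star_one _)
  obtain ⟨y, hy, hy'⟩ := ry H hL hl hd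
  have nu : ((0 : K), u.1) = 0 := by rw [hu]; rfl
  have nw₁ : ((0 : K), w₁.1) = 0 := by rw [hw₁]; rfl
  have ne : ((0 : K), e.1) = u := by
    rw [he]; ext
    · exact hu.symm
    · rfl
  -- values
  have xu : ∀ s : K, s • ((0 : K), u.1) = 0 := fun s => by rw [nu, smul_zero]
  have X : ∀ v : K × K, x v = v + c • ((0 : K), v.1) := hx'
  have nadd : ∀ v w : K × K, ((0 : K), (v + w).1) = ((0 : K), v.1) + ((0 : K), w.1) := fun v w => by
    ext <;> simp
  have nsmul : ∀ (s : K) (v : K × K), ((0 : K), (s • v).1) = s • ((0 : K), v.1) := fun s v => by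
    ext <;> simp
  have n_u : (x * y * x) u = u := by
    rw [Equiv.Perm.mul_apply, Equiv.Perm.mul_apply, hx' u, nu, smul_zero, add_zero, hy' u, mu, smul_zero, add_zero, hx' u, nu,
      smul_zero, add_zero]
  have n_w₁ : (x * y * x) w₁ = (-c⁻¹) • w' := by
    rw [Equiv.Perm.mul_apply, Equiv.Perm.mul_apply, hx' w₁, nw₁, smul_zero, add_zero, hy' w₁, mw₁, hx', nadd, nsmul, nsmul, nw₁, ← hw₁]
    match_scalars <;> field_simp <;> ring
  have n_w' : (x * y * x) w' = c • w₁ := by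
    rw [Equiv.Perm.mul_apply, Equiv.Perm.mul_apply, hx' w', ← hw₁, hy' (w' + c • w₁), MM_add hL hl, MM_smul H hL hl hc, mw', mw₁, hx']
    simp only [nadd, nsmul, nw₁, ← hw₁, zero_add, add_zero, smul_zero]
    match_scalars <;> field_simp <;> ring
  have n_e : (x * y * x) e = e + (2 * c + -(c * lam)⁻¹ * a₁) • u := by
    rw [Equiv.Perm.mul_apply, Equiv.Perm.mul_apply, hx' e, ne, hy' (e + c • u), MM_add hL hl, MM_smul H hL hl hc, mu, me, hx']
    simp only [nadd, nsmul, nu, ne, zero_add, add_zero, smul_zero]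
    match_scalars <;> field_simp <;> ring
  set nn := x * y * x with hnn
  have hnnL : nn ∈ L := L.mul_mem (L.mul_mem hx hy) hx
  have z_of : ∀ a b : K × K, x1 (nn a) = nn b → (nn⁻¹ * x1 * nn) a = b := fun a b hab => by
    rw [Equiv.Perm.mul_apply, Equiv.Perm.mul_apply, hab, inv_apply]
  have hzL : nn⁻¹ * x1 * nn ∈ L := L.mul_mem (L.mul_mem (L.inv_mem hnnL) hx1) hnnL
  have nk := fun {s : K} (hs : star s = s) (v : K × K) => klin H hL hnnL hs v
  have hcc : star (-(c⁻¹ * c⁻¹)) = -(c⁻¹ * c⁻¹) := by rw [star_neg, star_mul', star_inv₀, hc]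
  have z_u := z_of u u (by rw [n_u, hx1', nu, smul_zero, add_zero])
  have z_w' := z_of w' w' (by
    rw [n_w', hx1', nsmul, nw₁, smul_zero, smul_zero, add_zero])
  have z_w₁ := z_of w₁ (w₁ + (-(c⁻¹ * c⁻¹)) • w') (by
    rw [hL.add nn hnnL, nk hcc, n_w₁, n_w', hx1', nsmul, ← hw₁]
    match_scalars <;> field_simp)
  have z_e := z_of e (e + u) (by
    rw [hL.add nn hnnL, n_e, n_u, hx1', nadd, nsmul, nu, ne]
    match_scalars <;> ring)
  obtain ⟨s, hs, hs'⟩ := uy H hL hl hzL (fun b => by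
    obtain ⟨c₁, c₂, h1, h2, h3⟩ := hC b
    rw [h3, hL.add _ hzL, klin H hL hzL h1, klin H hL hzL h2, z_u, z_w'])
  have e1 : s * lam = -(c⁻¹ * c⁻¹) := by
    have h1 := hs' w₁
    rw [z_w₁, mw₁, smul_smul] at h1
    exact (smul_left_injective K hw0 (add_left_cancel h1)).symm
  have e2 : s * a₁ = 1 := by
    have h1 := hs' e
    rw [z_e, me, smul_smul] at h1
    have h2 : (1 : K) • u = (s * a₁) • u := by rw [one_smul]; exact add_left_cancel h1
    exact (smul_left_injective K hu0 h2).symm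
  have hs0 : s ≠ 0 := fun h => by rw [h, zero_mul] at e2; exact zero_ne_one e2
  have h3 : s * (a₁ + lam * (c * c)) = 0 := by
    have h4 : s * lam * (c * c) = -1 := by rw [e1]; field_simp
    linear_combination e2 + h4
  have h4 := (mul_eq_zero.1 h3).resolve_left hs0
  linear_combination h4

/-- (Claim 1) `C ∩ l C ≠ 0` implies `l C = C` -/
theorem meet (H : FH K) (hL : CL L) {l : Equiv.Perm (K × K)} (hl : l ∈ L) {b₀ : K} (hb₀ : b₀ ≠ 0)
    (h : (l⁻¹ (0, b₀)).1 = 0) (b : K) : (l⁻¹ (0, b)).1 = 0 := by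
  by_contra hb
  have h2 := H.two
  set r₂ := (l⁻¹ (0, b)).1 with hr₂
  set w' := MM l (0, b) with hw'
  have lw' : l⁻¹ w' = (0, r₂) := inv_MM l (0, b)
  have hw'1 : w'.1 ≠ 0 := by
    intro h1
    have h3 := ff_MM hL hl (0, b)
    rw [← hw', ← hr₂] at h3
    have h4 : ff ((0 : K), b) w' = 0 := by simp only [ff, h1, _root_.MulZeroClass.zero_mul, _root_.star_zero, _root_.add_zero, _root_.sub_self]
    rw [h4] at h3
    have h5 : r₂ * star r₂ ≠ 0 := mul_ne_zero hb (by simpa only [_root_.ne_eq, _root_.star_eq_zero] using hb)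
    exact mul_ne_zero h2 h5 h3.symm
  have hw0 : w' ≠ 0 := fun h1 => hw'1 (by rw [h1]; rfl)
  obtain ⟨c₁, c₂, hc₁, hc₂, hc⟩ := span_two hb₀ (b := b) (fun c hc hcb => hb (by
    rw [hr₂]
    have h1 : ((0 : K), b) = c • ((0 : K), b₀) := by ext <;> simp [hcb]
    rw [h1, inv_smul' H hL hl hc, Prod.smul_fst, h, smul_zero])) w'.1
  have hw₁ : ((0 : K), w'.1) = c₁ • ((0 : K), b₀) + c₂ • ((0 : K), b) := by
    ext <;> simp only [hc, _root_.Prod.smul_mk, _root_.smul_eq_mul, _root_.MulZeroClass.mul_zero, _root_.Prod.mk_add_mk, _root_.add_zero]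
  have mu : MM l (0, b₀) = 0 := MM_eq_zero hL hl h
  have mw' : MM l w' = 0 := MM_eq_zero hL hl (by rw [lw'])
  have mw₁ : MM l ((0 : K), w'.1) = c₂ • w' := by
    rw [hw₁, MM_add hL hl, MM_smul H hL hl hc₁, MM_smul H hL hl hc₂, mu, smul_zero, zero_add]
  have hc₂0 : c₂ ≠ 0 := by
    intro h0
    have h3 : ff w' ((0 : K), w'.1) = 2 * (w'.1 * star w'.1) := by
      simp only [ff, star_zero, zero_mul, add_zero, sub_zero]; ring
    have h4 : ff w' ((0 : K), w'.1) = 0 := by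
      rw [hw₁, h0, zero_smul, add_zero, ff_smul_right hc₁, ff_CC hL hl (by rw [lw']) h, mul_zero]
    rw [h4] at h3
    exact mul_ne_zero h2 (mul_ne_zero hw'1 (by simpa only [_root_.ne_eq, _root_.star_eq_zero] using hw'1)) h3.symm
  -- the basis of `l C`
  set b₁ := (l⁻¹ (0, b₀)).2 with hb₁
  have lu : l⁻¹ (0, b₀) = (0, b₁) := by
    ext
    · exact h
    · rfl
  have lu' : l (0, b₁) = (0, b₀) := by rw [← lu, apply_inv]
  have lw'' : l (0, r₂) = w' := rfl
  have hb₁0 : b₁ ≠ 0 := by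
    intro h1
    rw [h1] at lu'
    have h3 : l (0, 0) = 0 := map_zero' hL hl
    rw [h3] at lu'
    exact hb₀ (congrArg Prod.snd lu').symm
  have hC : ∀ b', ∃ c₁ c₂ : K, star c₁ = c₁ ∧ star c₂ = c₂ ∧ l (0, b') = c₁ • ((0 : K), b₀) + c₂ • w' := by
    intro b'
    obtain ⟨d₁, d₂, hd₁, hd₂, hd⟩ := span_two hb₁0 (b := r₂) (fun c hc hcb => hw'1 (by
      rw [← lw'', hcb]
      have h1 : ((0 : K), c * b₁) = c • ((0 : K), b₁) := by ext <;> simp
      rw [h1, klin H hL hl hc, lu']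
      simp)) b'
    refine ⟨d₁, d₂, hd₁, hd₂, ?_⟩
    have h1 : ((0 : K), b') = d₁ • ((0 : K), b₁) + d₂ • ((0 : K), r₂) := by ext <;> simp only [hd, _root_.Prod.smul_mk, _root_.smul_eq_mul, _root_.MulZeroClass.mul_zero, _root_.Prod.mk_add_mk, _root_.add_zero]
    rw [h1, hL.add l hl, klin H hL hl hd₁, klin H hL hl hd₂, lu', lw'']
  obtain ⟨a₁, a₂, ha₁, ha₂, ha⟩ := hC (l⁻¹ (b₀, 0)).1
  have hq : star (a₂ / c₂) = a₂ / c₂ := by rw [star_div₀, ha₂, hc₂]
  have hmq : star (-(a₂ / c₂)) = -(a₂ / c₂) := by rw [star_neg, hq]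
  have me : MM l (((b₀, 0) : K × K) + (-(a₂ / c₂)) • ((0 : K), w'.1)) = a₁ • ((0 : K), b₀) := by
    rw [MM_add hL hl, MM_smul H hL hl hmq, mw₁]
    have h1 : MM l (b₀, 0) = a₁ • ((0 : K), b₀) + a₂ • w' := ha
    rw [h1]
    match_scalars <;> field_simp
    ring
  have K1 := fun {c : K} (hc : star c = c) (hc0 : c ≠ 0) =>
    key H hL hl (u := (0, b₀)) (w₁ := (0, w'.1)) (w' := w') (e := ((b₀, 0) : K × K) + (-(a₂ / c₂)) • ((0 : K), w'.1))
      (lam := c₂) (a₁ := a₁) hc₂ hc₂0 ha₁ rfl rfl (by simp) hw0 (fun h1 => hb₀ (congrArg Prod.snd h1)) mu mw' mw₁ me hC hc hc0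
  obtain ⟨c, hcs, hc0, hc1⟩ := H.c0
  have k1 := K1 hcs hc0
  have k2 := K1 (star_one K) one_ne_zero
  apply hc1
  have h5 : c₂ * (c * c - 1) = 0 := by linear_combination k1 - k2
  have := (mul_eq_zero.1 h5).resolve_left hc₂0
  linear_combination this

end Cfsg.Agent.H859.P4
end

-- part: H859/P4/Core2
section
/-!
# S5210, Q1 for odd `p`: the core, part 2 (helper859)

The conjugates of `C` different from `C` are the graphs of `α`, `α ∈ k`.
-/

set_option autoImplicit false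

namespace Cfsg.Agent.H859.P4

universe u

variable {K : Type u} [Field K] [StarRing K] {L : Subgroup (Equiv.Perm (K × K))}

/-- `l C` lies in the graph of `α + κ star` -/
def Gr (l : Equiv.Perm (K × K)) (α κ : K) : Prop :=
  ∀ b : K, (l (0, b)).2 = α * (l (0, b)).1 + κ * star (l (0, b)).1

/-- the points -/
def PP (L : Subgroup (Equiv.Perm (K × K))) : Set K := {κ | ∃ l ∈ L, ∃ α, star α = α ∧ Gr l α κ}

theorem lsub (H : FH K) (hL : CL L) {g : Equiv.Perm (K × K)} (hg : g ∈ L) (v w : K × K) : g (v - w) = g v - g w := by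
  have h1 : v - w = v + (-1 : K) • w := by rw [neg_one_smul, sub_eq_add_neg]
  rw [h1, hL.add g hg, klin H hL hg (by simp), neg_one_smul, ← sub_eq_add_neg]

theorem pair_eq_zero (H : FH K) (hL : CL L) {g : Equiv.Perm (K × K)} (hg : g ∈ L) {v : K × K} (h : g v = 0) : v = 0 :=
  g.injective (by rw [h, map_zero' hL hg])

theorem alt (H : FH K) (hL : CL L) {l : Equiv.Perm (K × K)} (hl : l ∈ L) :
    (∀ b : K, (l (0, b)).1 = 0) ∨ ∀ b : K, (l (0, b)).1 = 0 → b = 0 := by
  by_contra hcon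
  push Not at hcon
  obtain ⟨⟨b', hb'⟩, b, hb, hb0⟩ := hcon
  refine hb' ?_
  have h1 := meet H hL (L.inv_mem hl) hb0 (by rw [inv_inv]; exact hb) b'
  rwa [inv_inv] at h1

theorem fst_surj (H : FH K) (hL : CL L) {l : Equiv.Perm (K × K)} (hl : l ∈ L)
    (h : ∀ b : K, (l (0, b)).1 = 0 → b = 0) (r : K) : ∃ b : K, (l (0, b)).1 = r := by
  have := H.fin
  have hinj : Function.Injective (fun b : K => (l (0, b)).1) := by
    intro b b' hbb
    have h1 : (l (0, b - b')).1 = 0 := by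
      have h2 : ((0 : K), b - b') = (0, b) - (0, b') := by ext <;> simp
      rw [h2, lsub H hL hl, Prod.fst_sub]
      exact sub_eq_zero.2 hbb
    exact sub_eq_zero.1 (h _ h1)
  exact (Finite.injective_iff_surjective.1 hinj) r

/-- symmetric operators -/
theorem symop (H : FH K) (φ : K → K) (hadd : ∀ x y, φ (x + y) = φ x + φ y)
    (hmul : ∀ c x, star c = c → φ (c * x) = c * φ x)
    (hs : ∀ r r', r * star (φ r') + star r * φ r' = r' * star (φ r) + star r' * φ r) :
    ∃ α κ : K, star α = α ∧ ∀ r, φ r = α * r + κ * star r := by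
  obtain ⟨ω, hω0, hω⟩ := H.om
  have h2 := H.two
  have hωs : star ω ≠ ω := by
    intro h
    rw [hω] at h
    exact hω0 ((mul_eq_zero.1 (by linear_combination -h : (2 : K) * ω = 0)).resolve_left h2)
  have hs1 := hs 1 ω
  rw [star_one, hω] at hs1
  refine ⟨(φ 1 + φ ω / ω) / 2, (φ 1 - φ ω / ω) / 2, ?_, fun r => ?_⟩
  · rw [star_div₀, star_add, star_div₀, hω]
    have h3 : star (2 : K) = 2 := by
      have : (2 : K) = 1 + 1 := by norm_num
      rw [this, star_add, star_one]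
    rw [h3]
    field_simp
    linear_combination -hs1
  · obtain ⟨c₁, c₂, h3, h4, h5⟩ := span_k hωs r
    have h6 : φ r = c₁ * φ 1 + c₂ * φ ω := by
      rw [h5, hadd, hmul c₂ ω h4]
      congr 1
      have := hmul c₁ 1 h3
      rwa [mul_one] at this
    have h7 : star r = c₁ - c₂ * ω := by
      rw [h5, star_add, star_mul', h3, h4, hω]; ring
    rw [h6, h7, h5]
    field_simp
    ring

theorem graph (H : FH K) (hL : CL L) {l : Equiv.Perm (K × K)} (hl : l ∈ L)
    (h : ∀ b : K, (l (0, b)).1 = 0 → b = 0) : ∃ α κ : K, star α = α ∧ Gr l α κ := by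
  choose g hg using fst_surj H hL hl h
  have hgi : ∀ b, g (l (0, b)).1 = b := by
    intro b
    have h1 : (l (0, g (l (0, b)).1 - b)).1 = 0 := by
      have h2 : ((0 : K), g (l (0, b)).1 - b) = (0, g (l (0, b)).1) - (0, b) := by ext <;> simp
      rw [h2, lsub H hL hl, Prod.fst_sub, hg]
      exact sub_self _
    exact sub_eq_zero.1 (h _ h1)
  have hgadd : ∀ x y, g (x + y) = g x + g y := by
    intro x y
    rw [← hgi (g x + g y)]
    congr 1
    have h2 : ((0 : K), g x + g y) = (0, g x) + (0, g y) := by ext <;> simp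
    rw [h2, hL.add l hl, Prod.fst_add, hg, hg]
  have hgmul : ∀ c x, star c = c → g (c * x) = c * g x := by
    intro c x hc
    rw [← hgi (c * g x)]
    congr 1
    have h2 : ((0 : K), c * g x) = c • (0, g x) := by ext <;> simp
    rw [h2, klin H hL hl hc, Prod.smul_fst, hg, smul_eq_mul]
  obtain ⟨α, κ, h1, h2⟩ := symop H (fun r => (l (0, g r)).2)
    (fun x y => by
      have h2 : ((0 : K), g x + g y) = (0, g x) + (0, g y) := by ext <;> simp
      rw [hgadd, h2, hL.add l hl, Prod.snd_add])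
    (fun c x hc => by
      have h2 : ((0 : K), c * g x) = c • (0, g x) := by ext <;> simp
      rw [hgmul c x hc, h2, klin H hL hl hc, Prod.smul_snd, smul_eq_mul])
    (fun r r' => by
      have h3 := hL.sp l hl (0, g r) (0, g r')
      rw [ff, hg, hg] at h3
      have h4 : ff ((0 : K), g r) (0, g r') = 0 := by simp only [ff, _root_.MulZeroClass.zero_mul, _root_.star_zero, _root_.add_zero, _root_.sub_self]
      rw [h4] at h3
      linear_combination h3)
  refine ⟨α, κ, h1, fun b => ?_⟩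
  have h3 := h2 (l (0, b)).1
  simp only [hgi] at h3
  exact h3

/-- `α + κ star` is zero somewhere if its determinant is zero -/
theorem det_zero (H : FH K) {α κ : K} (hα : star α = α) (h : α * α = κ * star κ) :
    ∃ r : K, r ≠ 0 ∧ α * r + κ * star r = 0 := by
  obtain ⟨ω, hω0, hω⟩ := H.om
  have h2 := H.two
  have hz : ∀ z : K, α * (κ * star z - α * z) + κ * star (κ * star z - α * z) = 0 := by
    intro z
    rw [star_sub, star_mul', star_mul', star_star, hα]
    linear_combination -z * h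
  by_cases h1 : κ - α = 0
  · by_cases h3 : -(κ + α) * ω = 0
    · have h4 : κ + α = 0 := neg_eq_zero.1 ((mul_eq_zero.1 h3).resolve_right hω0)
      have h5 : κ = 0 := (mul_eq_zero.1 (by linear_combination h1 + h4 : (2 : K) * κ = 0)).resolve_left h2
      have h6 : α = 0 := by linear_combination h4 - h5
      exact ⟨1, one_ne_zero, by rw [h5, h6]; simp⟩
    · refine ⟨κ * star ω - α * ω, ?_, hz ω⟩
      intro h4
      rw [hω] at h4
      exact h3 (by linear_combination h4)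
  · refine ⟨κ * star 1 - α * 1, ?_, hz 1⟩
    rw [star_one, mul_one, mul_one]
    exact h1

theorem Gr.inj (H : FH K) (hL : CL L) {l : Equiv.Perm (K × K)} (hl : l ∈ L) {α κ : K} (h : Gr l α κ) (b : K)
    (hb : (l (0, b)).1 = 0) : b = 0 := by
  have h1 : l (0, b) = 0 := by
    ext
    · exact hb
    · rw [h b, hb, star_zero]; simp
  exact congrArg Prod.snd (pair_eq_zero H hL hl h1)

theorem Gr.mem (H : FH K) (hL : CL L) {l : Equiv.Perm (K × K)} (hl : l ∈ L) {α κ : K} (h : Gr l α κ) (r : K) :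
    ∃ b : K, l (0, b) = (r, α * r + κ * star r) := by
  obtain ⟨b, hb⟩ := fst_surj H hL hl (Gr.inj H hL hl h) r
  refine ⟨b, ?_⟩
  ext
  · exact hb
  · rw [h b, hb]

/-- shift by `R` -/
theorem PP_shift (hL : CL L) {κ : K} (h : κ ∈ PP L) {α : K} (hα : star α = α) : ∃ l ∈ L, Gr l α κ := by
  obtain ⟨l, hl, α', hα', h1⟩ := h
  obtain ⟨x, hx, hx'⟩ := hL.rx (α - α') (by rw [star_sub, hα, hα'])
  refine ⟨x * l, L.mul_mem hx hl, fun b => ?_⟩
  rw [Equiv.Perm.mul_apply, hx']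
  simp only [Prod.fst_add, Prod.snd_add, Prod.smul_fst, Prod.smul_snd, smul_eq_mul, mul_zero, add_zero]
  rw [h1 b]
  ring

/-- the torus -/
theorem PP_tor (hL : CL L) {κ : K} (h : κ ∈ PP L) {t : K} (ht : t ≠ 0) : t * (star t * star t * star t)⁻¹ * κ ∈ PP L := by
  obtain ⟨l, hl, α, hα, h1⟩ := h
  obtain ⟨g, hg, hg'⟩ := hL.tor t ht l hl
  have ht' : star t ≠ 0 := by simpa only [_root_.ne_eq, _root_.star_eq_zero] using ht
  refine ⟨g, hg, (t * star t)⁻¹ * α, by rw [star_mul', star_inv₀, star_mul', star_star, hα, mul_comm t], fun b => ?_⟩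
  have h2 := hg' (0, (t * t * (t * star t)⁻¹)⁻¹ * b)
  have h3 : (t * t * ((0 : K), (t * t * (t * star t)⁻¹)⁻¹ * b).1,
      t * t * (t * star t)⁻¹ * ((0 : K), (t * t * (t * star t)⁻¹)⁻¹ * b).2) = ((0 : K), b) := by
    ext
    · simp
    · simp only
      field_simp
  rw [h3] at h2
  rw [h2]
  simp only
  rw [h1, star_mul', star_mul']
  field_simp

/-- two graphs meeting nontrivially are equal: norms of differences are nonsquares -/
theorem PP_norm (H : FH K) (hL : CL L) {κ₁ κ₂ : K} (h₁ : κ₁ ∈ PP L) (h₂ : κ₂ ∈ PP L) (hne : κ₁ ≠ κ₂) {α : K}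
    (hα : star α = α) : α * α ≠ (κ₁ - κ₂) * star (κ₁ - κ₂) := by
  intro h
  obtain ⟨r, hr, hr'⟩ := det_zero H hα h
  obtain ⟨l₁, hl₁, g₁⟩ := PP_shift hL h₁ hα
  obtain ⟨l₂, hl₂, g₂⟩ := PP_shift hL h₂ (star_zero K)
  obtain ⟨b₁, hb₁⟩ := g₁.mem H hL hl₁ r
  obtain ⟨b₂, hb₂⟩ := g₂.mem H hL hl₂ r
  have heq : l₁ (0, b₁) = l₂ (0, b₂) := by
    rw [hb₁, hb₂]
    congr 1
    linear_combination hr'
  have hb₁0 : b₁ ≠ 0 := by
    rintro rfl
    have h3 : l₁ (0, 0) = 0 := map_zero' hL hl₁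
    rw [h3] at hb₁
    exact hr (congrArg Prod.fst hb₁).symm
  have hm := meet H hL (L.mul_mem (L.inv_mem hl₁) hl₂) hb₁0 (by
    have h3 : (l₁⁻¹ * l₂)⁻¹ ((0 : K), b₁) = (0, b₂) := by
      rw [mul_inv_rev, inv_inv, Equiv.Perm.mul_apply, heq, inv_apply]
    rw [h3])
  -- `l₁ (0, b)` lies in the graph of `κ₂ star`
  have hin : ∀ b, (l₁ (0, b)).2 = 0 * (l₁ (0, b)).1 + κ₂ * star (l₁ (0, b)).1 := by
    intro b
    have h3 := hm b
    rw [mul_inv_rev, inv_inv, Equiv.Perm.mul_apply] at h3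
    have h4 : l₁ (0, b) = l₂ (0, (l₂⁻¹ (l₁ (0, b))).2) := by
      have h5 : ((0 : K), (l₂⁻¹ (l₁ (0, b))).2) = l₂⁻¹ (l₁ (0, b)) := by
        ext
        · exact h3.symm
        · rfl
      rw [h5, apply_inv]
    rw [h4]
    exact g₂ _
  have hall : ∀ r : K, α * r + κ₁ * star r = κ₂ * star r := by
    intro r
    obtain ⟨b, hb⟩ := g₁.mem H hL hl₁ r
    have h3 := hin b
    rw [hb] at h3
    simp only [zero_mul, zero_add] at h3
    exact h3
  obtain ⟨ω, hω0, hω⟩ := H.om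
  have h5 := hall 1
  have h6 := hall ω
  rw [star_one] at h5
  rw [hω] at h6
  have h7 : (α - κ₁ + κ₂) * ω = 0 := by linear_combination h6
  have h8 := (mul_eq_zero.1 h7).resolve_right hω0
  have h9 : (2 : K) * (κ₁ - κ₂) = 0 := by linear_combination h5 - h8
  exact hne (sub_eq_zero.1 ((mul_eq_zero.1 h9).resolve_left H.two))

theorem ff_MM_symm (hL : CL L) {l : Equiv.Perm (K × K)} (hl : l ∈ L) (v w : K × K) :
    ff v (MM l w) = ff w (MM l v) := by
  rw [← hL.sp _ (L.inv_mem hl) v (MM l w), ← hL.sp _ (L.inv_mem hl) w (MM l v), inv_MM, inv_MM]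
  simp only [ff, star_zero, zero_mul, add_zero, sub_zero, mul_zero]
  ring

/-- the action of `l R l⁻¹` on `C` -/
theorem exists_B (H : FH K) (hL : CL L) {l : Equiv.Perm (K × K)} (hl : l ∈ L) {α κ : K} (hα : star α = α)
    (h : Gr l α κ) : ∃ β κB : K, star β = β ∧ β * β - κB * star κB ≠ 0 ∧
      (∀ b : K, (MM l (0, b)).1 = β * b + κB * star b) ∧ ∀ c, star c = c → κ + c * κB ∈ PP L := by
  have hmul : ∀ c x : K, star c = c → (MM l (0, c * x)).1 = c * (MM l (0, x)).1 := by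
    intro c x hc
    have h2 : ((0 : K), c * x) = c • (0, x) := by ext <;> simp
    rw [h2, MM_smul H hL hl hc, Prod.smul_fst, smul_eq_mul]
  obtain ⟨β, κB, hβ, hB⟩ := symop H (fun b => (MM l (0, b)).1)
    (fun x y => by
      have h2 : ((0 : K), x + y) = (0, x) + (0, y) := by ext <;> simp
      rw [h2, MM_add hL hl, Prod.fst_add])
    (fun c x hc => hmul c x hc)
    (fun r r' => by
      have h3 := ff_MM_symm hL hl (0, r) (0, r')
      simp only [ff, star_zero, zero_mul, zero_add, zero_sub] at h3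
      linear_combination -h3)
  -- the value of `MM` lies in the graph
  have hin : ∀ v, (MM l v).2 = α * (MM l v).1 + κ * star (MM l v).1 := fun v => h _
  have hB0 : ∀ b : K, (MM l (0, b)).1 = 0 → b = 0 := by
    intro b hb
    have h1 : MM l (0, b) = 0 := by
      ext
      · exact hb
      · rw [hin, hb, star_zero]; simp
    have h2 := pair_eq_zero H hL hl h1
    have h3 : (l⁻¹ (0, b)).1 = 0 := congrArg Prod.snd h2
    have h4 : l⁻¹ (0, b) = (0, (l⁻¹ (0, b)).2) := by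
      ext
      · exact h3
      · rfl
    have h5 : l (0, (l⁻¹ (0, b)).2) = (0, b) := by rw [← h4, apply_inv]
    have h6 := h (l⁻¹ (0, b)).2
    rw [h5] at h6
    simpa using h6
  have hD : β * β - κB * star κB ≠ 0 := by
    intro h0
    obtain ⟨r, hr, hr'⟩ := det_zero H hβ (sub_eq_zero.1 h0)
    exact hr (hB0 r ((hB r).trans hr'))
  have hDs : star (β * β - κB * star κB) = β * β - κB * star κB := by
    rw [star_sub, star_mul', star_mul', star_star, hβ, mul_comm (star κB)]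
  refine ⟨β, κB, hβ, hD, hB, fun c' hc' => ?_⟩
  rcases eq_or_ne c' 0 with rfl | hc0
  · rw [zero_mul, add_zero]
    exact ⟨l, hl, α, hα, h⟩
  set D := β * β - κB * star κB with hDd
  obtain ⟨y, hy, hy'⟩ := ry H hL hl (c := -(c' * D)⁻¹) (by rw [star_neg, star_inv₀, star_mul', hDs, hc'])
  refine ⟨y, hy, α - c' * β, by rw [star_sub, star_mul', hα, hβ, hc'], fun b => ?_⟩
  rw [hy']
  simp only [Prod.fst_add, Prod.snd_add, Prod.smul_fst, Prod.smul_snd, smul_eq_mul, zero_add]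
  rw [hin (0, b)]
  have hBb : (MM l (0, b)).1 = β * b + κB * star b := hB b
  have h3 : star (-(c' * D)⁻¹ * (MM l (0, b)).1) = -(c' * D)⁻¹ * star (MM l (0, b)).1 := by
    rw [star_mul', star_neg, star_inv₀, star_mul', hDs, hc']
  have h4 : star (MM l (0, b)).1 = β * star b + star κB * b := by
    rw [hBb, star_add, star_mul', star_mul', star_star, hβ]
  rw [h3, h4, hBb]
  have h5 : (c' * D)⁻¹ * c' * D = 1 := by field_simp
  linear_combination (-b) * h5 + (c' * D)⁻¹ * c' * b * hDd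

theorem tU (H : FH K) : ∃ t : K, t ≠ 0 ∧ star (t * (star t * star t * star t)⁻¹) ≠ t * (star t * star t * star t)⁻¹ := by
  obtain ⟨t, ht, ht4⟩ := H.t0
  have ht' : star t ≠ 0 := by simpa only [_root_.ne_eq, _root_.star_eq_zero] using ht
  refine ⟨t, ht, fun h => ht4 ?_⟩
  rw [star_mul', star_inv₀, star_mul', star_mul', star_star, ← div_eq_mul_inv, ← div_eq_mul_inv,
    div_eq_div_iff (mul_ne_zero (mul_ne_zero ht ht) ht) (mul_ne_zero (mul_ne_zero ht' ht') ht')] at h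
  linear_combination h

/-- there is no line in `PP` -/
theorem no_line (H : FH K) (hL : CL L) {κ δ : K} (h : ∀ c, star c = c → κ + c * δ ∈ PP L) : δ = 0 := by
  by_contra hδ
  obtain ⟨t, ht, htU⟩ := tU H
  set U := t * (star t * star t * star t)⁻¹ with hU
  obtain ⟨d₁, d₂, hd₁, hd₂, hd⟩ := span_k htU ((1 - κ + U * κ) / δ)
  have h1 := h d₁ hd₁
  have h2 := PP_tor hL (h (-d₂) (by rw [star_neg, hd₂])) ht
  rw [← hU] at h2
  have h3 : κ + d₁ * δ - U * (κ + -d₂ * δ) = 1 := by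
    have h4 : (1 - κ + U * κ) = (d₁ + d₂ * U) * δ := by rw [← hd]; field_simp
    linear_combination -h4
  refine PP_norm H hL h1 h2 (fun h4 => ?_) (star_one K) ?_
  · rw [h4, sub_self] at h3
    exact zero_ne_one h3
  · rw [h3, star_one]

/-- the full group `l R l⁻¹` -/
theorem std (H : FH K) (hL : CL L) {l : Equiv.Perm (K × K)} (hl : l ∈ L) {α κ : K} (hα : star α = α)
    (h : Gr l α κ) {c : K} (hc : star c = c) : ∃ g ∈ L, ∀ v : K × K,
      g v = (v.1 + c * (v.2 - (α * v.1 + κ * star v.1)),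
        v.2 + c * (α * (v.2 - (α * v.1 + κ * star v.1)) + κ * star (v.2 - (α * v.1 + κ * star v.1)))) := by
  obtain ⟨β, κB, hβ, hD, hB, hline⟩ := exists_B H hL hl hα h
  have hκB := no_line H hL hline
  rw [hκB, zero_mul, sub_zero] at hD
  have hβ0 : β ≠ 0 := fun h0 => hD (by rw [h0, zero_mul])
  obtain ⟨g, hg, hg'⟩ := ry H hL hl (c := c * β⁻¹) (by rw [star_mul', star_inv₀, hc, hβ])
  refine ⟨g, hg, fun v => ?_⟩
  rw [hg']
  obtain ⟨b, hb⟩ := h.mem H hL hl v.1
  have h1 : v = l (0, b) + (0, v.2 - (α * v.1 + κ * star v.1)) := by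
    rw [hb]; ext <;> simp only [_root_.Prod.mk_add_mk, _root_.add_zero, _root_.add_sub_cancel, _root_.Prod.mk.eta]
  have h2 : MM l v = MM l (0, v.2 - (α * v.1 + κ * star v.1)) := by
    conv_lhs => rw [h1]
    rw [MM_add hL hl, MM_eq_zero hL hl (by rw [inv_apply]), zero_add]
  rw [h2]
  set s := v.2 - (α * v.1 + κ * star v.1) with hs
  have h3 : (MM l (0, s)).1 = β * s := by rw [hB, hκB]; ring
  have h4 : (MM l (0, s)).2 = α * (β * s) + κ * star (β * s) := by
    have : (MM l (0, s)).2 = α * (MM l (0, s)).1 + κ * star (MM l (0, s)).1 := h _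
    rw [this, h3]
  ext
  · simp only [Prod.fst_add, Prod.smul_fst, smul_eq_mul]
    rw [h3]; field_simp
  · simp only [Prod.snd_add, Prod.smul_snd, smul_eq_mul]
    rw [h4, star_mul', hβ]; field_simp

theorem PP_step (H : FH K) (hL : CL L) {κ₁ κ₂ : K} (h₁ : κ₁ ∈ PP L) (h₂ : κ₂ ∈ PP L) (hne : κ₁ ≠ κ₂) {α : K}
    (hα : star α = α) :
    κ₂ + (1 - α * α / ((κ₁ - κ₂) * star (κ₁ - κ₂))) * (κ₁ - κ₂) ∈ PP L := by
  have hn := PP_norm H hL h₁ h₂ hne hα
  have hδ : κ₁ - κ₂ ≠ 0 := sub_ne_zero.2 hne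
  have hδ' : star (κ₁ - κ₂) ≠ 0 := star_ne_zero.2 hδ
  obtain ⟨l₁, hl₁, g₁⟩ := PP_shift hL h₁ hα
  obtain ⟨l₂, hl₂, g₂⟩ := PP_shift hL h₂ (star_zero K)
  set δ := κ₁ - κ₂ with hδd
  have hd : δ * star δ - α * α ≠ 0 := sub_ne_zero.2 hn.symm
  have hds : star (δ * star δ - α * α) = δ * star δ - α * α := by
    rw [star_sub, star_mul', star_mul', star_star, hα, mul_comm (star δ)]
  set d := δ * star δ - α * α with hdd
  have hc : star (α / d) = α / d := by rw [star_div₀, hα, hds]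
  obtain ⟨g, hg, hg'⟩ := std H hL hl₂ (star_zero K) g₂ hc
  refine ⟨g * l₁, L.mul_mem hg hl₁, 0, star_zero K, fun b => ?_⟩
  rw [Equiv.Perm.mul_apply, hg']
  simp only
  rw [g₁ b]
  set X := (l₁ (0, b)).1
  have hκ : κ₁ = κ₂ + δ := by rw [hδd]; ring
  have hs : star (α * X + κ₁ * star X - (0 * X + κ₂ * star X)) = α * star X + star δ * X := by
    have : α * X + κ₁ * star X - (0 * X + κ₂ * star X) = α * X + δ * star X := by rw [hκ]; ring
    rw [this, star_add, star_mul', star_mul', star_star, hα]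
  rw [hs, star_add, star_mul' (α / d), hc, hs]
  have e1 : 1 - α * α / (δ * star δ) = d / (δ * star δ) := by rw [hdd]; field_simp
  rw [e1, hκ]
  field_simp
  ring

/-- the whole line through two points -/
theorem PP_line (H : FH K) (hL : CL L) {κ₁ κ₂ : K} (h₁ : κ₁ ∈ PP L) (h₂ : κ₂ ∈ PP L) (hne : κ₁ ≠ κ₂) {c : K}
    (hc : star c = c) : κ₂ + c * (κ₁ - κ₂) ∈ PP L := by
  -- the nonsquare multiples
  have step : ∀ {κ₁ κ₂ : K}, κ₁ ∈ PP L → κ₂ ∈ PP L → κ₁ ≠ κ₂ → ∀ s : K, star s = s →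
      κ₂ + (κ₁ - κ₂) * star (κ₁ - κ₂) * (s * s) * (κ₁ - κ₂) ∈ PP L := by
    intro κ₁ κ₂ h₁ h₂ hne s hs
    have hδ : κ₁ - κ₂ ≠ 0 := sub_ne_zero.2 hne
    have hδ' : star (κ₁ - κ₂) ≠ 0 := star_ne_zero.2 hδ
    have hν : star ((κ₁ - κ₂) * star (κ₁ - κ₂)) = (κ₁ - κ₂) * star (κ₁ - κ₂) := by
      rw [star_mul', star_star, mul_comm]
    have h := PP_step H hL h₂ h₁ hne.symm (α := (κ₁ - κ₂) * star (κ₁ - κ₂) * s) (by rw [star_mul', hν, hs])
    convert h using 1
    have h5 : κ₂ - κ₁ = -(κ₁ - κ₂) := by ring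
    rw [h5, star_neg]
    set δ := κ₁ - κ₂ with hδd
    have h6 : κ₂ = κ₁ - δ := by rw [hδd]; ring
    rw [h6]
    field_simp
    ring
  have hδ : κ₁ - κ₂ ≠ 0 := sub_ne_zero.2 hne
  have hδ' : star (κ₁ - κ₂) ≠ 0 := star_ne_zero.2 hδ
  have hν : star ((κ₁ - κ₂) * star (κ₁ - κ₂)) = (κ₁ - κ₂) * star (κ₁ - κ₂) := by
    rw [star_mul', star_star, mul_comm]
  obtain ⟨x, hx, hx'⟩ := H.sq _ c hν hc (fun x hx hx' => PP_norm H hL h₁ h₂ hne hx hx')
  rcases hx' with rfl | rfl
  · -- squares: two steps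
    have h3 := step h₁ h₂ hne 1 (star_one K)
    set δ := κ₁ - κ₂ with hδd
    set ν := δ * star δ with hνd
    have hν0 : ν ≠ 0 := mul_ne_zero hδ hδ'
    have hne' : κ₂ + ν * (1 * 1) * δ ≠ κ₂ := by
      intro h4
      have h5 : ν * (1 * 1) * δ = 0 := by linear_combination h4
      rw [one_mul, mul_one] at h5
      exact mul_ne_zero hν0 hδ h5
    have h4 := step h3 h₂ hne' (x / (ν * ν)) (by rw [star_div₀, star_mul', hν, hx])
    convert h4 using 1
    have h5 : κ₂ + ν * (1 * 1) * δ - κ₂ = ν * δ := by ring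
    rw [h5, star_mul', hν]
    have h6 : ν * δ * (ν * star δ) = ν * ν * ν := by rw [hνd]; ring
    rw [h6]
    field_simp
  · exact step h₁ h₂ hne x hx

theorem PP_zero (H : FH K) (hL : CL L) {κ : K} (h : κ ∈ PP L) : κ = 0 := by
  obtain ⟨t, ht, htU⟩ := tU H
  have h1 := PP_tor hL h ht
  by_contra hκ
  have h2 : t * (star t * star t * star t)⁻¹ * κ ≠ κ := by
    intro h3
    have h4 : t * (star t * star t * star t)⁻¹ = 1 := mul_right_cancel₀ hκ (by rw [h3, one_mul])
    rw [h4] at htU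
    exact htU (star_one K)
  have h3 := no_line H hL (κ := κ) (δ := t * (star t * star t * star t)⁻¹ * κ - κ)
    (fun c hc => PP_line H hL h1 h h2 hc)
  exact h2 (sub_eq_zero.1 h3)

/-- the main result of the core -/
theorem core (H : FH K) (hL : CL L) {l : Equiv.Perm (K × K)} (hl : l ∈ L) {b : K} (hb : (l (0, b)).1 ≠ 0) :
    (∀ c, star c = c → ∃ g ∈ L, ∀ v : K × K, g v = (v.1 + c * v.2, v.2)) ∧
    ∀ l' ∈ L, (∀ b : K, (l' (0, b)).1 = 0) ∨ ∃ α : K, star α = α ∧ ∀ b : K, (l' (0, b)).2 = α * (l' (0, b)).1 := by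
  have hP : ∀ l' ∈ L, (∀ b : K, (l' (0, b)).1 = 0) ∨ ∃ α : K, star α = α ∧ Gr l' α 0 := by
    intro l' hl'
    rcases alt H hL hl' with h1 | h1
    · exact Or.inl h1
    · obtain ⟨α, κ, hα, h2⟩ := graph H hL hl' h1
      have h3 := PP_zero H hL (κ := κ) ⟨l', hl', α, hα, h2⟩
      rw [h3] at h2
      exact Or.inr ⟨α, hα, h2⟩
  constructor
  · rcases hP l hl with h1 | ⟨α, hα, h1⟩
    · exact absurd (h1 b) hb
    · obtain ⟨l₀, hl₀, g₀⟩ := PP_shift hL (κ := 0) ⟨l, hl, α, hα, h1⟩ (star_zero K)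
      intro c hc
      obtain ⟨g, hg, hg'⟩ := std H hL hl₀ (star_zero K) g₀ hc
      refine ⟨g, hg, fun v => ?_⟩
      rw [hg']
      simp only [_root_.MulZeroClass.zero_mul, _root_.add_zero, _root_.sub_zero, _root_.MulZeroClass.mul_zero]
  · intro l' hl'
    rcases hP l' hl' with h1 | ⟨α, hα, h1⟩
    · exact Or.inl h1
    · refine Or.inr ⟨α, hα, fun b => ?_⟩
      have h2 := h1 b
      rwa [zero_mul, add_zero] at h2

end Cfsg.Agent.H859.P4
end

-- part: H859/P4/Pi
section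
/-!
# S5210, Q1 for odd `p`: the action of the automorphisms of `Q` on `Q/Z` (helper859)
-/

set_option autoImplicit false

namespace Cfsg.Agent.H859.P4

open Cfsg Cfsg.FusionSystem
open Cfsg.Agent.H756.PU (HypK NormAut)
open Cfsg.Agent.H776.P4

universe u

variable {K : Type u} [Field K] [StarRing K]

/-- the coordinates on `Q/Z` -/
def pr (e : PQ K) : K × K := ((e : PG K).r, (e : PG K).b)

/-- a section of `pr` -/
def sec (v : K × K) : PQ K := ⟨⟨v.1, 0, v.2, 0, star_zero _, star_zero _⟩, rfl⟩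

/-- the elements of `Z` -/
def zz (a : K) (ha : star a = a) : PQ K := ⟨⟨0, a, 0, 0, ha, star_zero _⟩, rfl⟩

theorem pr_sec (v : K × K) : pr (sec v) = v := rfl

theorem pr_mul (e x : PQ K) : pr (e * x) = pr e + pr x := by
  have hx : (x : PG K).c = 0 := x.2
  ext
  · rfl
  · show ((e : PG K) * (x : PG K)).b = _
    rw [PG.mul_b, hx, mul_zero, add_zero]; rfl

theorem pr_one : pr (1 : PQ K) = 0 := rfl

theorem pr_inv (e : PQ K) : pr e⁻¹ = -pr e := by
  have h := pr_mul e e⁻¹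
  rw [mul_inv_cancel, pr_one] at h
  exact (neg_eq_of_add_eq_zero_right h.symm).symm

theorem ff_star (v w : K × K) : star (ff v w) = ff v w := by
  simp only [ff, star_sub, star_add, star_mul', star_star]; ring

/-- the commutator formula -/
theorem comm_eq (e x : PQ K) : e * x = zz (ff (pr e) (pr x)) (ff_star _ _) * (x * e) := by
  have he : (e : PG K).c = 0 := e.2
  have hx : (x : PG K).c = 0 := x.2
  apply Subtype.ext
  rw [Subgroup.coe_mul, Subgroup.coe_mul, Subgroup.coe_mul]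
  ext
  · simp [zz, add_comm]
  · simp only [PG.mul_a, PG.mul_b, PG.mul_r, zz, ff, pr, he, hx]
    ring_nf
    simp only [_root_.star_zero, _root_.MulZeroClass.mul_zero, _root_.add_zero]
  · simp only [PG.mul_b, PG.mul_r, zz, he, hx]
    ring
  · simp [zz, add_comm]

theorem zz_comm (a : K) (ha : star a = a) (e : PQ K) : zz a ha * e = e * zz a ha := by
  have he : (e : PG K).c = 0 := e.2
  apply Subtype.ext
  rw [Subgroup.coe_mul, Subgroup.coe_mul]
  ext
  · simp [zz]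
  · simp only [PG.mul_a, zz, he]
    simp only [add_comm, _root_.MulZeroClass.zero_mul, _root_.add_zero, _root_.star_zero, _root_.MulZeroClass.mul_zero]
  · simp only [PG.mul_b, zz, he]
    simp
  · simp [zz]

theorem zz_of (e : PQ K) (h : pr e = 0) : e = zz (e : PG K).a (e : PG K).ha := by
  have h1 : (e : PG K).r = 0 := congrArg Prod.fst h
  have h2 : (e : PG K).b = 0 := congrArg Prod.snd h
  have h3 : (e : PG K).c = 0 := e.2
  apply Subtype.ext
  ext
  · exact h1
  · rfl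
  · exact h2
  · exact h3

theorem zz_inj {a b : K} {ha : star a = a} {hb : star b = b} (h : zz a ha = zz b hb) : a = b :=
  congrArg (fun e : PQ K => (e : PG K).a) h

theorem central_iff (H : FH K) (e : PQ K) : (∀ x, e * x = x * e) ↔ pr e = 0 := by
  constructor
  · intro h
    apply ff_nd H
    intro w
    have h1 := comm_eq e (sec w)
    rw [h (sec w), pr_sec] at h1
    have h2 : zz (ff (pr e) w) (ff_star _ _) = 1 := right_eq_mul.1 h1
    exact zz_inj (b := 0) (hb := star_zero K) (by rw [h2]; rfl)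
  · intro h x
    rw [zz_of e h, zz_comm]

theorem pr_zero (H : FH K) (γ : MulAut (PQ K)) {e : PQ K} (h : pr e = 0) : pr (γ e) = 0 := by
  rw [← central_iff H]
  intro x
  obtain ⟨y, rfl⟩ := γ.surjective x
  rw [← map_mul, ← map_mul, (central_iff H e).2 h y]

theorem pr_congr (H : FH K) (γ : MulAut (PQ K)) {e x : PQ K} (h : pr e = pr x) : pr (γ e) = pr (γ x) := by
  have h1 : pr (x⁻¹ * e) = 0 := by rw [pr_mul, pr_inv, h, neg_add_cancel]
  have h2 := pr_zero H γ h1
  rw [map_mul, map_inv, pr_mul, pr_inv, neg_add_eq_zero] at h2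
  exact h2.symm

/-- the action on `Q/Z` -/
def act (γ : MulAut (PQ K)) (v : K × K) : K × K := pr (γ (sec v))

theorem act_pr (H : FH K) (γ : MulAut (PQ K)) (e : PQ K) : act γ (pr e) = pr (γ e) := pr_congr H γ rfl

theorem act_mul (H : FH K) (γ δ : MulAut (PQ K)) (v : K × K) : act (γ * δ) v = act γ (act δ v) := by
  rw [act, MulAut.mul_apply, ← act_pr H, act]; rfl

theorem act_one (v : K × K) : act (1 : MulAut (PQ K)) v = v := rfl

theorem act_add (H : FH K) (γ : MulAut (PQ K)) (v w : K × K) : act γ (v + w) = act γ v + act γ w := by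
  rw [act, act, act, ← pr_mul, ← map_mul]
  apply pr_congr H
  rw [pr_mul]; rfl

/-- the action as a homomorphism -/
def pi (H : FH K) : MulAut (PQ K) →* Equiv.Perm (K × K) where
  toFun γ := ⟨act γ, act γ⁻¹, fun v => by rw [← act_mul H, inv_mul_cancel, act_one],
    fun v => by rw [← act_mul H, mul_inv_cancel, act_one]⟩
  map_one' := by ext <;> rfl
  map_mul' γ δ := by
    apply Equiv.ext
    intro v
    exact act_mul H γ δ v

theorem pi_apply (H : FH K) (γ : MulAut (PQ K)) (v : K × K) : pi H γ v = act γ v := rfl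

theorem act_inj (H : FH K) (γ : MulAut (PQ K)) {v w : K × K} (h : act γ v = act γ w) : v = w := (pi H γ).injective h

/-- trivial on `Z` -/
def TZ (γ : MulAut (PQ K)) : Prop := ∀ e : PQ K, pr e = 0 → γ e = e

theorem act_ff (γ : MulAut (PQ K)) (h : TZ γ) (v w : K × K) : ff (act γ v) (act γ w) = ff v w := by
  have h1 := comm_eq (γ (sec v)) (γ (sec w))
  have h2 := congrArg γ (comm_eq (sec v) (sec w))
  rw [map_mul, map_mul, map_mul, h (zz _ _) rfl] at h2
  rw [h2] at h1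
  exact (zz_inj (mul_right_cancel h1)).symm

theorem TZ_of_act (H : FH K) (γ : MulAut (PQ K)) (h : ∀ v, act γ v = v) : TZ γ := by
  intro e he
  have h2 := H.two
  have ha := (e : PG K).ha
  set a := (e : PG K).a with haa
  have hst2 : star (2 : K) = 2 := by
    have : (2 : K) = 1 + 1 := by norm_num
    rw [this, star_add, star_one]
  have hff : ff ((1 : K), 0) (0, a / 2) = a := by
    simp only [ff, star_one, one_mul, star_div₀, ha, hst2, zero_mul, star_zero, add_zero, sub_zero]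
    field_simp
    norm_num
  have h1 := comm_eq (γ (sec ((1 : K), 0))) (γ (sec (0, a / 2)))
  have h3 := congrArg γ (comm_eq (sec ((1 : K), 0)) (sec (0, a / 2)))
  rw [map_mul, map_mul, map_mul] at h3
  rw [h3] at h1
  have h4 := mul_right_cancel h1
  have h5 : pr (γ (sec ((1 : K), 0))) = (1, 0) := h _
  have h6 : pr (γ (sec ((0 : K), a / 2))) = (0, a / 2) := h _
  have h7 : ∀ (x y : K) (hx : star x = x) (hy : star y = y), x = y → zz x hx = zz y hy := by
    intro x y hx hy hxy; subst hxy; rfl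
  have h8 : e = zz (ff (pr (sec ((1 : K), 0))) (pr (sec (0, a / 2)))) (ff_star _ _) := by
    rw [zz_of e he]
    exact h7 _ _ _ _ (by rw [pr_sec, pr_sec, hff])
  rw [h8, h4]
  exact h7 _ _ _ _ (by rw [h5, h6, pr_sec, pr_sec])

end Cfsg.Agent.H859.P4
end

-- part: H859/P4/Gam
section
/-!
# S5210, Q1 for odd `p`: the group `Γ` (helper859)
-/

set_option autoImplicit false

namespace Cfsg.Agent.H859.P4

open Cfsg Cfsg.FusionSystem
open Cfsg.Agent.H756.PU (HypK NormAut)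
open Cfsg.Agent.H776.P4

universe u

variable {K : Type u} [Field K] [StarRing K] {p n : ℕ}

instance : (PQ K).Normal where
  conj_mem x hx g := by
    have hx' : x.c = 0 := hx
    show (g * x * g⁻¹).c = 0
    simp [hx']

theorem finPG (H : FH K) : Finite (PG K) := by
  have := H.fin
  exact Finite.of_injective (fun g : PG K => (g.r, g.a, g.b, g.c)) (by
    intro g g' h
    simp only [Prod.mk.injEq] at h
    exact PG.ext h.1 h.2.1 h.2.2.1 h.2.2.2)

theorem finAut (H : FH K) : Finite (MulAut (PQ K)) := by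
  have := finPG H
  exact Finite.of_injective (fun γ : MulAut (PQ K) => (γ : PQ K → PQ K)) DFunLike.coe_injective

theorem mem_A {γ : MulAut (PQ K)} :
    γ ∈ autInducedBy ⊤ (PQ K) ↔ ∃ g : PG K, ∀ x : PQ K, ((γ x : PQ K) : PG K) = g * x * g⁻¹ := by
  constructor
  · intro h
    rw [autInducedBy] at h
    induction h using Subgroup.closure_induction with
    | mem x hx => obtain ⟨g, _, hg⟩ := hx; exact ⟨g, hg⟩
    | one => exact ⟨1, fun x => by simp⟩
    | mul a b _ _ ha hb =>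
      obtain ⟨g, hg⟩ := ha
      obtain ⟨g', hg'⟩ := hb
      exact ⟨g * g', fun x => by rw [MulAut.mul_apply, hg, hg']; group⟩
    | inv a _ ha =>
      obtain ⟨g, hg⟩ := ha
      refine ⟨g⁻¹, fun x => ?_⟩
      have h1 := hg (a⁻¹ x)
      rw [MulAut.apply_inv_self] at h1
      rw [h1]; group
  · rintro ⟨g, hg⟩
    exact Subgroup.subset_closure ⟨g, Subgroup.mem_top _, hg⟩

theorem act_conj {γ : MulAut (PQ K)} {g : PG K} (hg : ∀ x : PQ K, ((γ x : PQ K) : PG K) = g * x * g⁻¹) (v : K × K) :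
    act γ v = v + (-g.c) • ((0 : K), v.1) := by
  have h1 : act γ v = (((γ (sec v) : PQ K) : PG K).r, ((γ (sec v) : PQ K) : PG K).b) := rfl
  rw [h1, hg]
  ext
  · simp only [sec, _root_.Cfsg.Agent.H776.P4.PG.mul_r, _root_.Cfsg.Agent.H776.P4.PG.inv_r, _root_.add_neg_cancel_comm, _root_.neg_smul, _root_.Prod.smul_mk, _root_.smul_eq_mul, _root_.MulZeroClass.mul_zero, _root_.Prod.neg_mk, _root_.neg_zero, _root_.Prod.fst_add, _root_.add_zero]
  · simp only [PG.mul_b, PG.inv_b, sec, PG.mul_r, PG.inv_c, Prod.snd_add, Prod.smul_snd, smul_eq_mul]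
    ring

theorem TZ_conj {γ : MulAut (PQ K)} {g : PG K} (hg : ∀ x : PQ K, ((γ x : PQ K) : PG K) = g * x * g⁻¹) : TZ γ := by
  intro e he
  apply Subtype.ext
  rw [hg, mul_inv_eq_iff_eq_mul]
  have h1 : (e : PG K).r = 0 := congrArg Prod.fst he
  have h2 : (e : PG K).b = 0 := congrArg Prod.snd he
  have h3 : (e : PG K).c = 0 := e.2
  ext
  · simp [h1]
  · simp only [PG.mul_a, h1, h2, h3]
    simp only [add_comm, _root_.star_zero, _root_.MulZeroClass.mul_zero, _root_.add_zero, _root_.MulZeroClass.zero_mul]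
  · simp only [PG.mul_b, h1, h2, h3]
    simp
  · simp [h3]

theorem A_form {γ : MulAut (PQ K)} (h : γ ∈ autInducedBy ⊤ (PQ K)) :
    TZ γ ∧ ∃ c : K, star c = c ∧ (∀ v, act γ v = v + c • ((0 : K), v.1)) ∧ (c = 0 → γ ∈ Inn (PQ K)) := by
  obtain ⟨g, hg⟩ := mem_A.1 h
  refine ⟨TZ_conj hg, -g.c, by rw [star_neg, g.hc], act_conj hg, fun h0 => ?_⟩
  refine ⟨⟨g, by show g.c = 0; rwa [neg_eq_zero] at h0⟩, ?_⟩
  ext1 x
  apply Subtype.ext
  rw [hg]
  rfl

theorem rxA {c : K} (hc : star c = c) : ∃ ρ ∈ autInducedBy ⊤ (PQ K), ∀ v, act ρ v = v + c • ((0 : K), v.1) := by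
  have hg : ∀ x : PQ K, ((MulAut.conjNormal (⟨0, 0, 0, -c, star_zero _, by rw [star_neg, hc]⟩ : PG K) x : PQ K) : PG K) =
      (⟨0, 0, 0, -c, star_zero _, by rw [star_neg, hc]⟩ : PG K) * x * (⟨0, 0, 0, -c, star_zero _, by rw [star_neg, hc]⟩ : PG K)⁻¹ :=
    fun x => MulAut.conjNormal_apply _ _
  refine ⟨MulAut.conjNormal (⟨0, 0, 0, -c, star_zero _, by rw [star_neg, hc]⟩ : PG K), mem_A.2 ⟨_, hg⟩, fun v => ?_⟩
  rw [act_conj hg]
  simp

theorem Inn_le : Inn (PQ K) ≤ autInducedBy ⊤ (PQ K) := by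
  rintro _ ⟨e, rfl⟩
  exact mem_A.2 ⟨(e : PG K), fun x => rfl⟩

theorem act_Inn {γ : MulAut (PQ K)} (h : γ ∈ Inn (PQ K)) (v : K × K) : act γ v = v := by
  obtain ⟨e, rfl⟩ := h
  have hg : ∀ x : PQ K, ((MulAut.conj e x : PQ K) : PG K) = (e : PG K) * x * (e : PG K)⁻¹ := fun x => rfl
  have he : (e : PG K).c = 0 := e.2
  rw [act_conj hg, he]
  simp

theorem TZ_mul {γ δ : MulAut (PQ K)} (h : TZ γ) (h' : TZ δ) : TZ (γ * δ) := fun e he => by
  rw [MulAut.mul_apply, h' e he, h e he]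

theorem TZ_inv {γ : MulAut (PQ K)} (h : TZ γ) : TZ γ⁻¹ := fun e he => by
  have h1 := congrArg (γ⁻¹ : MulAut (PQ K)) (h e he)
  rw [MulAut.inv_apply_self] at h1
  exact h1.symm

theorem TZ_cj (H : FH K) {γ δ : MulAut (PQ K)} (h : TZ δ) : TZ (γ * δ * γ⁻¹) := fun e he => by
  rw [MulAut.mul_apply, MulAut.mul_apply, h _ (pr_zero H γ⁻¹ he), MulAut.apply_inv_self]

theorem TZ_pow {γ : MulAut (PQ K)} (h : TZ γ) (m : ℕ) : TZ (γ ^ m) := by
  induction m with
  | zero => intro e _; rfl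
  | succ m ih => rw [pow_succ]; exact TZ_mul ih h

/-- the subgroup of `Γ` trivial on `Z` -/
def G0 (Γ : Subgroup (MulAut (PQ K))) : Subgroup (MulAut (PQ K)) where
  carrier := {γ | γ ∈ Γ ∧ TZ γ}
  one_mem' := ⟨Γ.one_mem, fun _ _ => rfl⟩
  mul_mem' := by
    rintro a b ⟨h1, h2⟩ ⟨k1, k2⟩
    exact ⟨Γ.mul_mem h1 k1, TZ_mul h2 k2⟩
  inv_mem' := by
    rintro a ⟨h1, h2⟩
    exact ⟨Γ.inv_mem h1, TZ_inv h2⟩

/-- the subgroup of `Γ` trivial on `Z` and `Y/Z` -/
def HH (H : FH K) (Γ : Subgroup (MulAut (PQ K))) : Subgroup (MulAut (PQ K)) where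
  carrier := {γ | γ ∈ Γ ∧ TZ γ ∧ ∀ b : K, act γ (0, b) = (0, b)}
  one_mem' := ⟨Γ.one_mem, fun _ _ => rfl, fun _ => rfl⟩
  mul_mem' := by
    rintro a b ⟨h1, h2, h3⟩ ⟨k1, k2, k3⟩
    exact ⟨Γ.mul_mem h1 k1, TZ_mul h2 k2, fun b => by rw [act_mul H, k3, h3]⟩
  inv_mem' := by
    rintro a ⟨h1, h2, h3⟩
    exact ⟨Γ.inv_mem h1, TZ_inv h2, fun b => act_inj H a (by rw [← act_mul H, mul_inv_cancel, act_one, h3])⟩

theorem pow_z {z : PQ K} (hz : pr z = 0) (m : ℕ) : pr (z ^ m) = 0 ∧ ((z ^ m : PQ K) : PG K).a = m * (z : PG K).a := by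
  induction m with
  | zero => exact ⟨rfl, by simp only [_root_.pow_zero, _root_.OneMemClass.coe_one, _root_.Cfsg.Agent.H776.P4.PG.one_a, _root_.Nat.cast_zero, _root_.MulZeroClass.zero_mul]⟩
  | succ m ih =>
    obtain ⟨h1, h2⟩ := ih
    rw [pow_succ, pr_mul, h1, hz, add_zero]
    refine ⟨rfl, ?_⟩
    have h3 : (((z ^ m : PQ K) : PG K)).r = 0 := congrArg Prod.fst h1
    rw [Subgroup.coe_mul, PG.mul_a, h2, h3]
    push_cast
    simp only [_root_.MulZeroClass.zero_mul, _root_.add_zero, _root_.star_zero, _root_.MulZeroClass.mul_zero, _root_.Cfsg.Agent.H763.P4.q_c]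
    ring

theorem isP (h : HypK K p n) (H : FH K) (Γ : Subgroup (MulAut (PQ K))) : IsPGroup p (HH H Γ) := by
  have := h.char
  rintro ⟨γ, hΓ, hZ, hC⟩
  refine ⟨2, Subtype.ext ?_⟩
  rw [Subgroup.coe_pow, Subgroup.coe_one]
  simp only
  -- `γ` moves `v` by an element of `C`
  have h1 : ∀ v, (act γ v - v).1 = 0 := by
    intro v
    by_contra hne
    have h2 : ∀ b : K, ff (act γ v - v) (0, b) = 0 := by
      intro b
      have h3 : act γ v - v = act γ v + (-1 : K) • v := by rw [neg_one_smul, sub_eq_add_neg]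
      have h4 := act_ff γ hZ v (0, b)
      rw [hC b] at h4
      rw [h3, ff_add, ff_smul (by simp), h4]
      ring
    have h3 := h2 (star ((act γ v - v).1)⁻¹)
    simp only [ff, star_star, star_zero, zero_mul, add_zero, sub_zero, star_inv₀] at h3
    rw [mul_inv_cancel₀ hne, mul_inv_cancel₀ (star_ne_zero.2 hne)] at h3
    exact H.two (by rw [← h3]; norm_num)
  have h2 : ∀ w : K × K, w.1 = 0 → act γ w = w := by
    intro w hw
    have h3 : w = (0, w.2) := by
      ext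
      · exact hw
      · rfl
    rw [h3, hC]
  have h3 : ∀ (m : ℕ) v, act (γ ^ m) v = v + m • (act γ v - v) := by
    intro m v
    induction m with
    | zero => rw [pow_zero, act_one, zero_smul, add_zero]
    | succ m ih =>
      rw [pow_succ', act_mul H, ih, act_add H, h2 (m • (act γ v - v)) (by rw [Prod.smul_fst, h1, smul_zero]), succ_nsmul]
      abel
  have h4 : ∀ v, act (γ ^ p) v = v := by
    intro v
    rw [h3]
    have h5 : p • (act γ v - v) = 0 := by
      ext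
      · rw [Prod.smul_fst, nsmul_eq_mul, CharP.cast_eq_zero]; simp
      · rw [Prod.smul_snd, nsmul_eq_mul, CharP.cast_eq_zero]; simp
    rw [h5, add_zero]
  set δ := γ ^ p with hδ
  have hδZ : TZ δ := TZ_pow hZ p
  have h5 : δ ^ p = 1 := by
    ext1 e
    have hz : pr (δ e * e⁻¹) = 0 := by
      rw [pr_mul, pr_inv, ← act_pr H, h4, add_neg_cancel]
    have hze := hδZ _ hz
    have h6 : ∀ m : ℕ, (δ ^ m) e = (δ e * e⁻¹) ^ m * e := by
      intro m
      induction m with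
      | zero => simp only [_root_.pow_zero, _root_.MulAut.one_apply, _root_.one_mul]
      | succ m ih =>
        rw [pow_succ', MulAut.mul_apply, ih, map_mul, map_pow, hze, pow_succ]
        group
    rw [h6]
    have h7 := pow_z hz p
    have h8 : (δ e * e⁻¹) ^ p = 1 := by
      have h9 := zz_of _ h7.1
      rw [h9]
      have h10 : (((δ e * e⁻¹) ^ p : PQ K) : PG K).a = 0 := by
        rw [h7.2, CharP.cast_eq_zero, zero_mul]
      apply Subtype.ext
      ext
      · rfl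
      · exact h10
      · rfl
      · rfl
    rw [h8, one_mul]; rfl
  rw [pow_two, pow_mul, ← hδ, h5]

variable {Γ : Subgroup (MulAut (PQ K))} {D : Subgroup (MulAut (PG K))}

theorem HH_eq (h : HypK K p n) (H : FH K) (hP : ParP p (PQ K) Γ D) : HH H Γ = autInducedBy ⊤ (PQ K) := by
  have := finAut H
  have hle : autInducedBy ⊤ (PQ K) ≤ HH H Γ := by
    intro γ hγ
    obtain ⟨h1, c, hc, h2, _⟩ := A_form hγ
    refine ⟨hP.indu hγ, h1, fun b => ?_⟩
    rw [h2]; simp
  refine (Subgroup.eq_of_le_of_card_ge hle ?_).symm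
  obtain ⟨g, _, hg⟩ := hP.syl (HH H Γ) (fun x hx => hx.1) (isP h H Γ)
  exact Nat.card_le_card_of_injective (fun x : HH H Γ => (⟨g * x * g⁻¹, hg x x.2⟩ : autInducedBy ⊤ (PQ K))) (by
    intro x y hxy
    have h1 : g * (x : MulAut (PQ K)) * g⁻¹ = g * (y : MulAut (PQ K)) * g⁻¹ := congrArg Subtype.val hxy
    exact Subtype.ext (mul_left_cancel (mul_right_cancel h1)))

theorem memA (h : HypK K p n) (H : FH K) (hP : ParP p (PQ K) Γ D) {γ : MulAut (PQ K)} (hγ : γ ∈ Γ) {c : K}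
    (hc : star c = c) (h1 : ∀ v, act γ v = v + c • ((0 : K), v.1)) : γ ∈ autInducedBy ⊤ (PQ K) := by
  obtain ⟨ρ, hρ, hρ'⟩ := rxA hc
  have h2 : ∀ v, act (ρ⁻¹ * γ) v = v := by
    intro v
    apply act_inj H ρ
    rw [← act_mul H, mul_inv_cancel_left, h1, hρ']
  have h3 : ρ⁻¹ * γ ∈ HH H Γ := ⟨Γ.mul_mem (Γ.inv_mem (hP.indu hρ)) hγ, TZ_of_act H _ h2, fun b => h2 _⟩
  rw [HH_eq h H hP] at h3
  have h4 := Subgroup.mul_mem _ hρ h3
  rwa [mul_inv_cancel_left] at h4

end Cfsg.Agent.H859.P4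
end

-- part: H859/P4/QOne
section
/-!
# S5210, Q1 for odd `p` (helper859)
-/

set_option autoImplicit false

namespace Cfsg.Agent.H859.P4

open Cfsg Cfsg.FusionSystem
open Cfsg.Agent.H756.PU (HypK NormAut)
open Cfsg.Agent.H776.P4

universe u

variable {K : Type u} [Field K] [StarRing K] {p n : ℕ} {Γ : Subgroup (MulAut (PQ K))} {D : Subgroup (MulAut (PG K))}

/-- (Frattini) `Γ = Γ₀ N_Γ(A)` -/
theorem frattini (h : HypK K p n) (H : FH K) (hP : ParP p (PQ K) Γ D) {γ : MulAut (PQ K)} (hγ : γ ∈ Γ) :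
    ∃ l ∈ G0 Γ, NormAut (⊤ : Subgroup (PG K)) (l⁻¹ * γ) := by
  have := finAut H
  have : Fact p.Prime := ⟨h.pp⟩
  set A := autInducedBy ⊤ (PQ K) with hA
  have hAG : A ≤ G0 Γ := fun x hx => ⟨hP.indu hx, (A_form hx).1⟩
  have hAp : IsPGroup p A := by
    rw [hA, ← HH_eq h H hP]; exact isP h H Γ
  have hAp0 : IsPGroup p (A.subgroupOf (G0 Γ)) := hAp.comap_of_injective (G0 Γ).subtype (Subgroup.subtype_injective _)
  obtain ⟨S₁, hS₁⟩ := hAp0.exists_le_sylow
  -- `S₁ = A`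
  have hS1A : ∀ x : G0 Γ, x ∈ S₁ → (x : MulAut (PQ K)) ∈ A := by
    have hp : IsPGroup p ((S₁ : Subgroup (G0 Γ)).map (G0 Γ).subtype) := S₁.2.map _
    obtain ⟨g, _, hg⟩ := hP.syl _ (by
      rintro _ ⟨x, _, rfl⟩
      exact x.2.1) hp
    have hle : A ≤ (S₁ : Subgroup (G0 Γ)).map (G0 Γ).subtype := fun x hx =>
      ⟨⟨x, hAG hx⟩, hS₁ (Subgroup.mem_subgroupOf.2 hx), rfl⟩
    have heq : A = (S₁ : Subgroup (G0 Γ)).map (G0 Γ).subtype := by
      refine Subgroup.eq_of_le_of_card_ge hle ?_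
      exact Nat.card_le_card_of_injective (fun x : (S₁ : Subgroup (G0 Γ)).map (G0 Γ).subtype => (⟨g * x * g⁻¹, hg x x.2⟩ : A)) (by
        intro x y hxy
        have h1 : g * (x : MulAut (PQ K)) * g⁻¹ = g * (y : MulAut (PQ K)) * g⁻¹ := congrArg Subtype.val hxy
        exact Subtype.ext (mul_left_cancel (mul_right_cancel h1)))
    intro x hx
    rw [heq]
    exact ⟨x, hx, rfl⟩
  -- the conjugate
  have hBp : IsPGroup p ((A.map (MulAut.conj γ).toMonoidHom).subgroupOf (G0 Γ)) :=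
    (hAp.map _).comap_of_injective (G0 Γ).subtype (Subgroup.subtype_injective _)
  obtain ⟨S₂, hS₂⟩ := hBp.exists_le_sylow
  obtain ⟨l, hl⟩ := MulAction.exists_smul_eq (G0 Γ) S₁ S₂
  refine ⟨l, l.2, fun x hx => ?_⟩
  have h1 : γ * x * γ⁻¹ ∈ G0 Γ := ⟨Γ.mul_mem (Γ.mul_mem hγ (hP.indu hx)) (Γ.inv_mem hγ), TZ_cj H (A_form hx).1⟩
  have h2 : (⟨γ * x * γ⁻¹, h1⟩ : G0 Γ) ∈ S₂ := hS₂ (Subgroup.mem_subgroupOf.2 ⟨x, hx, rfl⟩)
  rw [← hl] at h2
  have h3 : l⁻¹ * (⟨γ * x * γ⁻¹, h1⟩ : G0 Γ) * (l⁻¹)⁻¹ ∈ S₁ := by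
    have h4 : (⟨γ * x * γ⁻¹, h1⟩ : G0 Γ) ∈ (l • S₁ : Sylow p (G0 Γ)).1 := h2
    rw [Sylow.smul_def, Sylow.pointwise_smul_def] at h4
    obtain ⟨y, hy, hy'⟩ := h4
    have h5 : l * y * l⁻¹ = (⟨γ * x * γ⁻¹, h1⟩ : G0 Γ) := hy'
    rw [← h5]
    have h6 : l⁻¹ * (l * y * l⁻¹) * (l⁻¹)⁻¹ = y := by group
    rw [h6]
    exact hy
  have h4 := hS1A _ h3
  have h5 : (l : MulAut (PQ K))⁻¹ * γ * x * ((l : MulAut (PQ K))⁻¹ * γ)⁻¹ =
      ((l⁻¹ * (⟨γ * x * γ⁻¹, h1⟩ : G0 Γ) * (l⁻¹)⁻¹ : G0 Γ) : MulAut (PQ K)) := by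
    push_cast
    group
  rw [h5]
  exact h4

theorem norm_mul {γ δ : MulAut (PQ K)} (h : NormAut (⊤ : Subgroup (PG K)) γ) (h' : NormAut (⊤ : Subgroup (PG K)) δ) :
    NormAut (⊤ : Subgroup (PG K)) (γ * δ) := by
  intro x hx
  have h1 : γ * δ * x * (γ * δ)⁻¹ = γ * (δ * x * δ⁻¹) * γ⁻¹ := by group
  rw [h1]
  exact h _ (h' x hx)

/-- an element of `Γ` leaving `Y` invariant normalizes `A` -/
theorem norm_of (h : HypK K p n) (H : FH K) (hP : ParP p (PQ K) Γ D) {δ : MulAut (PQ K)} (hδ : δ ∈ Γ)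
    (hC : ∀ b : K, (act δ (0, b)).1 = 0) : NormAut (⊤ : Subgroup (PG K)) δ := by
  have := H.fin
  intro x hx
  have hsurj : ∀ b : K, ∃ b' : K, act δ (0, b') = (0, b) := by
    have hinj : Function.Injective (fun b : K => (act δ (0, b)).2) := by
      intro b b' hbb
      have h1 : act δ (0, b) = act δ (0, b') := by
        ext
        · rw [hC, hC]
        · exact hbb
      exact congrArg Prod.snd (act_inj H δ h1)
    intro b
    obtain ⟨b', hb'⟩ := (Finite.injective_iff_surjective.1 hinj) b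
    refine ⟨b', ?_⟩
    ext
    · exact hC b'
    · exact hb'
  obtain ⟨hxZ, c, hc, hxa, _⟩ := A_form hx
  rw [← HH_eq h H hP]
  refine ⟨Γ.mul_mem (Γ.mul_mem hδ (hP.indu hx)) (Γ.inv_mem hδ), TZ_cj H hxZ, fun b => ?_⟩
  obtain ⟨b', hb'⟩ := hsurj b
  rw [← hb', ← act_mul H, inv_mul_cancel_right, act_mul H, hxa]
  congr 1
  ext <;> simp

/-- `L` -/
def LL (H : FH K) (Γ : Subgroup (MulAut (PQ K))) : Subgroup (Equiv.Perm (K × K)) := (G0 Γ).map (pi H)

theorem cl (h : HypK K p n) (hG : StGrp.{u}) (H : FH K) (hP : ParP p (PQ K) Γ D)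
    (hT : HasTorP D (fun t => t ^ 2) (fun t => (t * star t)⁻¹)) : CL (LL H Γ) where
  add := by
    rintro _ ⟨γ, hγ, rfl⟩ v w
    exact act_add H γ v w
  sp := by
    rintro _ ⟨γ, hγ, rfl⟩ v w
    exact act_ff γ hγ.2 v w
  rx := by
    intro c hc
    obtain ⟨ρ, hρ, hρ'⟩ := rxA hc
    exact ⟨pi H ρ, ⟨ρ, ⟨hP.indu hρ, (A_form hρ).1⟩, rfl⟩, hρ'⟩
  u1 := by
    rintro _ ⟨γ, hγ, rfl⟩ hfix
    have h1 : γ ∈ HH H Γ := ⟨hγ.1, hγ.2, hfix⟩
    rw [HH_eq h H hP] at h1
    obtain ⟨_, c, hc, h2, _⟩ := A_form h1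
    exact ⟨c, hc, h2⟩
  tor := by
    rintro t ht _ ⟨γ, hγ, rfl⟩
    have ht' : star t ≠ 0 := star_ne_zero.2 ht
    obtain ⟨α, hα⟩ := (hG h).2.2.1 (t ^ 2) ((t * star t)⁻¹) (RingEquiv.refl K) (pow_ne_zero 2 ht)
      (inv_ne_zero (mul_ne_zero ht ht')) (by rw [star_inv₀, star_mul', star_star, mul_comm])
    have hαD := hT t ht α hα
    -- the restriction
    have hαc : ∀ g : PG K, (α g).c = (t * star t)⁻¹ * g.c := fun g => hα.c g
    have hmap : (PQ K).map α.toMonoidHom = PQ K := by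
      ext g
      constructor
      · rintro ⟨e, he, rfl⟩
        have he' : e.c = 0 := he
        show (α e).c = 0
        rw [hαc, he', mul_zero]
      · intro hg
        have hg' : g.c = 0 := hg
        refine ⟨α.symm g, ?_, α.apply_symm_apply g⟩
        show (α.symm g).c = 0
        have h1 := hαc (α.symm g)
        rw [α.apply_symm_apply, hg'] at h1
        exact (mul_eq_zero.1 h1.symm).resolve_left (inv_ne_zero (mul_ne_zero ht ht'))
    let τ : MulAut (PQ K) := (α.subgroupMap (PQ K)).trans (MulEquiv.subgroupCongr hmap)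
    have hτ : IsRP α τ := fun e => rfl
    have hτΓ := hP.D_res α hαD τ hτ
    have hτa : ∀ v : K × K, act τ v = (t * t * v.1, t * t * (t * star t)⁻¹ * v.2) := by
      intro v
      have h1 : act τ v = ((α (sec v)).r, (α (sec v)).b) := rfl
      rw [h1, hα.r, hα.b]
      simp only [sec, pow_two, _root_.RingEquiv.refl_apply, _root_.mul_inv_rev]
    refine ⟨pi H (τ * γ * τ⁻¹), ⟨τ * γ * τ⁻¹, ⟨Γ.mul_mem (Γ.mul_mem hτΓ hγ.1) (Γ.inv_mem hτΓ), TZ_cj H hγ.2⟩, rfl⟩, fun v => ?_⟩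
    rw [← hτa v, ← hτa (pi H γ v), pi_apply, pi_apply, ← act_mul H, inv_mul_cancel_right, act_mul H]

/-- the main result in coordinates: `Γ₀` acts on `Q/Z` as a group whose root subgroups are the standard ones -/
theorem coreG (h : HypK K p n) (hG : StGrp.{u}) (H : FH K) (hP : ParP p (PQ K) Γ D)
    (hT : HasTorP D (fun t => t ^ 2) (fun t => (t * star t)⁻¹)) :
    (∀ c : K, star c = c → ∃ g ∈ Γ, TZ g ∧ ∀ v : K × K, act g v = (v.1 + c * v.2, v.2)) ∧
    ∀ l ∈ Γ, TZ l → (∀ b : K, (act l (0, b)).1 = 0) ∨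
      ∃ α : K, star α = α ∧ ∀ b : K, (act l (0, b)).2 = α * (act l (0, b)).1 := by
  have hL := cl h hG H hP hT
  obtain ⟨l, hl, b, hb⟩ : ∃ l ∈ LL H Γ, ∃ b : K, (l (0, b)).1 ≠ 0 := by
    by_contra hcon
    push Not at hcon
    apply hP.nn
    intro γ hγ
    obtain ⟨l, hl, hn⟩ := frattini h H hP hγ
    have h1 := norm_of h H hP hl.1 (hcon _ ⟨l, hl, rfl⟩)
    have h2 := norm_mul h1 hn
    rwa [mul_inv_cancel_left] at h2
  obtain ⟨h1, h2⟩ := core H hL hl hb
  refine ⟨fun c hc => ?_, fun l' hl' hZ => h2 (pi H l') ⟨l', ⟨hl', hZ⟩, rfl⟩⟩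
  obtain ⟨_, ⟨g, hg, rfl⟩, hg'⟩ := h1 c hc
  exact ⟨g, hg.1, hg.2, hg'⟩

/-- the opposite root group -/
def RmG (H : FH K) (Γ : Subgroup (MulAut (PQ K))) : Subgroup (MulAut (PQ K)) where
  carrier := {γ | γ ∈ Γ ∧ ∃ c : K, star c = c ∧ ∀ v : K × K, act γ v = (v.1 + c * v.2, v.2)}
  one_mem' := ⟨Γ.one_mem, 0, star_zero _, fun v => by rw [act_one]; simp⟩
  mul_mem' := by
    rintro a b ⟨h1, c, hc, h2⟩ ⟨k1, d, hd, k2⟩
    refine ⟨Γ.mul_mem h1 k1, c + d, by rw [star_add, hc, hd], fun v => ?_⟩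
    rw [act_mul H, k2, h2]
    ext
    · simp only; ring
    · rfl
  inv_mem' := by
    rintro a ⟨h1, c, hc, h2⟩
    refine ⟨Γ.inv_mem h1, -c, by rw [star_neg, hc], fun v => act_inj H a ?_⟩
    rw [← act_mul H, mul_inv_cancel, act_one, h2]
    ext
    · simp
    · rfl

/-- (Q1) for odd `p` -/
theorem stQ1_odd (hG : StGrp.{u}) : ∀ {K : Type u} [Field K] [StarRing K] {p n : ℕ}, HypK K p n → p ≠ 2 → 3 < p ^ n →
    ∀ (Γ : Subgroup (MulAut (PQ K))) (D : Subgroup (MulAut (PG K))), ParP p (PQ K) Γ D →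
    HasTorP D (fun t => t ^ 2) (fun t => (t * star t)⁻¹) →
    ∃ Rm : Subgroup (MulAut (PQ K)), Rm ≤ Γ ∧ Inn (PQ K) ≤ Rm ∧
      (∀ d ∈ D, ∀ δ : MulAut (PQ K), IsRP d δ → ∀ y ∈ Rm, δ * y * δ⁻¹ ∈ Rm) ∧
      (∀ x ∈ autInducedBy ⊤ (PQ K), x ∉ Inn (PQ K) → ∃ y ∈ Rm,
        (∀ z, z ∈ Rm ↔ (x * y * x) * z * (x * y * x)⁻¹ ∈ autInducedBy ⊤ (PQ K)) ∧
        (∀ z, z ∈ autInducedBy ⊤ (PQ K) ↔ (x * y * x) * z * (x * y * x)⁻¹ ∈ Rm)) ∧
      (∀ γ ∈ Γ, ∃ g ∈ autInducedBy ⊤ (PQ K) ⊔ Rm, NormAut (⊤ : Subgroup (PG K)) (g⁻¹ * γ)) ∧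
      (∀ v : PQ K, (v : PG K) ∈ PY K → (∀ y ∈ Rm, ((y v : PQ K) : PG K) * (v : PG K)⁻¹ ∈ PZ K) → (v : PG K) ∈ PZ K) := by
  intro K _ _ p n h hp2 hq Γ D hP hT
  have H : FH K := fh h hp2 hq
  obtain ⟨c1, c2⟩ := coreG h hG H hP hT
  -- the swap
  have swap : ∀ x ∈ autInducedBy ⊤ (PQ K), ∀ c : K, star c = c → c ≠ 0 → (∀ v, act x v = v + c • ((0 : K), v.1)) →
      ∃ y ∈ RmG H Γ, (∀ v : K × K, act (x * y * x) v = (-c⁻¹ * v.2, c * v.1)) := by
    intro x hx c hc hc0 hxa
    obtain ⟨y, hy, _, hya⟩ := c1 (-c⁻¹) (by rw [star_neg, star_inv₀, hc])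
    refine ⟨y, ⟨hy, -c⁻¹, by rw [star_neg, star_inv₀, hc], hya⟩, fun v => ?_⟩
    rw [act_mul H, act_mul H, hxa v, hya, hxa]
    ext
    · simp only [Prod.fst_add, Prod.smul_fst, Prod.snd_add, Prod.smul_snd, smul_eq_mul]
      field_simp
      ring
    · simp only [Prod.fst_add, Prod.smul_fst, Prod.snd_add, Prod.smul_snd, smul_eq_mul]
      field_simp
      ring
  refine ⟨RmG H Γ, fun x hx => hx.1, ?_, ?_, ?_, ?_, ?_⟩
  · intro γ hγ
    exact ⟨hP.indu (Inn_le hγ), 0, star_zero _, fun v => by rw [act_Inn hγ]; simp⟩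
  · intro d hd δ hδ y hy
    obtain ⟨hyΓ, c, hc, hya⟩ := hy
    have hδΓ := hP.D_res d hd δ hδ
    obtain ⟨s, l, τ, hd'⟩ := (hG h).2.2.2.1 d (hP.D_le hd)
    have hs0 := hd'.ns
    have hl0 := hd'.nl
    have hδa : ∀ v : K × K, act δ v = (s * τ v.1, s * l * τ v.2) := by
      intro v
      have h1 : act δ v = ((((δ (sec v) : PQ K) : PG K)).r, (((δ (sec v) : PQ K) : PG K)).b) := rfl
      rw [h1, hδ, hd'.r, hd'.b]
      rfl
    refine ⟨Γ.mul_mem (Γ.mul_mem hδΓ hyΓ) (Γ.inv_mem hδΓ), l⁻¹ * τ c, ?_, fun v => ?_⟩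
    · rw [star_mul', star_inv₀, hd'.sl, ← hd'.tst, hc]
    · obtain ⟨w, rfl⟩ := (pi H δ).surjective v
      rw [pi_apply, ← act_mul H, inv_mul_cancel_right, act_mul H, hya, hδa, hδa]
      ext
      · simp only [map_add, map_mul]
        field_simp
      · rfl
  · intro x hx hxI
    obtain ⟨hxZ, c, hc, hxa, hxI'⟩ := A_form hx
    have hc0 : c ≠ 0 := fun h0 => hxI (hxI' h0)
    obtain ⟨y, hy, hm⟩ := swap x hx c hc hc0 hxa
    refine ⟨y, hy, fun z => ?_, fun z => ?_⟩
    · constructor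
      · rintro ⟨hz, d, hd, hza⟩
        have hmΓ : x * y * x ∈ Γ := Γ.mul_mem (Γ.mul_mem (hP.indu hx) hy.1) (hP.indu hx)
        refine memA h H hP (Γ.mul_mem (Γ.mul_mem hmΓ hz) (Γ.inv_mem hmΓ)) (c := -(c * c * d))
          (by rw [star_neg, star_mul', star_mul', hc, hd]) (fun v => ?_)
        obtain ⟨w, rfl⟩ := (pi H (x * y * x)).surjective v
        rw [pi_apply, ← act_mul H, inv_mul_cancel_right, act_mul H, hza, hm, hm]
        ext
        · simp only [_root_.neg_mul, _root_.neg_smul, _root_.Prod.smul_mk, _root_.smul_eq_mul, _root_.MulZeroClass.mul_zero, _root_.mul_neg, _root_.Prod.neg_mk, _root_.neg_zero, _root_.neg_neg, _root_.Prod.mk_add_mk, _root_.add_zero]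
        · simp only [Prod.snd_add, Prod.smul_snd, smul_eq_mul]
          field_simp
      · intro hz
        have hmΓ : x * y * x ∈ Γ := Γ.mul_mem (Γ.mul_mem (hP.indu hx) hy.1) (hP.indu hx)
        obtain ⟨_, d, hd, hza, _⟩ := A_form hz
        refine ⟨?_, -(c⁻¹ * c⁻¹ * d), by rw [star_neg, star_mul', star_mul', star_inv₀, hc, hd], fun v => ?_⟩
        · have h1 := Γ.mul_mem (Γ.mul_mem (Γ.inv_mem hmΓ) (hP.indu hz)) hmΓ
          have h2 : (x * y * x)⁻¹ * (x * y * x * z * (x * y * x)⁻¹) * (x * y * x) = z := by group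
          rwa [h2] at h1
        · apply act_inj H (x * y * x)
          rw [← act_mul H]
          have h2 : (x * y * x) * z = (x * y * x * z * (x * y * x)⁻¹) * (x * y * x) := by group
          rw [h2, act_mul H, hza, hm, hm]
          ext
          · simp
          · simp only [Prod.snd_add, Prod.smul_snd, smul_eq_mul]
            field_simp
    · constructor
      · intro hz
        obtain ⟨_, d, hd, hza, _⟩ := A_form hz
        have hmΓ : x * y * x ∈ Γ := Γ.mul_mem (Γ.mul_mem (hP.indu hx) hy.1) (hP.indu hx)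
        refine ⟨Γ.mul_mem (Γ.mul_mem hmΓ (hP.indu hz)) (Γ.inv_mem hmΓ), -(c⁻¹ * c⁻¹ * d),
          by rw [star_neg, star_mul', star_mul', star_inv₀, hc, hd], fun v => ?_⟩
        obtain ⟨w, rfl⟩ := (pi H (x * y * x)).surjective v
        rw [pi_apply, ← act_mul H, inv_mul_cancel_right, act_mul H, hza, hm, hm]
        ext
        · simp only [Prod.snd_add, Prod.smul_snd, smul_eq_mul]
          field_simp
          simp only [_root_.neg_add_rev]
          ring
        · simp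
      · rintro ⟨hz, d, hd, hza⟩
        have hmΓ : x * y * x ∈ Γ := Γ.mul_mem (Γ.mul_mem (hP.indu hx) hy.1) (hP.indu hx)
        refine memA h H hP (c := -(c * c * d)) ?_ (by rw [star_neg, star_mul', star_mul', hc, hd]) (fun v => ?_)
        · have h1 := Γ.mul_mem (Γ.mul_mem (Γ.inv_mem hmΓ) hz) hmΓ
          have h2 : (x * y * x)⁻¹ * (x * y * x * z * (x * y * x)⁻¹) * (x * y * x) = z := by group
          rwa [h2] at h1
        · apply act_inj H (x * y * x)
          rw [← act_mul H]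
          have h2 : (x * y * x) * z = (x * y * x * z * (x * y * x)⁻¹) * (x * y * x) := by group
          rw [h2, act_mul H, hza, hm, hm]
          ext
          · simp only [Prod.snd_add, Prod.smul_snd, smul_eq_mul]
            field_simp
            ring
          · simp
  · intro γ hγ
    obtain ⟨l, hl, hn⟩ := frattini h H hP hγ
    rcases c2 l hl.1 hl.2 with h1 | ⟨α, hα, h1⟩
    · refine ⟨1, Subgroup.one_mem _, ?_⟩
      have h2 := norm_mul (norm_of h H hP hl.1 h1) hn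
      rw [mul_inv_cancel_left] at h2
      rwa [inv_one, one_mul]
    · obtain ⟨x, hx, hxa⟩ := rxA (star_one K)
      obtain ⟨y, hy, hm⟩ := swap x hx 1 (star_one K) one_ne_zero hxa
      obtain ⟨a₀, ha₀, ha₀a⟩ := rxA hα
      have hxg : x * y * x ∈ autInducedBy ⊤ (PQ K) ⊔ RmG H Γ :=
        Subgroup.mul_mem _ (Subgroup.mul_mem _ (Subgroup.mem_sup_left hx) (Subgroup.mem_sup_right hy)) (Subgroup.mem_sup_left hx)
      have hmΓ : x * y * x ∈ Γ := Γ.mul_mem (Γ.mul_mem (hP.indu hx) hy.1) (hP.indu hx)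
      have hgΓ : a₀ * (x * y * x) ∈ Γ := Γ.mul_mem (hP.indu ha₀) hmΓ
      refine ⟨a₀ * (x * y * x), Subgroup.mul_mem _ (Subgroup.mem_sup_left ha₀) hxg, ?_⟩
      have h2 : NormAut (⊤ : Subgroup (PG K)) ((a₀ * (x * y * x))⁻¹ * l) := by
        apply norm_of h H hP (Γ.mul_mem (Γ.inv_mem hgΓ) hl.1)
        intro b
        have h3 : act l (0, b) = act (a₀ * (x * y * x)) (0, -(act l (0, b)).1) := by
          rw [act_mul H, hm, ha₀a]
          ext
          · simp
          · rw [h1 b]; simp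
        rw [act_mul H, h3, ← act_mul H, inv_mul_cancel, act_one]
      have h3 := norm_mul h2 hn
      have h4 : (a₀ * (x * y * x))⁻¹ * l * (l⁻¹ * γ) = (a₀ * (x * y * x))⁻¹ * γ := by group
      rwa [h4] at h3
  · intro v hv hfix
    obtain ⟨y, hy, _, hya⟩ := c1 1 (star_one K)
    have h1 := hfix y ⟨hy, 1, star_one K, hya⟩
    have hvr : (v : PG K).r = 0 := hv.1
    have h2 : pr (y v) = act y (pr v) := (act_pr H y v).symm
    rw [hya] at h2
    have h3 : ((y v : PQ K) : PG K).r = (v : PG K).r + 1 * (v : PG K).b := congrArg Prod.fst h2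
    have h4 : (((y v : PQ K) : PG K) * (v : PG K)⁻¹).r = 0 := h1.1
    rw [PG.mul_r, PG.inv_r, h3, hvr] at h4
    refine ⟨hvr, ?_, v.2⟩
    linear_combination h4

end Cfsg.Agent.H859.P4
end

private theorem dce_9a9837495166 : _root_.True := by
  try have : _root_.True := by simp only [_root_.Cfsg.Agent.H763.P4.mkQ.eq_1]
  try have : _root_.True := by simp only [_root_.Cfsg.Agent.H763.P4.s0.eq_1]
  try have : _root_.True := by simp only [_root_.Cfsg.Agent.H763.P4.s0.congr_simp]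
  try have : _root_.True := by simp only [_root_.Cfsg.Agent.H859.P4.ff.eq_1]
  try have : _root_.True := by simp only [_root_.Cfsg.Agent.H859.P4.act.eq_1]
  try have : _root_.True := by simp only [_root_.Cfsg.Agent.H859.P4.sec.eq_1]
  try have : _root_.True := by simp only [_root_.Cfsg.Agent.H859.P4.LL.congr_simp]
  try have : _root_.True := by simp only [_root_.Cfsg.Agent.H859.P4.pr.eq_1]
  try have : _root_.True := by simp only [_root_.Cfsg.Agent.H859.P4.zz.eq_1]
  try have : _root_.True := by simp only [_root_.Cfsg.autInducedBy.eq_1]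
  try have : _root_.True := by simp only [_root_.Cfsg.Agent.H859.P4.MM.eq_1]
  try have : _root_.True := by simp only [_root_.Cfsg.Agent.H776.P4.PG.mk.congr_simp]
  exact _root_.True.intro
end

-- part: H764/U4/Cent
section
prune_inst 0x10004510440002000000001402000000280000000003000090000102014ed2224500260044002c02080208000000002002100000404000000e0004000001002080a8400a3300010426000f803003180c00000000000000000000000000041000000000000
set_option linter.all false
open scoped Cfsg.Agent.FastGrp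

/-!
# The centralizer in `Co0` of the Sylow 3-subgroup of `Co2` (S5210, q = 3; helper764)

`e 1 = x(1)`, `e 2 = y(1)`, `e 4 = y(i)`, `e 3 * e 6 = z(1)`, `e 7 = u(1)`, `e 9 = u(i)` generate a Sylow 3-subgroup of `Co2`.
If `c` centralizes `V = ⟨e 1, e 2, e 4, e 3 * e 6⟩` and normalizes the cosets `e 7 V`, `e 9 V`, then `c ^ 3 = ± 1`.
-/

set_option autoImplicit false
set_option maxRecDepth 20000
set_option linter.style.longLine false

namespace Cfsg.Agent.H764.U4

open Cfsg Cfsg.Agent.LThreeCo1.Ev Cfsg.Agent.SporadicStructure.Co0Matrix Cfsg.Agent.CoOneType.CoEval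
open Cfsg.Agent.SporadicA Cfsg.Agent.H956.Co1P Subgroup

/-! ### Lattice vectors given by lists -/

/-- the vector `v` is given by the list `l` -/
structure Is (v : leechLattice) (l : List ℤ) : Prop where
  len : l.length = 24
  eq : (v : GolayPt → ℤ) = _root_.Cfsg.Agent.SporadicStructure.Co0Matrix.vec l

/-- sum of lists -/
def addL (l m : List ℤ) : List ℤ := List.zipWith (· + ·) l m

/-- multiple of a list -/
def smL (k : ℤ) (l : List ℤ) : List ℤ := l.map (k * ·)

theorem length_addL {l m : List ℤ} (hl : l.length = 24) (hm : m.length = 24) : (addL l m).length = 24 := by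
  simp [addL, hl, hm]

theorem length_smL (k : ℤ) (l : List ℤ) : (smL k l).length = l.length := by simp [smL]

theorem vec_addL {l m : List ℤ} (hl : l.length = 24) (hm : m.length = 24) : _root_.Cfsg.Agent.SporadicStructure.Co0Matrix.vec (addL l m) = _root_.Cfsg.Agent.SporadicStructure.Co0Matrix.vec l + _root_.Cfsg.Agent.SporadicStructure.Co0Matrix.vec m := by
  funext p
  have h := GolayBase.idx_lt p
  rw [Pi.add_apply, vec_apply, vec_apply, vec_apply, List.getD_eq_getElem _ _ (by rw [length_addL hl hm]; exact h),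
    List.getD_eq_getElem _ _ (by rw [hl]; exact h), List.getD_eq_getElem _ _ (by rw [hm]; exact h)]
  simp [addL]

theorem vec_smL {l : List ℤ} (hl : l.length = 24) (k : ℤ) : _root_.Cfsg.Agent.SporadicStructure.Co0Matrix.vec (smL k l) = k • _root_.Cfsg.Agent.SporadicStructure.Co0Matrix.vec l := by
  funext p
  have h := GolayBase.idx_lt p
  rw [Pi.smul_apply, smul_eq_mul, vec_apply, vec_apply, List.getD_eq_getElem _ _ (by rw [length_smL, hl]; exact h),
    List.getD_eq_getElem _ _ (by rw [hl]; exact h)]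
  simp [smL]

theorem Is.add {v w : leechLattice} {l m : List ℤ} (hv : Is v l) (hw : Is w m) : Is (v + w) (addL l m) :=
  ⟨length_addL hv.len hw.len, by rw [vec_addL hv.len hw.len, ← hv.eq, ← hw.eq]; rfl⟩

theorem Is.smul {v : leechLattice} {l : List ℤ} (hv : Is v l) (k : ℤ) : Is (k • v) (smL k l) :=
  ⟨by rw [length_smL, hv.len], by rw [vec_smL hv.len, ← hv.eq]; rfl⟩

/-- evaluation of words -/
noncomputable def ev (w : List ℕ) : Co0 := (w.map e).prod

theorem ev_append (l l' : List ℕ) : ev (l ++ l') = ev l * ev l' := by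
  unfold ev; rw [List.map_append, List.prod_append]

theorem ev_eq {l l' : List ℕ} (h : eqB M l l' = true) : ev l = ev l' := eq_of_eqB rep h

theorem length_foldZ {w : List ℕ} {l : List ℤ} (hl : l.length = 24) : (foldZ M w l).length = 24 := by
  cases w with
  | nil => exact hl
  | cons i w =>
    show (apZ (M i) _).length = 24
    rw [apZ_eq]
    exact length_ap (rep i).len _

theorem Is.app {v : leechLattice} {l : List ℤ} (hv : Is v l) (w : List ℕ) : Is ((ev w).1 v) (foldZ M w l) := by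
  refine ⟨length_foldZ hv.len, ?_⟩
  rw [foldZ_eq]
  exact (fold_spec rep w hv.len.le hv.eq).2

theorem Is.unique {v w : leechLattice} {l : List ℤ} (hv : Is v l) (hw : Is w l) : v = w :=
  Subtype.ext (hv.eq.trans hw.eq.symm)

/-- inner product -/
def B (v w : leechLattice) : ℤ := dotInt (v : GolayPt → ℤ) (w : GolayPt → ℤ)

theorem B_add_left (u v w : leechLattice) : B (u + v) w = B u w + B v w := dotInt_add_left _ _ _
theorem B_comm (v w : leechLattice) : B v w = B w v := dotInt_comm _ _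
theorem B_add_right (u v w : leechLattice) : B u (v + w) = B u v + B u w := by
  rw [B_comm, B_add_left, B_comm v, B_comm w]
theorem B_neg_left (v w : leechLattice) : B (-v) w = - B v w := dotInt_neg_left _ _
theorem B_neg_right (v w : leechLattice) : B v (-w) = - B v w := by rw [B_comm, B_neg_left, B_comm]
theorem B_add_sq (v w : leechLattice) : B (v + w) (v + w) = B v v + 2 * B v w + B w w := by
  rw [B_add_left, B_add_right, B_add_right, B_comm w v]; ring
theorem B_sub_left (u v w : leechLattice) : B (u - v) w = B u w - B v w := by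
  rw [sub_eq_add_neg, B_add_left, B_neg_left]; ring
theorem B_sub_right (u v w : leechLattice) : B u (v - w) = B u v - B u w := by
  rw [sub_eq_add_neg, B_add_right, B_neg_right]; ring
theorem B_self (v : leechLattice) : B v v = sqNorm (v : GolayPt → ℤ) := (sqNorm_eq_dot _).symm
theorem B_map (g : Co0) (v w : leechLattice) : B (g.1 v) (g.1 w) = B v w := Co0Basic.map_dot g v w
theorem B_nonneg (v : leechLattice) : 0 ≤ B v v := by
  rw [B_self]; exact Finset.sum_nonneg fun i _ => sq_nonneg _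

theorem mul_app (g h : Co0) (v : leechLattice) : (g * h).1 v = g.1 (h.1 v) := rfl
theorem one_app (v : leechLattice) : (1 : Co0).1 v = v := rfl
theorem map_sub (g : Co0) (v w : leechLattice) : g.1 (v - w) = g.1 v - g.1 w := by
  rw [sub_eq_add_neg, Co0Basic.map_add, Co0Basic.map_neg, ← sub_eq_add_neg]

theorem eq_zero_of_lt {v : leechLattice} (h : B v v < 32) : v = 0 := by
  by_contra h0
  have h1 := LeechMin.le_sqNorm v.2 (fun h => h0 (Subtype.ext h))
  rw [B_self] at h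
  omega

theorem Is.B {v w : leechLattice} {l m : List ℤ} (hv : Is v l) (hw : Is w m) : B v w = dotL l m := by
  unfold U4.B
  rw [hv.eq, hw.eq]
  exact dotInt_vec _ _ hv.len.le

/-! ### The data -/

/-- the vector `b₀` -/
def bL : List ℤ := [0, 0, 4, 0, 0, 0, 0, 0, 2, -2, 0, 0, 0, 2, -2, -2, 0, 2, -2, 0, 0, 0, -2, 0]

/-- the 27 vectors -/
def VV : List (List ℤ) := [
  [0, 0, 4, 0, 0, 0, 0, 0, 2, -2, 0, 0, 0, 2, -2, -2, 0, 2, -2, 0, 0, 0, -2, 0],
  [0, 0, -2, 0, -2, 0, 0, 0, -2, -2, 0, 0, 0, -2, 2, 0, 2, 0, 0, 2, 0, 0, 4, 0],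
  [0, 0, -2, 0, 2, 0, 0, 0, 0, 4, 0, 0, 0, 0, 0, 2, -2, -2, 2, -2, 0, 0, -2, 0],
  [0, 0, -4, 0, 0, 0, 0, 0, 2, 2, 0, 0, 0, 2, -2, -2, 0, 2, -2, 0, 0, 0, 2, 0],
  [0, 0, 2, 0, -2, 0, 0, 0, -2, 2, 0, 0, 0, -2, 2, 0, 2, 0, 0, 2, 0, 0, -4, 0],
  [0, 0, 2, 0, 2, 0, 0, 0, 0, -4, 0, 0, 0, 0, 0, 2, -2, -2, 2, -2, 0, 0, 2, 0],
  [0, 0, 0, 0, 2, 0, 0, 0, 0, 0, -2, 0, 0, 2, 2, 2, 0, 2, 0, 2, -4, 2, 0, 0],
  [0, 0, 0, 0, 0, 0, 0, 0, 2, 0, 4, 0, 0, -2, 0, -2, 2, 0, 2, -2, 2, 2, 0, 0],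
  [0, 0, 0, 0, -2, 0, 0, 0, -2, 0, -2, 0, 0, 0, -2, 0, -2, -2, -2, 0, 2, -4, 0, 0],
  [0, 0, 0, 0, 0, 2, 0, -4, -2, 0, 0, 0, 0, 0, -2, 2, 2, 2, 0, -2, 0, 0, 0, 2],
  [0, 0, 0, 0, -2, -4, 0, 2, 0, 0, 0, 0, 0, 2, 2, -2, -2, 0, 2, 0, 0, 0, 0, 2],
  [0, 0, 0, 0, 2, 2, 0, 2, 2, 0, 0, 0, 0, -2, 0, 0, 0, -2, -2, 2, 0, 0, 0, -4],
  [0, 0, 0, 0, 0, -2, 0, 4, -2, 0, 0, 0, 0, 0, -2, 2, 2, 2, 0, -2, 0, 0, 0, -2],
  [0, 0, 0, 0, -2, 4, 0, -2, 0, 0, 0, 0, 0, 2, 2, -2, -2, 0, 2, 0, 0, 0, 0, -2],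
  [0, 0, 0, 0, 2, -2, 0, -2, 2, 0, 0, 0, 0, -2, 0, 0, 0, -2, -2, 2, 0, 0, 0, 4],
  [0, 0, 0, 0, 2, 0, 0, 0, 2, 0, -2, 0, 0, 0, 2, 0, 2, 2, 2, 0, 2, -4, 0, 0],
  [0, 0, 0, 0, 0, 0, 0, 0, -2, 0, 4, 0, 0, 2, 0, 2, -2, 0, -2, 2, 2, 2, 0, 0],
  [0, 0, 0, 0, -2, 0, 0, 0, 0, 0, -2, 0, 0, -2, -2, -2, 0, -2, 0, -2, -4, 2, 0, 0],
  [3, 1, -1, -3, -1, 1, 1, 1, 1, -1, -1, 1, -3, 1, -1, 1, 1, -1, 1, 1, 1, 1, -1, 1],
  [0, -2, 2, 0, 0, -2, -2, -2, 0, 2, 2, -2, 0, 0, 0, 0, 0, 0, 0, 0, -2, -2, 2, -2],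
  [-3, 1, -1, 3, 1, 1, 1, 1, -1, -1, -1, 1, 3, -1, 1, -1, -1, 1, -1, -1, 1, 1, -1, 1],
  [-3, 1, 1, -3, -1, -1, 1, -1, 1, 1, -1, 1, 3, 1, -1, 1, 1, -1, 1, 1, 1, 1, 1, -1],
  [0, -2, -2, 0, 0, 2, -2, 2, 0, -2, 2, -2, 0, 0, 0, 0, 0, 0, 0, 0, -2, -2, -2, 2],
  [3, 1, 1, 3, 1, -1, 1, -1, -1, 1, -1, 1, -3, -1, 1, -1, -1, 1, -1, -1, 1, 1, 1, -1],
  [0, -2, 0, 0, -2, 0, -2, 0, 2, 0, 0, 4, 0, -2, 0, 2, -2, 2, 0, 0, 0, 0, 0, 0],
  [0, -2, 0, 0, 2, 0, 4, 0, -2, 0, 0, -2, 0, 0, -2, -2, 0, 0, 2, 2, 0, 0, 0, 0],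
  [0, 4, 0, 0, 0, 0, -2, 0, 0, 0, 0, -2, 0, 2, 2, 0, 2, -2, -2, -2, 0, 0, 0, 0]]

/-- 24 minimal vectors -/
def WW : List (List ℤ) := [
  [0, 0, 2, 0, 0, 0, 0, 0, 0, 2, -2, 0, 0, -2, 0, 0, 0, -2, 2, -2, 2, 0, 0, 0],
  [0, 0, 0, 2, 0, 0, -2, 0, 0, 2, -2, 0, 0, -2, -2, 0, 0, 0, 0, -2, 0, 0, -2, 0],
  [-2, 0, 0, 0, 0, 2, 0, 0, 0, 2, 0, 0, 2, 2, -2, 0, 0, 2, 0, 2, 0, 0, 0, 0],
  [0, -2, -2, 0, 0, 0, -2, 0, 0, 0, 2, 0, -2, 0, -2, 0, 0, 0, 0, 0, 0, 0, 2, -2],
  [-2, 2, 0, 0, 0, 2, 0, -2, 0, 0, 0, 0, 2, 0, 0, 0, 0, 2, -2, 0, 0, -2, 0, 0],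
  [0, 0, 2, 0, 0, 0, 0, 0, 0, 0, 2, 0, 0, -2, 2, 0, 2, 0, 2, 0, 0, -2, 2, 0],
  [0, -2, 2, 0, -2, 0, 0, 0, -2, -2, 0, 0, 2, 0, 0, -2, 0, 0, 0, 0, 0, 0, -2, 0],
  [-1, 1, 1, 1, -1, 1, 1, -1, -1, -1, -1, 1, 1, 1, 1, -1, -1, 1, -1, 1, -1, -1, 1, 3],
  [0, -4, 0, 0, 0, 0, 0, 0, 0, 0, 4, 0, 0, 0, 0, 0, 0, 0, 0, 0, 0, 0, 0, 0],
  [0, 0, 0, 0, 0, 0, 0, -4, 0, 0, 0, 0, 0, 0, 0, 0, 0, 4, 0, 0, 0, 0, 0, 0],
  [0, 0, 0, 0, 0, 0, 0, 0, 0, 0, 0, 0, 0, 0, 0, 0, 0, 4, 0, 4, 0, 0, 0, 0],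
  [0, 0, 0, 0, 0, 0, 4, 0, 0, 0, 0, 0, 0, 0, 0, 0, 0, 0, 0, 0, 0, 4, 0, 0],
  [0, 0, 0, 0, 0, 0, 0, 0, 0, 0, 4, 0, 0, 0, 0, 0, 0, 0, 0, 0, 0, 0, 4, 0],
  [0, 0, 0, 0, 0, 0, 0, 0, 0, 0, 0, 0, 0, 0, 0, 0, 0, 0, 0, 4, 4, 0, 0, 0],
  [0, 2, -2, 0, 0, 0, -2, 2, 2, 0, -2, 2, 0, 0, 0, -2, 0, 0, 0, 0, 0, 0, 0, 0],
  [0, 0, 0, 0, 0, 4, 0, 0, 0, 0, 0, 0, 0, 0, 4, 0, 0, 0, 0, 0, 0, 0, 0, 0],
  [0, 0, 0, 0, 0, 0, 0, 0, 0, 0, 0, 0, 0, 0, 0, 0, 4, 0, 0, 0, 0, 0, 4, 0],
  [0, 0, 0, 0, 0, 0, 0, 0, 0, 0, 4, 0, 0, 0, 0, 0, 0, 0, -4, 0, 0, 0, 0, 0],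
  [0, 0, 0, 4, 0, 0, 0, 0, 0, 0, 0, 0, 0, 0, 0, 0, 0, 0, -4, 0, 0, 0, 0, 0],
  [0, 0, 0, 0, 0, 0, 0, 0, 0, 2, 0, 2, 0, -2, -2, -2, 0, 0, 0, 2, 2, 0, 0, -2],
  [0, 0, 0, 0, 0, -4, 0, 0, 0, 0, 0, 0, 0, -4, 0, 0, 0, 0, 0, 0, 0, 0, 0, 0],
  [2, 2, 0, 0, 2, 0, 0, 0, -2, 0, 0, 0, -2, 2, 0, 0, 0, 0, 0, 2, 0, 2, 0, 0],
  [-2, -2, -2, 0, 0, 0, 0, 0, 0, 0, 0, 0, 2, 0, 0, 0, 0, -2, 0, 2, 2, 0, 2, 0],
  [0, 0, 2, 2, 0, 2, 0, -2, 0, 0, 0, 0, -2, -2, 0, 0, 0, 2, 0, 0, -2, 0, 0, 0]]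

/-- coefficients of `beta` -/
def CC : List ℤ := [
  8370943608677984138984300962107347168542602,
  10450236395469793955042320962197888870227984,
  -16034267419065336644143728356744469601869722,
  2786572302715510607879636148169573067079680,
  -4876751507671827120540833865391835426250760,
  18809948069760809966009107111639525822799896,
  -4951760452289426278949322752,
  1393456292541228152582272755280644312907776,
  -12893715076021025069850469506718401935503443,
  4180025978328973426485021784407619034611718,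
  21961386830979771878297211372224697982717793,
  6966768422227954367846094455140700523487240,
  -7309516527520742710546275622931687307628487,
  -14640808468068114485130275699093505721016214,
  1393456292541218249061368177553986388213760,
  -12197159687861644185751485843804858827231185,
  -9056609961744939488533956838324414745272332,
  19860653638783412703141939045338321303605211,
  -4180196119512446235837239718155440214188038,
  -2090184438811832325352209407289129191841792,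
  -23697591229452676809777687717816517709176740,
  696728146270609124530684088214043274240000,
  20911018926737158812924109932710026145906590,
  -2786572302715515559658977903527330597257220]

/-- a lattice vector from a list -/
def lv (l : List ℤ) (h : leechB l = true) : leechLattice := ⟨_root_.Cfsg.Agent.SporadicStructure.Co0Matrix.vec l, vec_mem_of_leechB h⟩

theorem is_lv {l : List ℤ} (h : leechB l = true) : Is (lv l h) l := by
  refine ⟨?_, rfl⟩
  simp only [leechB, Bool.and_eq_true] at h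
  exact Nat.eq_of_beq_eq_true h.1.1.1

theorem bL_ok : leechB bL = true := by decide +kernel

/-- the vector `b₀` -/
def b0 : leechLattice := lv bL bL_ok

/-- the words of the 27 vectors -/
def wn (n : ℕ) : List ℕ := List.replicate (n % 3) 1 ++ (List.replicate (n / 9) 7 ++ List.replicate (n / 3 % 3) 9)

/-- the 27 vectors -/
noncomputable def vv (n : ℕ) : leechLattice := (ev (wn n)).1 b0

private noncomputable def _root_.Cfsg.Agent.LsF.fd70200_0 : {f // @Cfsg.Agent.CoOneType.CoEval.eqL = f} := ⟨_, by first | (delta Cfsg.Agent.CoOneType.CoEval.eqL List.brecOn List.brecOn.go Cfsg.Agent.CoOneType.CoEval.eqL._f; rewrite [Cfsg.Agent.LsF.and_eq, Cfsg.Agent.LsF.instIDecEq_eq, Cfsg.Agent.LsF.decide_eq]; (try delta Cfsg.Agent.CoOneType.CoEval.eqL.match_1); (try delta Cfsg.Agent.CoOneType.CoEval.eqL._sparseCasesOn_1); (try delta Cfsg.Agent.CoOneType.CoEval.eqL._sparseCasesOn_2); (try delta List.casesOn); first | dsimp -zeta only | exact rfl)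 | exact rfl⟩
private noncomputable def _root_.Cfsg.Agent.LsF.fd70200_1 : {f // @Cfsg.Agent.CoOneType.CoFast.dotZ = f} := ⟨_, by first | (delta Cfsg.Agent.CoOneType.CoFast.dotZ List.brecOn List.brecOn.go Cfsg.Agent.CoOneType.CoFast.dotZ._f; rewrite [Cfsg.Agent.LsF.iadd_pat, Cfsg.Agent.LsF.imul_pat]; (try delta Cfsg.Agent.CoOneType.CoFast.dotZ.match_4); (try delta Cfsg.Agent.CoOneType.CoFast.dotZ._sparseCasesOn_4); (try delta Cfsg.Agent.CoOneType.CoFast.dotZ.match_1); (try delta Cfsg.Agent.CoOneType.CoFast.dotZ._sparseCasesOn_1); (try rewrite [Cfsg.Agent.LsF.instDecEq_eq, Cfsg.Agent.LsF.dite_eq]); first | dsimp -zeta only | exact rfl) | exact rfl⟩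
private noncomputable def _root_.Cfsg.Agent.LsF.fd70200_2 : {f // @Cfsg.Agent.LThreeCo1.Ev.apZ = f} := ⟨_, by first | (delta Cfsg.Agent.LThreeCo1.Ev.apZ; rewrite [Cfsg.Agent.LsF.fd70200_1.2, Cfsg.Agent.LsF.map_eq]; exact rfl) | exact rfl⟩
private noncomputable def _root_.Cfsg.Agent.LsF.fd70200_3 : {f // @Cfsg.Agent.LThreeCo1.Ev.foldZ = f} := ⟨_, by first | (delta Cfsg.Agent.LThreeCo1.Ev.foldZ; rewrite [Cfsg.Agent.LsF.fd70200_2.2, Cfsg.Agent.LsF.foldr_eq]; exact rfl) | exact rfl⟩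
private noncomputable def _root_.Cfsg.Agent.LsF.fd70200_4 : {f // @Cfsg.Agent.H956.Co1P.M = f} := ⟨_, by first | (delta Cfsg.Agent.H956.Co1P.M; (try delta Cfsg.Agent.H956.Co1P.M.match_1); (try rewrite [Cfsg.Agent.LsF.instDecEq_eq, Cfsg.Agent.LsF.dite_eq]); exact rfl) | exact rfl⟩
private noncomputable def _root_.Cfsg.Agent.LsF.fd70200_5 : {f // @Cfsg.Agent.H764.U4.wn = f} := ⟨_, by first | (delta Cfsg.Agent.H764.U4.wn; rewrite [Cfsg.Agent.LsF.ndiv_pat, Cfsg.Agent.LsF.nmod_pat, Cfsg.Agent.LsF.lappend_pat, Cfsg.Agent.LsF.replicate_eq]; exact rfl) | exact rfl⟩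
theorem k_VV : ((List.range 27).all fun n => eqL (foldZ M (wn n) bL) (VV.getD n [])) = true := by ((try (rewrite [Cfsg.Agent.LsF.fd70200_0.2, Cfsg.Agent.LsF.fd70200_3.2, Cfsg.Agent.LsF.fd70200_4.2, Cfsg.Agent.LsF.fd70200_5.2, Cfsg.Agent.LsF.all_eq, Cfsg.Agent.LsF.range_eq, Cfsg.Agent.LsF.getD_eq])); decide +kernel)

theorem is_vv {n : ℕ} (hn : n < 27) : Is (vv n) (VV.getD n []) := by
  have h := k_VV
  rw [List.all_eq_true] at h
  have h1 := eqL_eq (h n (List.mem_range.2 hn))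
  rw [← h1]
  exact (is_lv bL_ok).app _

/-- `v + g v + g² v` -/
def Nn (g : Co0) (v : leechLattice) : leechLattice := v + (g.1 v + g.1 (g.1 v))

/-- `2 v - z v - z² v` -/
noncomputable def Pz (v : leechLattice) : leechLattice :=
  (2 : ℤ) • v + (-1 : ℤ) • ((ev [1]).1 v + (ev [1]).1 ((ev [1]).1 v))

/-- the list of `Nn` -/
def nnL (w : List ℕ) (l : List ℤ) : List ℤ := addL l (addL (foldZ M w l) (foldZ M w (foldZ M w l)))

/-- the list of `Pz` -/
def pzL (l : List ℤ) : List ℤ := addL (smL 2 l) (smL (-1) (addL (foldZ M [1] l) (foldZ M [1] (foldZ M [1] l))))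

theorem Is.nn {v : leechLattice} {l : List ℤ} (hv : Is v l) (w : List ℕ) : Is (Nn (ev w) v) (nnL w l) :=
  hv.add ((hv.app w).add ((hv.app w).app w))

theorem Is.pz {v : leechLattice} {l : List ℤ} (hv : Is v l) : Is (Pz v) (pzL l) :=
  (hv.smul 2).add (((hv.app [1]).add ((hv.app [1]).app [1])).smul (-1))

theorem k_z3 : eqB M [1, 1, 1] [] = true := by decide +kernel

theorem z3 (v : leechLattice) : (ev [1]).1 ((ev [1]).1 ((ev [1]).1 v)) = v := by
  have h : ev [1] * (ev [1] * ev [1]) = 1 := by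
    rw [← ev_append, ← ev_append]
    exact ev_eq k_z3
  exact congrArg (fun g : Co0 => g.1 v) h

theorem B_Nn {g : Co0} {w : leechLattice} (h : g.1 w = w) (x : leechLattice) : B w (Nn g x) = 3 * B w x := by
  have h1 : B w (g.1 x) = B w x := by
    conv_lhs => rw [← h]
    exact B_map g w x
  have h2 : B w (g.1 (g.1 x)) = B w x := by
    rw [← h1]
    conv_lhs => rw [← h]
    exact B_map g w _
  rw [Nn, B_add_right, B_add_right, h1, h2]; ring

theorem B_smul_right (v w : leechLattice) (k : ℤ) : B v (k • w) = k * B v w := by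
  unfold B dotInt
  rw [Finset.mul_sum]
  refine Finset.sum_congr rfl fun i _ => ?_
  show (v : GolayPt → ℤ) i * ((k • w : leechLattice) : GolayPt → ℤ) i = _
  have : ((k • w : leechLattice) : GolayPt → ℤ) i = k * (w : GolayPt → ℤ) i := by
    rw [AddSubgroup.coe_zsmul, Pi.smul_apply, smul_eq_mul]
  rw [this]; ring

theorem B_z1 (w x : leechLattice) : B w ((ev [1]).1 x) = B ((ev [1]).1 ((ev [1]).1 w)) x := by
  have h := B_map (ev [1]) ((ev [1]).1 ((ev [1]).1 w)) x
  rw [z3] at h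
  exact h

theorem B_z2 (w x : leechLattice) : B w ((ev [1]).1 ((ev [1]).1 x)) = B ((ev [1]).1 w) x := by
  rw [B_z1, B_z1, z3]

theorem B_Pz (w x : leechLattice) : B w (Pz x) = B (Pz w) x := by
  unfold Pz
  rw [B_add_right, B_smul_right, B_smul_right, B_add_right, B_z1, B_z2, B_comm _ x, B_comm (_ + _) x, B_add_right,
    B_smul_right, B_smul_right, B_add_right, B_comm x w, B_comm x _, B_comm x _]
  ring

/-! ### The plane -/

/-- a vector whose coordinates are the powers of `4096` -/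
private def gL : List ℤ := (List.range 24).map fun i => 8 * 4096 ^ i

private theorem gL_ok : leechB gL = true := by decide +kernel

/-- the vector of `gL` -/
private def gam : leechLattice := lv gL gL_ok

private theorem is_gam : Is gam gL := is_lv gL_ok

private theorem B_gam (v : leechLattice) :
    B gam v = 8 * ∑ i ∈ Finset.range 24, (v : GolayPt → ℤ) (GolayBase.pt i) * 4096 ^ i := by
  unfold B dotInt
  rw [GolayBase.sum_pt, Finset.mul_sum]
  refine Finset.sum_congr rfl fun i hi => ?_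
  have h : (gam : GolayPt → ℤ) (GolayBase.pt i) = 8 * 4096 ^ GolayBase.idx (GolayBase.pt i) := getD_range_map _ _
  rw [h, GolayBase.idx_pt (Finset.mem_range.mp hi)]
  ring

private theorem digits' (n : ℕ) : ∀ d : ℕ → ℤ, (∀ i, -4096 < d i ∧ d i < 4096) →
    ∑ i ∈ Finset.range n, d i * 4096 ^ i = 0 → ∀ i, i < n → d i = 0 := by
  induction n with
  | zero => intro d _ _ i hi; omega
  | succ n ih =>
    intro d hd hs
    rw [Finset.sum_range_succ'] at hs
    have e : ∑ i ∈ Finset.range n, d (i + 1) * 4096 ^ (i + 1) =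
        4096 * ∑ i ∈ Finset.range n, d (i + 1) * 4096 ^ i := by
      rw [Finset.mul_sum]
      exact Finset.sum_congr rfl fun i _ => by rw [pow_succ]; ring
    rw [e, pow_zero, mul_one] at hs
    have h0 := hd 0
    have hd0 : d 0 = 0 := by omega
    have hs' : ∑ i ∈ Finset.range n, d (i + 1) * 4096 ^ i = 0 := by omega
    have := ih (fun i => d (i + 1)) (fun i => hd (i + 1)) hs'
    intro i hi
    cases i with
    | zero => exact hd0
    | succ i => exact this i (by omega)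

private theorem coord_le {v : leechLattice} (hv : B v v ≤ 128) (p : GolayPt) :
    -11 ≤ (v : GolayPt → ℤ) p ∧ (v : GolayPt → ℤ) p ≤ 11 := by
  have h1 : (v : GolayPt → ℤ) p ^ 2 ≤ sqNorm (v : GolayPt → ℤ) :=
    Finset.single_le_sum (f := fun i => (v : GolayPt → ℤ) i ^ 2) (fun i _ => sq_nonneg _) (Finset.mem_univ p)
  rw [← B_self] at h1
  have h2 : |(v : GolayPt → ℤ) p| < 12 := abs_lt_of_sq_lt_sq (by omega) (by norm_num)
  have h3 := abs_lt.1 h2
  omega

/-- combination of vectors with coefficients the products with `gL` -/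
private def fr (L : List (List ℤ)) : List ℤ := L.foldr (fun v acc => addL (smL (dotL gL v) v) acc) (List.replicate 24 0)

private theorem fr_spec (L : List (List ℤ)) (hL : ∀ v ∈ L, v.length = 24) (x : GolayPt → ℤ) :
    (fr L).length = 24 ∧ dotInt x (_root_.Cfsg.Agent.SporadicStructure.Co0Matrix.vec (fr L)) = (L.map fun v => dotL gL v * dotInt x (_root_.Cfsg.Agent.SporadicStructure.Co0Matrix.vec v)).sum := by
  induction L with
  | nil =>
    refine ⟨by simp [fr], ?_⟩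
    have : _root_.Cfsg.Agent.SporadicStructure.Co0Matrix.vec (fr []) = 0 := by
      funext q
      show (List.replicate 24 (0 : ℤ)).getD _ 0 = 0
      rw [List.getD_replicate _ (GolayBase.idx_lt q)]
    rw [this]
    simp [dotInt]
  | cons v L ih =>
    obtain ⟨h1, h2⟩ := ih fun w hw => hL w (List.mem_cons_of_mem _ hw)
    have hv := hL v List.mem_cons_self
    have h3 : (smL (dotL gL v) v).length = 24 := by rw [length_smL, hv]
    have h4 : fr (v :: L) = addL (smL (dotL gL v) v) (fr L) := rfl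
    refine ⟨by rw [h4]; exact length_addL h3 h1, ?_⟩
    rw [h4, vec_addL h3 h1, vec_smL hv, List.map_cons, List.sum_cons, ← h2]
    unfold dotInt
    rw [Finset.mul_sum, ← Finset.sum_add_distrib]
    refine Finset.sum_congr rfl fun i _ => ?_
    simp only [Pi.add_apply, Pi.smul_apply, smul_eq_mul]
    ring

private noncomputable def _root_.Cfsg.Agent.LsF.fd70200_6 : {f // @Cfsg.Agent.H764.U4.smL = f} := ⟨_, by first | (delta Cfsg.Agent.H764.U4.smL; rewrite [Cfsg.Agent.LsF.imul_pat, Cfsg.Agent.LsF.map_eq]; exact rfl) | exact rfl⟩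
private noncomputable def _root_.Cfsg.Agent.LsF.fd70200_7 : {f // @Cfsg.Agent.H764.U4.addL = f} := ⟨_, by first | (delta Cfsg.Agent.H764.U4.addL; rewrite [Cfsg.Agent.LsF.iadd_pat, Cfsg.Agent.LsF.zipWith_eq]; exact rfl) | exact rfl⟩
private noncomputable def _root_.Cfsg.Agent.LsF.fd70200_8 : {f // @Cfsg.Agent.H764.U4.nnL = f} := ⟨_, by first | (delta Cfsg.Agent.H764.U4.nnL; rewrite [Cfsg.Agent.LsF.fd70200_7.2, Cfsg.Agent.LsF.fd70200_3.2, Cfsg.Agent.LsF.fd70200_4.2]; exact rfl) | exact rfl⟩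
private noncomputable def _root_.Cfsg.Agent.LsF.fd70200_9 : {f // @Cfsg.Agent.H764.U4.pzL = f} := ⟨_, by first | (delta Cfsg.Agent.H764.U4.pzL; rewrite [Cfsg.Agent.LsF.fd70200_7.2, Cfsg.Agent.LsF.fd70200_6.2, Cfsg.Agent.LsF.fd70200_3.2, Cfsg.Agent.LsF.fd70200_4.2, Cfsg.Agent.LsF.ineg_pat]; exact rfl) | exact rfl⟩
private noncomputable def _root_.Cfsg.Agent.LsF.fd70200_10 : {f // @Cfsg.Agent.H764.U4.gL = f} := ⟨_, by first | (delta Cfsg.Agent.H764.U4.gL; rewrite [Cfsg.Agent.LsF.imul_pat, Cfsg.Agent.LsF.map_eq, Cfsg.Agent.LsF.range_eq]; exact rfl) | exact rfl⟩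
private noncomputable def _root_.Cfsg.Agent.LsF.fd70200_11 : {f // @Cfsg.Agent.SporadicStructure.Co0Matrix.dotL = f} := ⟨_, by first | (delta Cfsg.Agent.SporadicStructure.Co0Matrix.dotL List.brecOn List.brecOn.go Cfsg.Agent.SporadicStructure.Co0Matrix.dotL._f; rewrite [Cfsg.Agent.LsF.iadd_pat, Cfsg.Agent.LsF.imul_pat]; (try delta Cfsg.Agent.SporadicStructure.Co0Matrix.dotL.match_1); (try delta Cfsg.Agent.SporadicStructure.Co0Matrix.dotL._sparseCasesOn_1); first | dsimp -zeta only | exact rfl) | exact rfl⟩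
private noncomputable def _root_.Cfsg.Agent.LsF.fd70200_12 : {f // @Cfsg.Agent.H764.U4.fr = f} := ⟨_, by first | (delta Cfsg.Agent.H764.U4.fr; rewrite [Cfsg.Agent.LsF.fd70200_7.2, Cfsg.Agent.LsF.fd70200_6.2, Cfsg.Agent.LsF.fd70200_11.2, Cfsg.Agent.LsF.fd70200_10.2, Cfsg.Agent.LsF.foldr_eq, Cfsg.Agent.LsF.replicate_eq]; exact rfl) | exact rfl⟩
private theorem k_E1 :
    eqL (smL 8 (nnL [3, 6] (nnL [1, 2, 2] (nnL [1, 4, 4] (pzL gL))))) (smL 9 (fr (VV.take 3))) = true := by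
  ((try (rewrite [Cfsg.Agent.LsF.fd70200_0.2, Cfsg.Agent.LsF.fd70200_6.2, Cfsg.Agent.LsF.fd70200_8.2, Cfsg.Agent.LsF.fd70200_9.2, Cfsg.Agent.LsF.fd70200_10.2, Cfsg.Agent.LsF.fd70200_12.2, Cfsg.Agent.LsF.take_eq])); decide +kernel)

private theorem k_E2 : eqL (smL 24 (pzL gL)) (fr VV) = true := by ((try (rewrite [Cfsg.Agent.LsF.fd70200_0.2, Cfsg.Agent.LsF.fd70200_6.2, Cfsg.Agent.LsF.fd70200_9.2, Cfsg.Agent.LsF.fd70200_10.2, Cfsg.Agent.LsF.fd70200_12.2])); decide +kernel)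

theorem k_len : (VV.all fun v => Nat.beq v.length 24) = true := by decide +kernel

theorem len_VV {v : List ℤ} (hv : v ∈ VV) : v.length = 24 := by
  have h := k_len
  rw [List.all_eq_true] at h
  exact Nat.eq_of_beq_eq_true (h v hv)

theorem mem_VV {v : List ℤ} (hv : v ∈ VV) : ∃ n < 27, Is (vv n) v := by
  obtain ⟨n, hn, rfl⟩ := List.getElem_of_mem hv
  have h27 : VV.length = 27 := by decide +kernel
  refine ⟨n, by rw [← h27]; exact hn, ?_⟩
  have h := is_vv (n := n) (by rw [← h27]; exact hn)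
  rwa [List.getD_eq_getElem _ _ hn] at h

theorem norm_vv {k : ℕ} (hk : k < 3) : B (vv k) (vv k) = 48 := by
  have h5 := is_vv (n := k) (by omega)
  rw [h5.B h5]
  interval_cases k <;> decide +kernel

theorem coord {w : leechLattice} (h1 : (ev [3, 6]).1 w = w) (h2 : (ev [1, 2, 2]).1 w = w) (h3 : (ev [1, 4, 4]).1 w = w)
    (hz : w + ((ev [1]).1 w + (ev [1]).1 ((ev [1]).1 w)) = 0) (hn : B w w = 48) (q : GolayPt) :
    72 * (w : GolayPt → ℤ) q = ((vv 0 : leechLattice) : GolayPt → ℤ) q * B w (vv 0) +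
      (((vv 1 : leechLattice) : GolayPt → ℤ) q * B w (vv 1) + ((vv 2 : leechLattice) : GolayPt → ℤ) q * B w (vv 2)) := by
  have h4 : B w (Nn (ev [3, 6]) (Nn (ev [1, 2, 2]) (Nn (ev [1, 4, 4]) (Pz gam)))) = 81 * B gam w := by
    have h5 : Pz w = (3 : ℤ) • w := by
      have h6 : (ev [1]).1 w + (ev [1]).1 ((ev [1]).1 w) = - w := by
        rw [eq_neg_iff_add_eq_zero, add_comm]; exact hz
      unfold Pz
      rw [h6]
      module
    rw [B_Nn h1, B_Nn h2, B_Nn h3, B_Pz, h5, B_comm, B_smul_right]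
    ring
  have h6 := eqL_eq k_E1
  have h7 := ((((is_gam.pz).nn [1, 4, 4]).nn [1, 2, 2]).nn [3, 6]).smul 8
  rw [h6] at h7
  have h8 := fr_spec (VV.take 3) (fun v hv => len_VV (List.mem_of_mem_take hv)) (w : GolayPt → ℤ)
  have h9 : B w ((8 : ℤ) • Nn (ev [3, 6]) (Nn (ev [1, 2, 2]) (Nn (ev [1, 4, 4]) (Pz gam)))) =
      9 * dotInt (w : GolayPt → ℤ) (_root_.Cfsg.Agent.SporadicStructure.Co0Matrix.vec (fr (VV.take 3))) := by
    unfold B
    rw [h7.eq, vec_smL h8.1]
    unfold dotInt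
    rw [Finset.mul_sum]
    refine Finset.sum_congr rfl fun i _ => ?_
    simp only [Pi.smul_apply, smul_eq_mul]
    ring
  have h10 : VV.take 3 = [VV.getD 0 [], VV.getD 1 [], VV.getD 2 []] := by decide +kernel
  have h11 : ∀ n < 3, dotL gL (VV.getD n []) * dotInt (w : GolayPt → ℤ) (_root_.Cfsg.Agent.SporadicStructure.Co0Matrix.vec (VV.getD n [])) =
      B gam (vv n) * B w (vv n) := by
    intro n hn
    have := is_vv (n := n) (by omega)
    rw [is_gam.B this]
    unfold B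
    rw [this.eq]
  rw [h8.2, h10, B_smul_right] at h9
  simp only [List.map_cons, List.map_nil, List.sum_cons, List.sum_nil, add_zero] at h9
  rw [h11 0 (by norm_num), h11 1 (by norm_num), h11 2 (by norm_num), h4, B_gam, B_gam, B_gam, B_gam] at h9
  have hb : ∀ k < 3, ∀ p, -528 ≤ ((vv k : leechLattice) : GolayPt → ℤ) p * B w (vv k) ∧
      ((vv k : leechLattice) : GolayPt → ℤ) p * B w (vv k) ≤ 528 := by
    intro k hk p
    have a1 := coord_le (v := vv k) (by rw [norm_vv hk]; norm_num) p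
    have a2 := B_nonneg (w + vv k)
    have a3 := B_nonneg (w - vv k)
    rw [B_add_sq, hn, norm_vv hk] at a2
    rw [B_sub_left, B_sub_right, B_sub_right, hn, norm_vv hk, B_comm (vv k) w] at a3
    have a4 : |((vv k : leechLattice) : GolayPt → ℤ) p * B w (vv k)| ≤ 11 * 48 := by
      rw [abs_mul]
      exact mul_le_mul (abs_le.2 a1) (abs_le.2 ⟨by omega, by omega⟩) (abs_nonneg _) (by norm_num)
    exact abs_le.1 a4
  have h12 := digits' 24 (fun i => 72 * (w : GolayPt → ℤ) (GolayBase.pt i) -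
      (((vv 0 : leechLattice) : GolayPt → ℤ) (GolayBase.pt i) * B w (vv 0) +
      (((vv 1 : leechLattice) : GolayPt → ℤ) (GolayBase.pt i) * B w (vv 1) +
        ((vv 2 : leechLattice) : GolayPt → ℤ) (GolayBase.pt i) * B w (vv 2)))) (fun i => by
      have a0 := hb 0 (by norm_num) (GolayBase.pt i)
      have a1 := hb 1 (by norm_num) (GolayBase.pt i)
      have a2 := hb 2 (by norm_num) (GolayBase.pt i)
      have a3 := coord_le (v := w) (by rw [hn]; norm_num) (GolayBase.pt i)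
      constructor <;> linarith only [a0.1, a0.2, a1.1, a1.2, a2.1, a2.2, a3.1, a3.2]) (by
      have e : ∀ a b c d x y z t : ℤ, (72 * a - (b * x + (c * y + d * z))) * t =
        72 * (a * t) - (b * t * x + (c * t * y + d * t * z)) := fun _ _ _ _ _ _ _ _ => by ring
      simp only [e]
      rw [Finset.sum_sub_distrib, Finset.sum_add_distrib, Finset.sum_add_distrib, ← Finset.mul_sum, ← Finset.sum_mul,
        ← Finset.sum_mul, ← Finset.sum_mul]
      linarith only [h9]) _ (GolayBase.idx_lt q)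
  rw [GolayBase.pt_idx] at h12
  exact sub_eq_zero.1 h12

theorem plane {w : leechLattice} (h1 : (ev [3, 6]).1 w = w) (h2 : (ev [1, 2, 2]).1 w = w) (h3 : (ev [1, 4, 4]).1 w = w)
    (hz : w + ((ev [1]).1 w + (ev [1]).1 ((ev [1]).1 w)) = 0) (hn : B w w = 48) :
    ∃ k < 3, w = vv k ∨ w = - vv k := by
  have h4 : 72 * B w w = B w (vv 0) ^ 2 + (B w (vv 1) ^ 2 + B w (vv 2) ^ 2) := by
    have h5 : ∀ q : GolayPt, 72 * ((w : GolayPt → ℤ) q * (w : GolayPt → ℤ) q) =
        B w (vv 0) * ((w : GolayPt → ℤ) q * ((vv 0 : leechLattice) : GolayPt → ℤ) q) +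
        (B w (vv 1) * ((w : GolayPt → ℤ) q * ((vv 1 : leechLattice) : GolayPt → ℤ) q) +
          B w (vv 2) * ((w : GolayPt → ℤ) q * ((vv 2 : leechLattice) : GolayPt → ℤ) q)) := by
      intro q
      have := coord h1 h2 h3 hz hn q
      linear_combination (w : GolayPt → ℤ) q * this
    have h6 := Finset.sum_congr (rfl : (Finset.univ : Finset GolayPt) = Finset.univ) fun q _ => h5 q
    rw [← Finset.mul_sum, Finset.sum_add_distrib, Finset.sum_add_distrib, ← Finset.mul_sum, ← Finset.mul_sum, ← Finset.mul_sum] at h6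
    rw [pow_two, pow_two, pow_two]
    exact h6
  have hv : ∀ k < 3, B (vv k) (vv k) = 48 := fun k hk => norm_vv hk
  rw [hn] at h4
  have h5 : ∃ k < 3, 34 ≤ B w (vv k) ∨ B w (vv k) ≤ -34 := by
    by_contra hcon
    push Not at hcon
    have a0 := hcon 0 (by norm_num)
    have a1 := hcon 1 (by norm_num)
    have a2 := hcon 2 (by norm_num)
    have c0 : B w (vv 0) ^ 2 ≤ 33 ^ 2 := sq_le_sq' (by linarith [a0.2]) (by linarith [a0.1])
    have c1 : B w (vv 1) ^ 2 ≤ 33 ^ 2 := sq_le_sq' (by linarith [a1.2]) (by linarith [a1.1])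
    have c2 : B w (vv 2) ^ 2 ≤ 33 ^ 2 := sq_le_sq' (by linarith [a2.2]) (by linarith [a2.1])
    omega
  obtain ⟨k, hk, h6 | h6⟩ := h5
  · refine ⟨k, hk, Or.inl ?_⟩
    have h7 : w - vv k = 0 := by
      apply eq_zero_of_lt
      rw [B_sub_left, B_sub_right, B_sub_right, hn, hv k hk, B_comm (vv k) w]
      omega
    exact sub_eq_zero.1 h7
  · refine ⟨k, hk, Or.inr ?_⟩
    have h7 : w + vv k = 0 := by
      apply eq_zero_of_lt
      rw [B_add_left, B_add_right, B_add_right, hn, hv k hk, B_comm (vv k) w]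
      omega
    exact eq_neg_of_add_eq_zero_left h7

/-! ### An element fixing the 27 vectors -/

theorem Pz_eq_zero {d : leechLattice} (hn : B d d ≤ 128) (hd : ∀ n < 27, B d (vv n) = 0) : Pz d = 0 := by
  apply Subtype.ext
  funext q
  have h6 := eqL_eq k_E2
  have h7 := (is_gam.pz).smul 24
  rw [h6] at h7
  have h8 := fr_spec VV (fun v hv => len_VV hv) (d : GolayPt → ℤ)
  have h9 : B d ((24 : ℤ) • Pz gam) = 0 := by
    unfold B
    rw [h7.eq, h8.2]
    apply List.sum_eq_zero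
    intro x hx
    rw [List.mem_map] at hx
    obtain ⟨v, hv, rfl⟩ := hx
    obtain ⟨n, hn, h10⟩ := mem_VV hv
    have := hd n hn
    unfold B at this
    rw [h10.eq] at this
    rw [this, mul_zero]
  rw [B_smul_right, B_Pz, B_comm, B_gam] at h9
  have h12 := digits' 24 (fun i => ((Pz d : leechLattice) : GolayPt → ℤ) (GolayBase.pt i)) (fun i => by
      have a1 := coord_le hn (GolayBase.pt i)
      have a2 := coord_le (v := (ev [1]).1 d) (by rw [B_map]; exact hn) (GolayBase.pt i)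
      have a3 := coord_le (v := (ev [1]).1 ((ev [1]).1 d)) (by rw [B_map, B_map]; exact hn) (GolayBase.pt i)
      have a4 : ((Pz d : leechLattice) : GolayPt → ℤ) (GolayBase.pt i) = 2 * (d : GolayPt → ℤ) (GolayBase.pt i) +
          -1 * ((((ev [1]).1 d : leechLattice) : GolayPt → ℤ) (GolayBase.pt i) +
            (((ev [1]).1 ((ev [1]).1 d) : leechLattice) : GolayPt → ℤ) (GolayBase.pt i)) := by
        unfold Pz
        rw [AddSubgroup.coe_add, AddSubgroup.coe_zsmul, AddSubgroup.coe_zsmul, AddSubgroup.coe_add]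
        rfl
      rw [a4]
      omega) (by omega) _ (GolayBase.idx_lt q)
  rw [GolayBase.pt_idx] at h12
  exact h12

theorem fix_of_norm {c : Co0} (hz : c * ev [1] = ev [1] * c) (hb : ∀ n < 27, c.1 (vv n) = vv n) {w : leechLattice}
    (h1 : B w w = 32) (h2 : B w ((ev [1]).1 w) = -8) : c.1 w = w := by
  have hz' : ∀ v, c.1 ((ev [1]).1 v) = (ev [1]).1 (c.1 v) := fun v => congrArg (fun g : Co0 => g.1 v) hz
  have h3 : Pz (c.1 w - w) = 0 := by
    refine Pz_eq_zero ?_ fun n hn => ?_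
    · have := B_nonneg (c.1 w + w)
      rw [B_add_sq, B_map, h1] at this
      rw [B_sub_left, B_sub_right, B_sub_right, B_map, h1, B_comm w (c.1 w)]
      omega
    rw [B_sub_left]
    conv_lhs => rw [← hb n hn]
    rw [B_map, hb n hn, sub_self]
  set d := c.1 w - w with hd
  set z := ev [1] with hzz
  have h4 : (2 : ℤ) • d = z.1 d + z.1 (z.1 d) := by
    unfold Pz at h3
    rw [← hzz] at h3
    have : (2 : ℤ) • d + (-1 : ℤ) • (z.1 d + z.1 (z.1 d)) = 0 := h3
    rw [neg_one_zsmul, ← sub_eq_add_neg, sub_eq_zero] at this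
    exact this
  have h5 : (3 : ℤ) • d = (3 : ℤ) • z.1 d := by
    have h6 := congrArg z.1 h4
    rw [Co0Basic.map_add, Co0Basic.map_zsmul, z3] at h6
    have h7 : (3 : ℤ) • d - (3 : ℤ) • z.1 d = 0 := by
      have h8 : (3 : ℤ) • d - (3 : ℤ) • z.1 d = ((2 : ℤ) • d - (2 : ℤ) • z.1 d) + (d - z.1 d) := by module
      rw [h8, h4, h6]
      module
    exact sub_eq_zero.1 h7
  have h6 : (3 : ℤ) • d = d + (z.1 d + z.1 (z.1 d)) := by
    rw [← h4]; module
  -- the projection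
  let s : leechLattice → leechLattice := fun v => v + (z.1 v + z.1 (z.1 v))
  have hs : s d = c.1 (s w) - s w := by
    show d + (z.1 d + z.1 (z.1 d)) = c.1 (w + (z.1 w + z.1 (z.1 w))) - (w + (z.1 w + z.1 (z.1 w)))
    rw [Co0Basic.map_add, Co0Basic.map_add, hz', hz', hz', hd, map_sub, map_sub]
    abel
  have a1 : B (z.1 w) (z.1 w) = 32 := by rw [B_map, h1]
  have a2 : B (z.1 (z.1 w)) (z.1 (z.1 w)) = 32 := by rw [B_map, B_map, h1]
  have a3 : B (z.1 w) (z.1 (z.1 w)) = -8 := by rw [B_map, h2]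
  have a4 : B w (z.1 (z.1 w)) = -8 := by
    rw [B_z2, B_comm, h2]
  have h7 : B (s w) (s w) = 48 := by
    show B (w + (z.1 w + z.1 (z.1 w))) (w + (z.1 w + z.1 (z.1 w))) = 48
    simp only [B_add_left, B_add_right]
    rw [h1, h2, a1, a2, a3, a4, B_comm (z.1 w) w, B_comm (z.1 (z.1 w)) w, B_comm (z.1 (z.1 w)) (z.1 w), h2, a3, a4]
    norm_num
  have h8 : B (c.1 (s w)) (c.1 (s w)) = 48 := by rw [B_map, h7]
  have h9 : B ((3 : ℤ) • d) ((3 : ℤ) • d) = 9 * B d d := by
    rw [B_smul_right, B_comm, B_smul_right]; ring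
  have h10 : B ((3 : ℤ) • d) ((3 : ℤ) • d) = 96 - 2 * B (c.1 (s w)) (s w) := by
    rw [h6]
    show B (s d) (s d) = _
    rw [hs, B_sub_left, B_sub_right, B_sub_right, h7, h8, B_comm (s w) (c.1 (s w))]
    ring
  have h11 : 0 ≤ 96 + 2 * B (c.1 (s w)) (s w) := by
    have := B_nonneg (c.1 (s w) + s w)
    rw [B_add_sq, h7, h8] at this
    linarith only [this]
  have h12 : d = 0 := eq_zero_of_lt (by omega)
  exact sub_eq_zero.1 h12

/-- linear combination of lists -/
def comb : List ℤ → List (List ℤ) → List ℤ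
  | c :: C, w :: W => addL (smL c w) (comb C W)
  | _, _ => List.replicate 24 0

theorem comb_mem (Q : AddSubgroup leechLattice) : ∀ (C : List ℤ) (W : List (List ℤ)), (∀ w ∈ W, ∃ v ∈ Q, Is v w) →
    ∃ v ∈ Q, Is v (comb C W)
  | c :: C, w :: W, h => by
    obtain ⟨v, hv, h1⟩ := h w List.mem_cons_self
    obtain ⟨u, hu, h2⟩ := comb_mem Q C W fun x hx => h x (List.mem_cons_of_mem _ hx)
    exact ⟨c • v + u, Q.add_mem (Q.zsmul_mem hv c) hu, (h1.smul c).add h2⟩
  | [], W, _ => ⟨0, Q.zero_mem, by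
      refine ⟨by simp [comb], ?_⟩
      funext q
      show 0 = (List.replicate 24 (0 : ℤ)).getD _ 0
      rw [List.getD_replicate _ (GolayBase.idx_lt q)]⟩
  | _ :: _, [], _ => ⟨0, Q.zero_mem, by
      refine ⟨by simp [comb], ?_⟩
      funext q
      show 0 = (List.replicate 24 (0 : ℤ)).getD _ 0
      rw [List.getD_replicate _ (GolayBase.idx_lt q)]⟩

private noncomputable def _root_.Cfsg.Agent.LsF.fd70200_13 : {f // @Cfsg.Agent.SporadicA.GolayBase.enc = f} := ⟨_, by first | (delta Cfsg.Agent.SporadicA.GolayBase.enc; rewrite [Cfsg.Agent.LsF.nmul_pat, Cfsg.Agent.LsF.nmod_pat, Cfsg.Agent.LsF.nxor_pat, Cfsg.Agent.LsF.nshr_pat]; exact rfl) | exact rfl⟩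
private noncomputable def _root_.Cfsg.Agent.LsF.fd70200_14 : {f // @Cfsg.Agent.SporadicA.GolayBase.isCode = f} := ⟨_, by first | (delta Cfsg.Agent.SporadicA.GolayBase.isCode; rewrite [Cfsg.Agent.LsF.fd70200_13.2]; exact rfl) | exact rfl⟩
private noncomputable def _root_.Cfsg.Agent.LsF.fd70200_15 : {f // @Cfsg.Agent.SporadicStructure.Co0Matrix.maskL = f} := ⟨_, by first | (delta Cfsg.Agent.SporadicStructure.Co0Matrix.maskL List.brecOn List.brecOn.go Cfsg.Agent.SporadicStructure.Co0Matrix.maskL._f; rewrite [Cfsg.Agent.LsF.nadd_pat, Cfsg.Agent.LsF.nmul_pat, Cfsg.Agent.LsF.imod_pat, Cfsg.Agent.LsF.toNat_eq]; (try delta Cfsg.Agent.SporadicStructure.Co0Matrix.maskL.match_1); (try delta List.casesOn); first | dsimp -zeta only | exact rfl) | exact rfl⟩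
private noncomputable def _root_.Cfsg.Agent.LsF.fd70200_16 : {f // @Cfsg.Agent.SporadicStructure.Co0Matrix.leechB = f} := ⟨_, by first | (delta Cfsg.Agent.SporadicStructure.Co0Matrix.leechB; rewrite [Cfsg.Agent.LsF.fd70200_14.2, Cfsg.Agent.LsF.fd70200_15.2, Cfsg.Agent.LsF.imul_pat, Cfsg.Agent.LsF.isub_pat, Cfsg.Agent.LsF.imod_pat, Cfsg.Agent.LsF.and_eq, Cfsg.Agent.LsF.all_eq, Cfsg.Agent.LsF.map_eq, Cfsg.Agent.LsF.sum_eq, Cfsg.Agent.LsF.headD_eq, Cfsg.Agent.LsF.instIAdd_eq, Cfsg.Agent.LsF.instIDecEq_eq, Cfsg.Agent.LsF.length_eq, Cfsg.Agent.LsF.decide_eq]; exact rfl) | exact rfl⟩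
theorem k_WW : (WW.all fun w => leechB w && (decide (dotL w w = 32) && decide (dotL w (foldZ M [1] w) = -8))) = true := by
  ((try (rewrite [Cfsg.Agent.LsF.fd70200_16.2, Cfsg.Agent.LsF.fd70200_11.2, Cfsg.Agent.LsF.fd70200_3.2, Cfsg.Agent.LsF.fd70200_4.2, Cfsg.Agent.LsF.ineg_pat, Cfsg.Agent.LsF.and_eq, Cfsg.Agent.LsF.all_eq, Cfsg.Agent.LsF.instIDecEq_eq, Cfsg.Agent.LsF.decide_eq])); decide +kernel)

theorem k_comb : eqL (comb CC WW) betaL = true := by decide +kernel

/-- an element commuting with `e 1` and fixing the 27 vectors is trivial -/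
theorem fix_one {c : Co0} (hz : c * ev [1] = ev [1] * c) (hb : ∀ n < 27, c.1 (vv n) = vv n) : c = 1 := by
  let Q : AddSubgroup leechLattice :=
    { carrier := {v | c.1 v = v}
      zero_mem' := (Co0Basic.toHom c).map_zero
      add_mem' := fun {a b} ha hb => by
        show c.1 (a + b) = a + b
        rw [Co0Basic.map_add, show c.1 a = a from ha, show c.1 b = b from hb]
      neg_mem' := fun {a} ha => by
        show c.1 (-a) = -a
        rw [Co0Basic.map_neg, show c.1 a = a from ha] }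
  obtain ⟨v, hv, h1⟩ := comb_mem Q CC WW (by
    intro w hw
    have h := k_WW
    rw [List.all_eq_true] at h
    have h2 := h w hw
    rw [Bool.and_eq_true, Bool.and_eq_true] at h2
    have h3 := is_lv h2.1
    refine ⟨_, ?_, h3⟩
    exact fix_of_norm hz hb ((h3.B h3).trans (of_decide_eq_true h2.2.1))
      ((h3.B (h3.app [1])).trans (of_decide_eq_true h2.2.2)))
  rw [eqL_eq k_comb] at h1
  have h2 : v = beta := Subtype.ext (h1.eq.trans beta_coe.symm)
  apply eq_one_of_fix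
  rw [← h2]
  exact hv

/-! ### The main result -/

/-- the elementary abelian subgroup -/
noncomputable def VS : Subgroup Co0 := _root_.Subgroup.closure {ev [1], ev [2], ev [4], ev [3, 6]}

private noncomputable def _root_.Cfsg.Agent.LsF.fd70200_17 : {f // @Cfsg.Agent.CoOneType.CoEval.betaL = f} := ⟨_, by first | (delta Cfsg.Agent.CoOneType.CoEval.betaL; rewrite [Cfsg.Agent.LsF.imul_pat, Cfsg.Agent.LsF.map_eq, Cfsg.Agent.LsF.range_eq]; exact rfl) | exact rfl⟩
private noncomputable def _root_.Cfsg.Agent.LsF.fd70200_18 : {f // @Cfsg.Agent.LThreeCo1.Ev.eqB = f} := ⟨_, by first | (delta Cfsg.Agent.LThreeCo1.Ev.eqB; rewrite [Cfsg.Agent.LsF.fd70200_0.2, Cfsg.Agent.LsF.fd70200_3.2, Cfsg.Agent.LsF.fd70200_17.2]; exact rfl) | exact rfl⟩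
/-- every element of `VS` commutes with `e 1` and maps `b₀` to some `z^j b₀` -/
theorem VS_spec {v : Co0} (hv : v ∈ VS) : v * ev [1] = ev [1] * v ∧ ∃ j : ℕ, v.1 b0 = (ev [1] ^ j).1 b0 := by
  have k1 : (eqB M [1, 2] [2, 1] && eqB M [1, 4] [4, 1] && eqB M [1, 3, 6] [3, 6, 1]) = true := by ((try (rewrite [Cfsg.Agent.LsF.fd70200_18.2, Cfsg.Agent.LsF.fd70200_4.2, Cfsg.Agent.LsF.and_eq])); decide +kernel)
  have k2 : (eqL (foldZ M [2] bL) (foldZ M [1] bL) && eqL (foldZ M [4] bL) (foldZ M [1] bL) && eqL (foldZ M [3, 6] bL) bL) = true := by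
    ((try (rewrite [Cfsg.Agent.LsF.fd70200_0.2, Cfsg.Agent.LsF.fd70200_3.2, Cfsg.Agent.LsF.fd70200_4.2, Cfsg.Agent.LsF.and_eq])); decide +kernel)
  simp only [Bool.and_eq_true] at k1 k2
  have ib : Is b0 bL := is_lv bL_ok
  have g2 : (ev [2]).1 b0 = (ev [1]).1 b0 := by
    have := ib.app [2]
    rw [eqL_eq k2.1.1] at this
    exact this.unique (ib.app [1])
  have g4 : (ev [4]).1 b0 = (ev [1]).1 b0 := by
    have := ib.app [4]
    rw [eqL_eq k2.1.2] at this
    exact this.unique (ib.app [1])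
  have g36 : (ev [3, 6]).1 b0 = b0 := by
    have := ib.app [3, 6]
    rw [eqL_eq k2.2] at this
    exact this.unique ib
  have c2 : ev [1] * ev [2] = ev [2] * ev [1] := by rw [← ev_append, ← ev_append]; exact ev_eq k1.1.1
  have c4 : ev [1] * ev [4] = ev [4] * ev [1] := by rw [← ev_append, ← ev_append]; exact ev_eq k1.1.2
  have c36 : ev [1] * ev [3, 6] = ev [3, 6] * ev [1] := by rw [← ev_append, ← ev_append]; exact ev_eq k1.2
  have z3' : ev [1] ^ 3 = 1 := by
    have : ev [1] * (ev [1] * ev [1]) = 1 := by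
      rw [← ev_append, ← ev_append]
      exact ev_eq k_z3
    rw [pow_succ, pow_two, mul_assoc]; exact this
  refine closure_induction (p := fun v _ => v * ev [1] = ev [1] * v ∧ ∃ j : ℕ, v.1 b0 = (ev [1] ^ j).1 b0) ?_ ?_ ?_ ?_ hv
  · rintro x (rfl | rfl | rfl | rfl)
    · exact ⟨rfl, 1, by rw [pow_one]⟩
    · exact ⟨c2.symm, 1, by rw [pow_one]; exact g2⟩
    · exact ⟨c4.symm, 1, by rw [pow_one]; exact g4⟩
    · exact ⟨c36.symm, 0, by rw [pow_zero]; exact g36⟩
  · exact ⟨by rw [one_mul, mul_one], 0, by rw [pow_zero]⟩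
  · rintro x y _ _ ⟨h1, j, h2⟩ ⟨h3, k, h4⟩
    refine ⟨by rw [mul_assoc, h3, ← mul_assoc, h1, mul_assoc], j + k, ?_⟩
    rw [mul_app, h4, ← mul_app]
    have h5 : x * ev [1] ^ k = ev [1] ^ k * x := (Commute.pow_right (show Commute x (ev [1]) from h1) k).eq
    rw [h5, mul_app, h2, ← mul_app, ← pow_add, add_comm]
  · rintro x _ ⟨h1, j, h2⟩
    refine ⟨((show Commute x (ev [1]) from h1).inv_left).eq, 2 * j, ?_⟩
    have h3 : x.1 ((ev [1] ^ (2 * j)).1 b0) = b0 := by
      rw [← mul_app]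
      have h5 : x * ev [1] ^ (2 * j) = ev [1] ^ (2 * j) * x := (Commute.pow_right (show Commute x (ev [1]) from h1) _).eq
      rw [h5, mul_app, h2, ← mul_app, ← pow_add, show 2 * j + j = 3 * j by ring, pow_mul, z3', one_pow, one_app]
    calc (x⁻¹).1 b0 = (x⁻¹).1 (x.1 ((ev [1] ^ (2 * j)).1 b0)) := by rw [h3]
      _ = (ev [1] ^ (2 * j)).1 b0 := by rw [← mul_app, inv_mul_cancel, one_app]

/-- `s` normalizes `VS` and the commutator of `c` and `s` is in `VS` -/
structure KS (c s : Co0) : Prop where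
  norm : ∀ v ∈ VS, s⁻¹ * v * s ∈ VS
  com : s⁻¹ * (c * s * c⁻¹) ∈ VS
  z : s * ev [1] = ev [1] * s

theorem KS.mul {c s t : Co0} (hs : KS c s) (ht : KS c t) : KS c (s * t) where
  norm v hv := by
    have := ht.norm _ (hs.norm v hv)
    rw [mul_inv_rev]
    simpa only [mul_assoc] using this
  com := by
    have h1 := VS.mul_mem (ht.norm _ hs.com) ht.com
    have h2 : t⁻¹ * (s⁻¹ * (c * s * c⁻¹)) * t * (t⁻¹ * (c * t * c⁻¹)) = (s * t)⁻¹ * (c * (s * t) * c⁻¹) := by group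
    rwa [h2] at h1
  z := by rw [mul_assoc, ht.z, ← mul_assoc, hs.z, mul_assoc]

theorem KS.one (c : Co0) : KS c 1 := ⟨fun v hv => by simpa using hv, by simp, by simp⟩

theorem KS.pow {c s : Co0} (hs : KS c s) : ∀ n : ℕ, KS c (s ^ n)
  | 0 => by rw [pow_zero]; exact KS.one c
  | n + 1 => by rw [pow_succ]; exact (hs.pow n).mul hs

theorem conj_mem {s : Co0} (h : ∀ v ∈ ({ev [1], ev [2], ev [4], ev [3, 6]} : Set Co0), s⁻¹ * v * s ∈ VS) {v : Co0} (hv : v ∈ VS) :
    s⁻¹ * v * s ∈ VS := by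
  refine closure_induction (p := fun v _ => s⁻¹ * v * s ∈ VS) h ?_ ?_ ?_ hv
  · simp only [_root_.mul_one, _root_.inv_mul_cancel, _root_.OneMemClass.one_mem]
  · intro x y _ _ hx hy
    have := VS.mul_mem hx hy
    have h2 : s⁻¹ * x * s * (s⁻¹ * y * s) = s⁻¹ * (x * y) * s := by group
    rwa [h2] at this
  · intro x _ hx
    have := VS.inv_mem hx
    have h2 : (s⁻¹ * x * s)⁻¹ = s⁻¹ * x⁻¹ * s := by group
    rwa [h2] at this

theorem of_words {g v r : List ℕ} (h : eqB M (v ++ g) (g ++ r) = true) : (ev g)⁻¹ * ev v * ev g = ev r := by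
  have h1 := ev_eq h
  rw [ev_append, ev_append] at h1
  rw [mul_assoc, h1, inv_mul_cancel_left]

theorem mem_words {r : List ℕ} (h : r ∈ ([[], [1], [2], [4], [3, 6]] : List (List ℕ))) : ev r ∈ VS := by
  simp only [List.mem_cons, List.not_mem_nil, or_false] at h
  rcases h with rfl | rfl | rfl | rfl | rfl
  · exact VS.one_mem
  · exact _root_.Subgroup.subset_closure (by simp)
  · exact _root_.Subgroup.subset_closure (by simp)
  · exact _root_.Subgroup.subset_closure (by simp)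
  · exact _root_.Subgroup.subset_closure (by simp)

theorem norm7 {v : Co0} (hv : v ∈ VS) : (ev [7])⁻¹ * v * ev [7] ∈ VS := by
  have k : (eqB M ([1] ++ [7]) ([7] ++ [1]) && eqB M ([2] ++ [7]) ([7] ++ ([1] ++ [2])) && eqB M ([4] ++ [7]) ([7] ++ [4]) &&
    eqB M ([3, 6] ++ [7]) ([7] ++ ([1] ++ ([2] ++ ([2] ++ [3, 6]))))) = true := by ((try (rewrite [Cfsg.Agent.LsF.fd70200_18.2, Cfsg.Agent.LsF.fd70200_4.2, Cfsg.Agent.LsF.lappend_pat, Cfsg.Agent.LsF.and_eq])); decide +kernel)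
  simp only [Bool.and_eq_true] at k
  obtain ⟨⟨⟨k1, k2⟩, k3⟩, k4⟩ := k
  refine conj_mem ?_ hv
  rintro x (rfl | rfl | rfl | rfl)
  · rw [of_words k1]; exact mem_words (by simp)
  · rw [of_words k2, ev_append]; exact VS.mul_mem (mem_words (by simp)) (mem_words (by simp))
  · rw [of_words k3]; exact mem_words (by simp)
  · rw [of_words k4, ev_append, ev_append, ev_append]
    exact VS.mul_mem (mem_words (by simp)) (VS.mul_mem (mem_words (by simp)) (VS.mul_mem (mem_words (by simp)) (mem_words (by simp))))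

theorem norm9 {v : Co0} (hv : v ∈ VS) : (ev [9])⁻¹ * v * ev [9] ∈ VS := by
  have k : (eqB M ([1] ++ [9]) ([9] ++ [1]) && eqB M ([2] ++ [9]) ([9] ++ [2]) && eqB M ([4] ++ [9]) ([9] ++ ([1] ++ [4])) &&
    eqB M ([3, 6] ++ [9]) ([9] ++ ([1] ++ ([4] ++ ([4] ++ [3, 6]))))) = true := by ((try (rewrite [Cfsg.Agent.LsF.fd70200_18.2, Cfsg.Agent.LsF.fd70200_4.2, Cfsg.Agent.LsF.lappend_pat, Cfsg.Agent.LsF.and_eq])); decide +kernel)
  simp only [Bool.and_eq_true] at k
  obtain ⟨⟨⟨k1, k2⟩, k3⟩, k4⟩ := k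
  refine conj_mem ?_ hv
  rintro x (rfl | rfl | rfl | rfl)
  · rw [of_words k1]; exact mem_words (by simp)
  · rw [of_words k2]; exact mem_words (by simp)
  · rw [of_words k3, ev_append]; exact VS.mul_mem (mem_words (by simp)) (mem_words (by simp))
  · rw [of_words k4, ev_append, ev_append, ev_append]
    exact VS.mul_mem (mem_words (by simp)) (VS.mul_mem (mem_words (by simp)) (VS.mul_mem (mem_words (by simp)) (mem_words (by simp))))

/-- **Main lemma.** If `c` centralizes `V` and normalizes the cosets `e 7 V` and `e 9 V`, then `c ^ 3 = ± 1`. -/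
theorem cube_eq {c : Co0} (hV : ∀ v ∈ VS, c * v = v * c) (h7 : (ev [7])⁻¹ * (c * ev [7] * c⁻¹) ∈ VS)
    (h9 : (ev [9])⁻¹ * (c * ev [9] * c⁻¹) ∈ VS) : c ^ 3 = 1 ∨ c ^ 3 = Co0Basic.negCo0 := by
  have kz : (eqB M [7, 1] [1, 7] && eqB M [9, 1] [1, 9]) = true := by ((try (rewrite [Cfsg.Agent.LsF.fd70200_18.2, Cfsg.Agent.LsF.fd70200_4.2, Cfsg.Agent.LsF.and_eq])); decide +kernel)
  simp only [Bool.and_eq_true] at kz
  have z7 : ev [7] * ev [1] = ev [1] * ev [7] := by rw [← ev_append, ← ev_append]; exact ev_eq kz.1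
  have z9 : ev [9] * ev [1] = ev [1] * ev [9] := by rw [← ev_append, ← ev_append]; exact ev_eq kz.2
  have K7 : KS c (ev [7]) := ⟨fun v hv => norm7 hv, h7, z7⟩
  have K9 : KS c (ev [9]) := ⟨fun v hv => norm9 hv, h9, z9⟩
  have m1 : ev [1] ∈ VS := mem_words (by simp)
  have m2 : ev [2] ∈ VS := mem_words (by simp)
  have m4 : ev [4] ∈ VS := mem_words (by simp)
  have m36 : ev [3, 6] ∈ VS := mem_words (by simp)
  have hc1 := hV _ m1
  have app_c : ∀ {g : Co0} (_ : g ∈ VS) (x : leechLattice), g.1 (c.1 x) = c.1 (g.1 x) := fun {g} hg x =>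
    (congrArg (fun g : Co0 => g.1 x) (hV g hg)).symm
  have z3' : ev [1] ^ 3 = 1 := by
    have : ev [1] * (ev [1] * ev [1]) = 1 := by
      rw [← ev_append, ← ev_append]
      exact ev_eq k_z3
    rw [pow_succ, pow_two, mul_assoc]; exact this
  -- the image of `b₀`
  have ib : Is b0 bL := is_lv bL_ok
  have kb : (eqL (foldZ M [3, 6] bL) bL && eqL (foldZ M [1, 2, 2] bL) bL && eqL (foldZ M [1, 4, 4] bL) bL &&
      eqL (addL bL (addL (foldZ M [1] bL) (foldZ M [1] (foldZ M [1] bL)))) (List.replicate 24 0) && decide (dotL bL bL = 48)) = true := by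
    ((try (rewrite [Cfsg.Agent.LsF.fd70200_0.2, Cfsg.Agent.LsF.fd70200_3.2, Cfsg.Agent.LsF.fd70200_4.2, Cfsg.Agent.LsF.fd70200_7.2, Cfsg.Agent.LsF.fd70200_11.2, Cfsg.Agent.LsF.and_eq, Cfsg.Agent.LsF.replicate_eq, Cfsg.Agent.LsF.instIDecEq_eq, Cfsg.Agent.LsF.decide_eq])); decide +kernel)
  simp only [Bool.and_eq_true] at kb
  obtain ⟨⟨⟨⟨kb1, kb2⟩, kb3⟩, kb4⟩, kb5⟩ := kb
  have f1 : (ev [3, 6]).1 b0 = b0 := by have := ib.app [3, 6]; rw [eqL_eq kb1] at this; exact this.unique ib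
  have f2 : (ev [1, 2, 2]).1 b0 = b0 := by have := ib.app [1, 2, 2]; rw [eqL_eq kb2] at this; exact this.unique ib
  have f3 : (ev [1, 4, 4]).1 b0 = b0 := by have := ib.app [1, 4, 4]; rw [eqL_eq kb3] at this; exact this.unique ib
  have f4 : b0 + ((ev [1]).1 b0 + (ev [1]).1 ((ev [1]).1 b0)) = 0 := by
    have h := ib.add ((ib.app [1]).add ((ib.app [1]).app [1]))
    rw [eqL_eq kb4] at h
    apply Subtype.ext
    rw [h.eq]
    funext q
    show (List.replicate 24 (0 : ℤ)).getD _ 0 = 0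
    rw [List.getD_replicate _ (GolayBase.idx_lt q)]
  have f5 : B b0 b0 = 48 := (ib.B ib).trans (of_decide_eq_true kb5)
  have m122 : ev [1, 2, 2] ∈ VS := by
    have h : ev [1, 2, 2] = ev [1] * (ev [2] * ev [2]) := by rw [← ev_append, ← ev_append]; rfl
    rw [h]; exact VS.mul_mem m1 (VS.mul_mem m2 m2)
  have m144 : ev [1, 4, 4] ∈ VS := by
    have h : ev [1, 4, 4] = ev [1] * (ev [4] * ev [4]) := by rw [← ev_append, ← ev_append]; rfl
    rw [h]; exact VS.mul_mem m1 (VS.mul_mem m4 m4)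
  obtain ⟨k, hk, hkb⟩ : ∃ k < 3, c.1 b0 = vv k ∨ c.1 b0 = - vv k := by
    refine plane ?_ ?_ ?_ ?_ ?_
    · rw [app_c m36, f1]
    · rw [app_c m122, f2]
    · rw [app_c m144, f3]
    · rw [app_c m1, app_c m1, ← Co0Basic.map_add, ← Co0Basic.map_add, f4]
      exact (Co0Basic.toHom c).map_zero
    · rw [B_map, f5]
  have hvk : vv k = (ev [1] ^ k).1 b0 := by
    unfold vv wn
    interval_cases k <;> rfl
  -- a sign
  obtain ⟨ε, hε, hεc, hεb⟩ : ∃ ε : Co0, (ε = 1 ∨ ε = Co0Basic.negCo0) ∧ (∀ g : Co0, ε * g = g * ε) ∧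
      c.1 b0 = (ε * ev [1] ^ k).1 b0 := by
    rcases hkb with h | h
    · exact ⟨1, Or.inl rfl, fun g => by rw [one_mul, mul_one], by rw [h, hvk, one_mul]⟩
    · refine ⟨Co0Basic.negCo0, Or.inr rfl, fun g => ?_, ?_⟩
      · exact (Subgroup.mem_center_iff.1 Co0Basic.negCo0_mem_center g).symm
      · rw [h, hvk, mul_app, Co0Basic.negCo0_apply]
  have hε2 : ε * ε = 1 := by
    rcases hε with rfl | rfl
    · exact one_mul 1
    · apply Subtype.ext
      ext1 v
      show Co0Basic.negCo0.1 (Co0Basic.negCo0.1 v) = v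
      rw [Co0Basic.negCo0_apply, Co0Basic.negCo0_apply, neg_neg]
  -- action on the images of `b₀`
  have key : ∀ s : Co0, KS c s → (c ^ 3).1 (s.1 b0) = ε.1 (s.1 b0) := by
    intro s hs
    obtain ⟨j, hj⟩ := (VS_spec hs.com).2
    have h1 : c.1 (s.1 b0) = (ε * ev [1] ^ (k + j)).1 (s.1 b0) := by
      have h2 : c * s = s * (s⁻¹ * (c * s * c⁻¹)) * c := by group
      have hz : ∀ n : ℕ, s * ev [1] ^ n = ev [1] ^ n * s := fun n => (Commute.pow_right (show Commute s (ev [1]) from hs.z) n).eq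
      have hv1 := (VS_spec hs.com).1
      have hv2 : (s⁻¹ * (c * s * c⁻¹)) * ev [1] ^ k = ev [1] ^ k * (s⁻¹ * (c * s * c⁻¹)) :=
        (Commute.pow_right (show Commute _ (ev [1]) from hv1) k).eq
      rw [← mul_app, h2, mul_app, hεb, ← mul_app]
      have h3 : s * (s⁻¹ * (c * s * c⁻¹)) * (ε * ev [1] ^ k) = ε * ev [1] ^ k * s * (s⁻¹ * (c * s * c⁻¹)) := by
        rw [← mul_assoc, ← hεc, mul_assoc, mul_assoc, hv2, ← mul_assoc s, hz]
        simp only [mul_assoc]
      rw [h3, mul_app, hj, ← mul_app, ← mul_app]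
      congr 2
      rw [mul_assoc, hz, ← mul_assoc, mul_assoc ε, ← pow_add]
    have hcm : ∀ n : ℕ, c * ev [1] ^ n = ev [1] ^ n * c := fun n => (Commute.pow_right (show Commute c (ev [1]) from hc1) n).eq
    have h2 : ∀ n : ℕ, (c ^ n).1 (s.1 b0) = (ε ^ n * ev [1] ^ (n * (k + j))).1 (s.1 b0) := by
      intro n
      induction n with
      | zero => simp only [_root_.pow_zero, _root_.OneMemClass.coe_one, _root_.Equiv.Perm.coe_one, _root_.id_eq, _root_.MulZeroClass.zero_mul, _root_.mul_one]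
      | succ n ih =>
        rw [pow_succ', mul_app, ih, ← mul_app]
        have h4 : c * (ε ^ n * ev [1] ^ (n * (k + j))) = ε ^ n * ev [1] ^ (n * (k + j)) * c := by
          rw [← mul_assoc, ((show Commute ε c from hεc c).pow_left n).eq.symm, mul_assoc, hcm, mul_assoc]
        rw [h4, mul_app, h1, ← mul_app]
        congr 2
        rw [mul_assoc, ← mul_assoc (ev [1] ^ _) ε, ← hεc, mul_assoc ε, ← pow_add, ← mul_assoc, ← pow_succ]
        congr 2
        ring
    rw [h2 3, mul_comm 3 (k + j), mul_comm (k + j) 3, pow_mul, z3', one_pow, mul_one]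
    congr 2
    rw [pow_succ, pow_two, hε2, one_mul]
  have h10 : ε * c ^ 3 = 1 := by
    refine fix_one ?_ ?_
    · have : c ^ 3 * ev [1] = ev [1] * c ^ 3 := ((show Commute c (ev [1]) from hc1).pow_left 3).eq
      rw [mul_assoc, this, ← mul_assoc, hεc, mul_assoc]
    · intro n hn
      have h11 : KS c (ev (wn n)) := by
        have h12 : ev (wn n) = ev [1] ^ (n % 3) * (ev [7] ^ (n / 9) * ev [9] ^ (n / 3 % 3)) := by
          unfold wn
          rw [ev_append, ev_append]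
          unfold ev
          simp only [List.map_replicate, List.prod_replicate, List.map_cons, List.map_nil, List.prod_cons, List.prod_nil, mul_one]
        rw [h12]
        refine KS.mul (KS.pow ⟨fun v hv => ?_, ?_, rfl⟩ _) ((K7.pow _).mul (K9.pow _))
        · rw [mul_assoc, (VS_spec hv).1, inv_mul_cancel_left]; exact hv
        · rw [hc1, mul_inv_cancel_right, inv_mul_cancel]; exact VS.one_mem
      show (ε * c ^ 3).1 ((ev (wn n)).1 b0) = (ev (wn n)).1 b0
      rw [mul_app, key _ h11, ← mul_app, hε2, one_app]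
  have h11 : c ^ 3 = ε := by
    calc c ^ 3 = ε * (ε * c ^ 3) := by rw [← mul_assoc, hε2, one_mul]
      _ = ε := by rw [h10, mul_one]
  rw [h11]
  exact hε

/-- If `g` and `h` induce `α` and `β` on the Sylow subgroup and `β⁻¹ α` is trivial on `V` and on `S/V`, then
`(h⁻¹ g) ^ 3 = ± 1`. -/
theorem cube_of_real {P : Type*} [Group P] (φ : P →* Co0) {W : Subgroup P} (hW : W.map φ = VS)
    (h7 : ev [7] ∈ φ.range) (h9 : ev [9] ∈ φ.range) {α β : P → P} {g h : Co0} (hg : ∀ x, φ (α x) = g * φ x * g⁻¹)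
    (hh : ∀ x, φ (β x) = h * φ x * h⁻¹) (hαW : ∀ x ∈ W, α x = β x) (hx : ∀ x, ∃ w ∈ W, α x = β (x * w)) :
    (h⁻¹ * g) ^ 3 = 1 ∨ (h⁻¹ * g) ^ 3 = Co0Basic.negCo0 := by
  have h1 : ∀ x, ∃ w ∈ W, (h⁻¹ * g) * φ x * (h⁻¹ * g)⁻¹ = φ (x * w) := by
    intro x
    obtain ⟨w, hw, hw1⟩ := hx x
    refine ⟨w, hw, ?_⟩
    have h2 := hg x
    rw [hw1, hh] at h2
    have h3 : (h⁻¹ * g) * φ x * (h⁻¹ * g)⁻¹ = h⁻¹ * (g * φ x * g⁻¹) * h := by group
    rw [h3, ← h2]
    group
  have h2 : ∀ y ∈ φ.range, y⁻¹ * ((h⁻¹ * g) * y * (h⁻¹ * g)⁻¹) ∈ VS := by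
    rintro _ ⟨x, rfl⟩
    obtain ⟨w, hw, hw1⟩ := h1 x
    rw [hw1, map_mul, inv_mul_cancel_left, ← hW]
    exact Subgroup.mem_map_of_mem φ hw
  refine cube_eq (fun v hv => ?_) (h2 _ h7) (h2 _ h9)
  rw [← hW] at hv
  obtain ⟨x, hx1, rfl⟩ := hv
  have h3 : (h⁻¹ * g) * φ x * (h⁻¹ * g)⁻¹ = φ x := by
    have h4 := hg x
    rw [hαW x hx1, hh] at h4
    have h5 : (h⁻¹ * g) * φ x * (h⁻¹ * g)⁻¹ = h⁻¹ * (g * φ x * g⁻¹) * h := by group
    rw [h5, ← h4]
    group
  rwa [mul_inv_eq_iff_eq_mul] at h3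

end Cfsg.Agent.H764.U4

private theorem dce_729a9dce138d : _root_.True := by
  try have : _root_.True := by simp only [_root_.Cfsg.Agent.H764.U4.e8L.eq_1]
  try have : _root_.True := by simp only [_root_.Cfsg.Agent.H764.U4.addL.eq_1]
  try have : _root_.True := by simp only [_root_.Cfsg.Agent.H764.U4.comb.eq_def]
  try have : _root_.True := by simp only [_root_.Cfsg.Agent.H764.U4.comb.eq_2]
  try have : _root_.True := by simp only [_root_.Cfsg.Agent.H764.U4.comb.eq_1]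
  try have : _root_.True := by simp only [_root_.Cfsg.dotInt.eq_1]
  try have : _root_.True := by simp only [_root_.Cfsg.Agent.H764.U4.fr.eq_1]
  try have : _root_.True := by simp only [_root_.Cfsg.Agent.H764.U4.smL.eq_1]
  try have : _root_.True := by simp only [_root_.Cfsg.Agent.H764.U4.Nn.eq_1]
  try have : _root_.True := by simp only [_root_.Cfsg.Agent.H764.U4.comb._sparseCasesOn_1.else_eq]
  exact _root_.True.intro
end
end
end
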